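import Mathlib

/-!
# Unipotent maps on small subspaces (helper161)
-/

set_option autoImplicit false

namespace Cfsg.Agent.H161.Nil

open Module

variable {K : Type*} [Field K] {M : Type*} [AddCommGroup M] [Module K M]

/-- A locally nilpotent endomorphism of a subspace of dimension at most `d` has `N ^ d = 0` there. -/
theorem pow_zero_on {N : Module.End K M} {r : ℕ} (hN : N ^ r = 0) (W : Submodule K M)
    [FiniteDimensional K W] (hW : ∀ w ∈ W, N w ∈ W) {d : ℕ} (hd : finrank K W ≤ d) :
    ∀ w ∈ W, (N ^ d) w = 0 := by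
  intro w hw
  set f : Module.End K W := N.restrict hW with hf
  have hpow : ∀ k (x : W), (((f ^ k) x : W) : M) = (N ^ k) (x : M) := by
    intro k
    induction k with
    | zero => intro x; simp
    | succ k ih =>
      intro x
      rw [pow_succ, pow_succ, Module.End.mul_apply, Module.End.mul_apply, ih]
      rfl
  have h1 : f ^ r = 0 := by
    apply LinearMap.ext
    intro x
    apply Subtype.ext
    rw [hpow, hN]; rfl
  have h2 : (⟨w, hw⟩ : W) ∈ LinearMap.ker (f ^ r) := by rw [h1]; simp
  have h3 := Module.End.ker_pow_le_ker_pow_finrank f r h2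
  rw [LinearMap.mem_ker] at h3
  have h4 : (N ^ finrank K W) w = 0 := by
    have := hpow (finrank K W) ⟨w, hw⟩
    rw [h3] at this
    exact this.symm
  obtain ⟨e, he⟩ := Nat.exists_eq_add_of_le hd
  rw [he, add_comm, pow_add, Module.End.mul_apply, h4, map_zero]

/-- A unipotent isometry of a nondegenerate quadratic space of dimension at most four has no Jordan
block of size four. -/
theorem cube_zero (h2 : (2 : K) ≠ 0) (B : M →ₗ[K] M →ₗ[K] K) (hB : ∀ x y, B x y = B y x)
    {u : M →ₗ[K] M} (hu : ∀ x y, B (u x) (u y) = B x y) (W : Submodule K M)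
    [FiniteDimensional K W] (hW : ∀ w ∈ W, u w ∈ W) (hd : finrank K W ≤ 4)
    (hnd : ∀ w ∈ W, (∀ y ∈ W, B w y = 0) → w = 0) {N : Module.End K M} (hNu : ∀ x, N x = u x - x)
    {r : ℕ} (hN : N ^ r = 0) : ∀ w ∈ W, (N ^ 3) w = 0 := by
  have hNW : ∀ w ∈ W, N w ∈ W := fun w hw => by
    rw [hNu]; exact W.sub_mem (hW w hw) hw
  have h4 := pow_zero_on hN W hNW hd
  intro x0 hx0
  by_contra hw0
  -- the four vectors
  have n1 : N x0 ∈ W := hNW _ hx0
  have n2 : N (N x0) ∈ W := hNW _ n1
  have n3 : N (N (N x0)) ∈ W := hNW _ n2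
  have e3 : ∀ y, (N ^ 3) y = N (N (N y)) := fun y => by
    rw [pow_succ, pow_succ, pow_one]; rfl
  have e4 : ∀ y ∈ W, N (N (N (N y))) = 0 := fun y hy => by
    rw [← h4 y hy, pow_succ, pow_succ, pow_succ, pow_one]; rfl
  rw [e3] at hw0
  let v : Fin 4 → W := ![⟨x0, hx0⟩, ⟨N x0, n1⟩, ⟨N (N x0), n2⟩, ⟨N (N (N x0)), n3⟩]
  have hli : LinearIndependent K v := by
    rw [Fintype.linearIndependent_iff]
    intro g hg
    rw [Fin.sum_univ_four] at hg
    have hg' : g 0 • x0 + g 1 • N x0 + g 2 • N (N x0) + g 3 • N (N (N x0)) = 0 := by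
      have := congrArg (Subtype.val) hg
      simpa [v] using this
    have g0 : g 0 = 0 := by
      have := congrArg (fun z => N (N (N z))) hg'
      simp only [map_add, map_smul, e4 _ hx0, e4 _ n1, e4 _ n2, smul_zero, add_zero, map_zero] at this
      exact (smul_eq_zero.1 this).resolve_right hw0
    rw [g0, zero_smul, zero_add] at hg'
    have g1 : g 1 = 0 := by
      have := congrArg (fun z => N (N z)) hg'
      simp only [map_add, map_smul, e4 _ hx0, e4 _ n1, smul_zero, add_zero, map_zero] at this
      exact (smul_eq_zero.1 this).resolve_right hw0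
    rw [g1, zero_smul, zero_add] at hg'
    have g2 : g 2 = 0 := by
      have := congrArg (fun z => N z) hg'
      simp only [map_add, map_smul, e4 _ hx0, smul_zero, add_zero, map_zero] at this
      exact (smul_eq_zero.1 this).resolve_right hw0
    rw [g2, zero_smul, zero_add] at hg'
    have g3 : g 3 = 0 := (smul_eq_zero.1 hg').resolve_right hw0
    intro i
    fin_cases i <;> assumption
  have hfr : finrank K W = 4 := by
    have := hli.fintype_card_le_finrank
    rw [Fintype.card_fin] at this
    omega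
  have hspan : ∀ y ∈ W, ∃ c : K, N (N (N y)) = c • N (N (N x0)) := by
    intro y hy
    have h1 : (⟨y, hy⟩ : W) ∈ Submodule.span K (Set.range v) := by
      rw [hli.span_eq_top_of_card_eq_finrank' (by rw [hfr, Fintype.card_fin])]
      trivial
    rw [Submodule.mem_span_range_iff_exists_fun] at h1
    obtain ⟨g, hg⟩ := h1
    rw [Fin.sum_univ_four] at hg
    have hg' : g 0 • x0 + g 1 • N x0 + g 2 • N (N x0) + g 3 • N (N (N x0)) = y := by
      have := congrArg (Subtype.val) hg
      simpa [v] using this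
    refine ⟨g 0, ?_⟩
    rw [← hg']
    simp only [map_add, map_smul, e4 _ hx0, e4 _ n1, e4 _ n2, smul_zero, add_zero, map_zero]
  -- skew symmetry
  have key : ∀ a b, B (N a) (u b) = -B a (N b) := by
    intro a b
    rw [hNu, hNu, map_sub, LinearMap.sub_apply, hu, map_sub]; ring
  have huN : ∀ b, u (N b) = N (u b) := by
    intro b; rw [hNu, hNu, map_sub]
  have z1 : ∀ a ∈ W, ∀ b, B (N (N (N a))) (N b) = 0 := by
    intro a ha b
    have := key (N (N (N a))) b
    rw [e4 a ha, map_zero, LinearMap.zero_apply] at this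
    exact neg_eq_zero.1 this.symm
  have z2 : ∀ a ∈ W, ∀ b, B (N (N (N a))) (u b) = B (N (N (N a))) b := by
    intro a ha b
    have : u b = N b + b := by rw [hNu]; abel
    rw [this, map_add, z1 a ha, zero_add]
  have skew : ∀ a ∈ W, ∀ b, B (N (N (N a))) b = -B a (N (N (N b))) := by
    intro a ha b
    rw [← z2 a ha b, ← z2 a ha (u b), ← z2 a ha (u (u b)), key, ← huN, key, ← huN, ← huN, key]
    ring
  have s0 : B (N (N (N x0))) x0 = 0 := by
    have := skew x0 hx0 x0
    rw [hB x0] at this
    have h3 : (2 : K) * B (N (N (N x0))) x0 = 0 := by linear_combination this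
    exact (mul_eq_zero.1 h3).resolve_left h2
  apply hw0
  apply hnd _ n3
  intro y hy
  obtain ⟨c, hc⟩ := hspan y hy
  rw [skew x0 hx0 y, hc, map_smul, hB x0, s0]
  simp

end Cfsg.Agent.H161.Nil
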