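import Cfsg.Agent.H161.OctSL
import Cfsg.Agent.H161.Nil

/-!
# Unipotent automorphisms of the octonions commuting with a diagonal one (helper161)
-/

set_option autoImplicit false
set_option linter.unusedSimpArgs false

namespace Cfsg.Agent.H161.Oct

open Cfsg.Lie Module

variable {K : Type*} [Field K]

/-- the diagonal entries -/
def dg (a b c : K) : Fin 8 → K := ![1, a, b, c, a⁻¹, b⁻¹, c⁻¹, 1]

open Classical in
/-- the number of indices with diagonal entry `l` -/
noncomputable def mult (a b c l : K) : ℕ := (Finset.univ.filter fun j => dg a b c j = l).card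

open Classical in
/-- contribution of one pair -/
noncomputable def cnt (x l : K) : ℕ := (if x = l then 1 else 0) + (if x⁻¹ = l then 1 else 0)

open Classical in
theorem mult_eq (a b c l : K) :
    mult a b c l = (if (1 : K) = l then 2 else 0) + cnt a l + cnt b l + cnt c l := by
  rw [mult, Finset.card_filter, Fin.sum_univ_eight, cnt, cnt, cnt]
  show (if (1 : K) = l then 1 else 0) + (if a = l then 1 else 0) + (if b = l then 1 else 0) +
    (if c = l then 1 else 0) + (if a⁻¹ = l then 1 else 0) + (if b⁻¹ = l then 1 else 0) +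
    (if c⁻¹ = l then 1 else 0) + (if (1 : K) = l then 1 else 0) = _
  have h1 : (if (1 : K) = l then 2 else 0) = (if (1 : K) = l then 1 else 0) +
    (if (1 : K) = l then 1 else 0) := by split_ifs <;> rfl
  rw [h1]
  omega

theorem cnt_le_one {x l : K} (hl : l ≠ l⁻¹) : cnt x l ≤ 1 := by
  rw [cnt]
  by_cases h1 : x = l
  · rw [if_pos h1, if_neg]
    intro h2
    apply hl
    rw [h1] at h2
    exact h2.symm
  · rw [if_neg h1]
    split_ifs <;> omega

theorem cnt_le_two (x l : K) : cnt x l ≤ 2 := by
  rw [cnt]; split_ifs <;> omega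

theorem cnt_zero {x l : K} (hl : l = l⁻¹) (h : x ≠ l) : cnt x l = 0 := by
  rw [cnt, if_neg h, if_neg]
  intro h2
  apply h
  rw [hl, ← h2, inv_inv]

theorem cnt_zero' {x l : K} (h : x ≠ l) (h' : x⁻¹ ≠ l) : cnt x l = 0 := by
  rw [cnt, if_neg h, if_neg h']

theorem cnt_pos {x l : K} (h : cnt x l ≠ 0) : x = l ∨ x = l⁻¹ := by
  rw [cnt] at h
  by_cases h1 : x = l
  · exact Or.inl h1
  · by_cases h2 : x⁻¹ = l
    · right; rw [← h2, inv_inv]
    · rw [if_neg h1, if_neg h2] at h; exact absurd rfl h

/-- the multiplicities are at most four -/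
theorem mult_le_four {a b c l : K} (habc : a * b * c = 1) (hl0 : l ≠ 0)
    (h1 : ¬ (a = 1 ∧ b = 1 ∧ c = 1)) : mult a b c l ≤ 4 := by
  rw [mult_eq]
  by_cases hl : l = l⁻¹
  · by_cases hl1 : l = 1
    · subst hl1
      rw [if_pos rfl]
      by_cases ha : a = 1
      · have hb : b ≠ 1 := fun hb => h1 ⟨ha, hb, by rw [ha, hb] at habc; simpa using habc⟩
        have hc : c ≠ 1 := fun hc => h1 ⟨ha, by rw [ha, hc] at habc; simpa using habc, hc⟩
        rw [cnt_zero hl hb, cnt_zero hl hc]
        have := cnt_le_two a 1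
        omega
      · by_cases hb : b = 1
        · have hc : c ≠ 1 := fun hc => h1 ⟨by rw [hb, hc] at habc; simpa using habc, hb, hc⟩
          rw [cnt_zero hl ha, cnt_zero hl hc]
          have := cnt_le_two b 1
          omega
        · rw [cnt_zero hl ha, cnt_zero hl hb]
          have := cnt_le_two c 1
          omega
    · rw [if_neg (Ne.symm hl1)]
      have hl2 : l * l = 1 := by
        nth_rw 2 [hl]; exact mul_inv_cancel₀ hl0
      by_cases ha : a = l
      · by_cases hb : b = l
        · by_cases hc : c = l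
          · exfalso
            apply hl1
            rw [ha, hb, hc, hl2, one_mul] at habc
            exact habc
          · rw [cnt_zero hl hc]
            have := cnt_le_two a l
            have := cnt_le_two b l
            omega
        · rw [cnt_zero hl hb]
          have := cnt_le_two a l
          have := cnt_le_two c l
          omega
      · rw [cnt_zero hl ha]
        have := cnt_le_two b l
        have := cnt_le_two c l
        omega
  · have hl1 : (1 : K) ≠ l := by rintro rfl; exact hl inv_one.symm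
    rw [if_neg hl1]
    have := cnt_le_one (x := a) hl
    have := cnt_le_one (x := b) hl
    have := cnt_le_one (x := c) hl
    omega

/-- the multiplicities of non-selfinverse values are at most three -/
theorem mult_le_three {a b c l : K} (hl : l ≠ l⁻¹) : mult a b c l ≤ 3 := by
  rw [mult_eq]
  have hl1 : (1 : K) ≠ l := by rintro rfl; exact hl inv_one.symm
  rw [if_neg hl1]
  have := cnt_le_one (x := a) hl
  have := cnt_le_one (x := b) hl
  have := cnt_le_one (x := c) hl
  omega

/-- the multiplicities of non-selfinverse values are at most two unless the order is three -/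
theorem mult_le_two {a b c l : K} (habc : a * b * c = 1) (hl0 : l ≠ 0) (hl : l ≠ l⁻¹)
    (h3 : ¬ (a ^ 3 = 1 ∧ b ^ 3 = 1 ∧ c ^ 3 = 1)) : mult a b c l ≤ 2 := by
  rw [mult_eq]
  have hl1 : (1 : K) ≠ l := by rintro rfl; exact hl inv_one.symm
  rw [if_neg hl1]
  have ha := cnt_le_one (x := a) hl
  have hb := cnt_le_one (x := b) hl
  have hc := cnt_le_one (x := c) hl
  by_contra hcon
  have ha' := cnt_pos (x := a) (l := l) (by omega)
  have hb' := cnt_pos (x := b) (l := l) (by omega)
  have hc' := cnt_pos (x := c) (l := l) (by omega)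
  have hl3 : l ^ 3 = 1 := by
    by_contra hl3
    rcases ha' with h1 | h1 <;> rcases hb' with h2 | h2 <;> rcases hc' with h3 | h3 <;>
      rw [h1, h2, h3] at habc
    · apply hl3; rw [← habc]; ring
    · apply hl1; rw [← habc]; field_simp
    · apply hl1; rw [← habc]; field_simp
    · apply hl1
      have : l⁻¹ = 1 := by rw [← habc]; field_simp
      exact (inv_eq_one.1 this).symm
    · apply hl1; rw [← habc]; field_simp
    · apply hl1
      have : l⁻¹ = 1 := by rw [← habc]; field_simp
      exact (inv_eq_one.1 this).symm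
    · apply hl1
      have : l⁻¹ = 1 := by rw [← habc]; field_simp
      exact (inv_eq_one.1 this).symm
    · apply hl3
      have : (l ^ 3)⁻¹ = 1 := by rw [← habc]; field_simp
      exact inv_eq_one.1 this
  apply h3
  have hl3' : l⁻¹ ^ 3 = 1 := by rw [inv_pow, hl3, inv_one]
  refine ⟨?_, ?_, ?_⟩
  · rcases ha' with h | h <;> rw [h] <;> assumption
  · rcases hb' with h | h <;> rw [h] <;> assumption
  · rcases hc' with h | h <;> rw [h] <;> assumption

/-- a subspace of coordinate vectors -/
theorem finrank_coord (J : Finset (Fin 8)) (W : Submodule K (V K))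
    (h : ∀ x ∈ W, ∀ j, j ∉ J → x j = 0) : finrank K W ≤ J.card := by
  have h1 : finrank K (J → K) = J.card := by simp
  rw [← h1]
  apply LinearMap.finrank_le_finrank_of_injective
    (f := (LinearMap.funLeft K K (Subtype.val : J → Fin 8)) ∘ₗ W.subtype)
  rw [← LinearMap.ker_eq_bot, LinearMap.ker_eq_bot']
  intro x hx
  apply Subtype.ext
  funext j
  by_cases hj : j ∈ J
  · exact congrFun hx ⟨j, hj⟩
  · exact h x x.2 j hj

/-- the coordinate space of the value `l` -/
def Wl (a b c l : K) : Submodule K (V K) where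
  carrier := {x | ∀ j, dg a b c j ≠ l → x j = 0}
  zero_mem' := fun j _ => rfl
  add_mem' := fun {x y} hx hy j hj => by rw [Pi.add_apply, hx j hj, hy j hj, add_zero]
  smul_mem' := fun r x hx j hj => by rw [Pi.smul_apply, hx j hj, smul_zero]

theorem mem_Wl {a b c l : K} {x : V K} : x ∈ Wl a b c l ↔ ∀ j, dg a b c j ≠ l → x j = 0 := Iff.rfl

theorem finrank_Wl (a b c l : K) : finrank K (Wl a b c l) ≤ mult a b c l := by
  classical
  rw [mult]
  apply finrank_coord
  intro x hx j hj
  apply hx
  intro h
  apply hj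
  simp only [Finset.mem_filter, Finset.mem_univ, true_and]
  exact h

theorem single_mem_Wl (a b c : K) (i : Fin 8) : (Pi.single i 1 : V K) ∈ Wl a b c (dg a b c i) := by
  intro j hj
  rw [Pi.single_apply, if_neg]
  rintro rfl
  exact hj rfl

/-- the nilpotent part -/
def nil (u : V K ≃ₗ[K] V K) : Module.End K (V K) := (u : V K →ₗ[K] V K) - 1

theorem nil_apply (u : V K ≃ₗ[K] V K) (x : V K) : nil u x = u x - x := rfl

section Comm

variable {a b c : K} {s u : V K ≃ₗ[K] V K} (hs : ∀ x j, s x j = dg a b c j * x j)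
  (hsu : ∀ x, u (s x) = s (u x))

include hs hsu

theorem map_Wl {l : K} {x : V K} (hx : x ∈ Wl a b c l) : u x ∈ Wl a b c l := by
  have h1 : s x = l • x := by
    funext j
    rw [hs, Pi.smul_apply, smul_eq_mul]
    by_cases hj : dg a b c j = l
    · rw [hj]
    · rw [hx j hj, mul_zero, mul_zero]
  intro j hj
  have h2 := hsu x
  rw [h1, map_smul] at h2
  have h3 := congrFun h2 j
  rw [Pi.smul_apply, smul_eq_mul, hs] at h3
  have h4 : (dg a b c j - l) * u x j = 0 := by linear_combination -h3
  exact (mul_eq_zero.1 h4).resolve_left (sub_ne_zero.2 hj)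

theorem nil_Wl {l : K} {x : V K} (hx : x ∈ Wl a b c l) : nil u x ∈ Wl a b c l :=
  (Wl a b c l).sub_mem (map_Wl hs hsu hx) hx

/-- the basic consequence -/
theorem nil_pow_single {r : ℕ} (hr : nil u ^ r = 0) {d : ℕ} (i : Fin 8)
    (hd : mult a b c (dg a b c i) ≤ d) : (nil u ^ d) (Pi.single i 1) = 0 :=
  Nil.pow_zero_on hr (Wl a b c (dg a b c i)) (fun w hw => nil_Wl hs hsu hw)
    ((finrank_Wl _ _ _ _).trans hd) _ (single_mem_Wl a b c i)

end Comm

theorem dg_ne_zero {a b c : K} (habc : a * b * c = 1) (i : Fin 8) : dg a b c i ≠ 0 := by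
  have ha : a ≠ 0 := by rintro rfl; simp at habc
  have hb : b ≠ 0 := by rintro rfl; simp at habc
  have hc : c ≠ 0 := by rintro rfl; simp at habc
  fin_cases i <;> simp [dg, ha, hb, hc]

/-- an endomorphism vanishing on the basis vectors vanishes -/
theorem eq_zero_of_single {T : Module.End K (V K)} (h : ∀ i, T (Pi.single i 1) = 0) : T = 0 := by
  apply (Pi.basisFun K (Fin 8)).ext
  intro i
  rw [Pi.basisFun_apply, h]; rfl

end Cfsg.Agent.H161.Oct
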