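import Cfsg.Agent.H161.OctFix
import Cfsg.Agent.H161.OctMixed

/-!
# Orders of unipotent automorphisms commuting with a diagonal one (helper161)
-/

set_option autoImplicit false
set_option linter.unusedSimpArgs false
set_option linter.unusedVariables false

namespace Cfsg.Agent.H161.Oct

open Cfsg.Lie Module

variable {K : Type*} [Field K]

theorem coe_pow_end (u : V K ≃ₗ[K] V K) (n : ℕ) :
    ((u ^ n : V K ≃ₗ[K] V K) : Module.End K (V K)) = (u : Module.End K (V K)) ^ n := by
  induction n with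
  | zero => rfl
  | succ n ih =>
    rw [pow_succ, pow_succ, ← ih]
    rfl

section Char

variable {p : ℕ} [Fact p.Prime] [CharP K p]

omit [Fact p.Prime] in
theorem charP_end : CharP (Module.End K (V K)) p :=
  charP_of_injective_algebraMap (algebraMap K (Module.End K (V K))).injective p

theorem nil_pow_char (u : V K ≃ₗ[K] V K) (n : ℕ) :
    nil u ^ p ^ n = (u : Module.End K (V K)) ^ p ^ n - 1 := by
  have := charP_end (K := K) (p := p)
  have h := sub_pow_char_pow_of_commute (R := Module.End K (V K)) p n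
    (x := (u : Module.End K (V K))) (y := 1) (Commute.one_right _)
  rw [one_pow] at h
  exact h

theorem nil_nilpotent {u : V K ≃ₗ[K] V K} {n : ℕ} (h : u ^ p ^ n = 1) : nil u ^ p ^ n = 0 := by
  rw [nil_pow_char, ← coe_pow_end, h]
  exact sub_self _

theorem pow_eq_one {u : V K ≃ₗ[K] V K} {n d : ℕ} (hd : d ≤ p ^ n) (h : nil u ^ d = 0) :
    u ^ p ^ n = 1 := by
  have h1 : nil u ^ p ^ n = 0 := by
    obtain ⟨e, he⟩ := Nat.exists_eq_add_of_le hd
    rw [he, pow_add, h, zero_mul]
  rw [nil_pow_char, sub_eq_zero, ← coe_pow_end] at h1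
  ext1 x
  have := LinearMap.congr_fun h1 x
  exact this

end Char

/-- the coordinate indices are paired -/
theorem bl_single (x : V K) (j : Fin 8) : ∃ j' : Fin 8, (∀ a b c : K,
    dg a b c j' = (dg a b c j)⁻¹) ∧ (bl x (Pi.single j' 1) = x j ∨ bl x (Pi.single j' 1) = -x j) := by
  fin_cases j
  · exact ⟨7, fun a b c => by simp [dg], Or.inl (bl_single7 x)⟩
  · exact ⟨4, fun a b c => by simp [dg], Or.inr (bl_single4 x)⟩
  · exact ⟨5, fun a b c => by simp [dg], Or.inr (bl_single5 x)⟩
  · exact ⟨6, fun a b c => by simp [dg], Or.inr (bl_single6 x)⟩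
  · exact ⟨1, fun a b c => by simp [dg], Or.inr (bl_single1 x)⟩
  · exact ⟨2, fun a b c => by simp [dg], Or.inr (bl_single2 x)⟩
  · exact ⟨3, fun a b c => by simp [dg], Or.inr (bl_single3 x)⟩
  · exact ⟨0, fun a b c => by simp [dg], Or.inl (bl_single0 x)⟩

/-- the space of a self-inverse value is nondegenerate -/
theorem nondeg_Wl {a b c l : K} (hl : l = l⁻¹) {w : V K} (hw : w ∈ Wl a b c l)
    (h : ∀ y ∈ Wl a b c l, bl w y = 0) : w = 0 := by
  funext j
  by_cases hj : dg a b c j = l
  · obtain ⟨j', h1, h2⟩ := bl_single w j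
    have h3 : (Pi.single j' 1 : V K) ∈ Wl a b c l := by
      have := single_mem_Wl a b c j'
      rwa [h1, hj, ← hl] at this
    have h4 := h _ h3
    rcases h2 with h2 | h2
    · rw [h2] at h4; exact h4
    · rw [h2] at h4; exact neg_eq_zero.1 h4
  · exact hw j hj

section Comm

variable {a b c : K} {s u : V K ≃ₗ[K] V K} (hs : ∀ x j, s x j = dg a b c j * x j)
  (hsu : ∀ x, u (s x) = s (u x)) (hu : u ∈ AutO K) {r : ℕ} (hr : nil u ^ r = 0)
  (habc : a * b * c = 1)

include hs hsu hr habc

/-- the Jordan blocks are at most four -/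
theorem nil_pow_four (h1 : ¬ (a = 1 ∧ b = 1 ∧ c = 1)) : nil u ^ 4 = 0 :=
  eq_zero_of_single fun i =>
    nil_pow_single hs hsu hr i (mult_le_four habc (dg_ne_zero habc i) h1)

include hu in
/-- the Jordan blocks are at most three for odd characteristic -/
theorem nil_pow_three (h2 : (2 : K) ≠ 0) (h1 : ¬ (a = 1 ∧ b = 1 ∧ c = 1)) : nil u ^ 3 = 0 := by
  apply eq_zero_of_single
  intro i
  by_cases hl : dg a b c i = (dg a b c i)⁻¹
  · apply Nil.cube_zero h2 (blL K) (fun x y => bl_comm x y) (u := (u : V K →ₗ[K] V K))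
      (fun x y => map_bl hu x y) (Wl a b c (dg a b c i)) (fun w hw => map_Wl hs hsu hw)
      ((finrank_Wl _ _ _ _).trans (mult_le_four habc (dg_ne_zero habc i) h1))
      (fun w hw hy => nondeg_Wl hl hw hy) (fun x => nil_apply u x) hr _ (single_mem_Wl a b c i)
  · exact nil_pow_single hs hsu hr i (mult_le_three hl)

include hu in
/-- odd characteristic: a unipotent element commuting with a non-trivial semisimple one -/
theorem mixed_odd {p : ℕ} [Fact p.Prime] [CharP K p] (hp : p ≠ 2)
    (h1 : ¬ (a = 1 ∧ b = 1 ∧ c = 1)) : u ^ p = 1 := by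
  have hpp : p.Prime := Fact.out
  have h2 : (2 : K) ≠ 0 := by
    intro h
    have h3 : ((2 : ℕ) : K) = 0 := by exact_mod_cast h
    rw [CharP.cast_eq_zero_iff K p] at h3
    exact hp ((Nat.prime_dvd_prime_iff_eq hpp Nat.prime_two).1 h3)
  have h3 : 3 ≤ p := by
    have := hpp.two_le
    omega
  have := pow_eq_one (p := p) (n := 1) (by rwa [pow_one])
    (nil_pow_three hs hsu hu hr habc h2 h1)
  rwa [pow_one] at this

/-- characteristic two: order at most four -/
theorem mixed_two_four [CharP K 2] (h1 : ¬ (a = 1 ∧ b = 1 ∧ c = 1)) : u ^ 4 = 1 := by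
  have : Fact (Nat.Prime 2) := ⟨Nat.prime_two⟩
  have := pow_eq_one (p := 2) (n := 2) (by norm_num) (nil_pow_four hs hsu hr habc h1)
  exact this

end Comm

/-! ### The fixed quaternion algebra in characteristic two -/

theorem nil_sq_apply [CharP K 2] (u : V K ≃ₗ[K] V K) (x : V K) : (nil u ^ 2) x = u (u x) - x := by
  have h2 : (2 : K) = 0 := by exact_mod_cast CharP.cast_eq_zero K 2
  have h3 : (2 : K) • u x = 0 := by rw [h2, zero_smul]
  rw [two_smul] at h3
  rw [pow_two, Module.End.mul_apply, nil_apply, nil_apply, map_sub]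
  have : u (u x) - u x - (u x - x) = u (u x) - x - (u x + u x) + (x + x) := by abel
  rw [this, h3, sub_zero]
  have h4 : x + x = 0 := by
    rw [← two_smul K x, h2, zero_smul]
  rw [h4, add_zero]

section Quat

variable {W : Submodule K (V K)} {u : V K ≃ₗ[K] V K} (hu : u ∈ AutO K) {r : ℕ}
  (hr : nil u ^ r = 0) (hW : ∀ x ∈ W, u x ∈ W) {i j : Fin 8}
  (hx : ∀ x ∈ W, tr x = 0 → ∃ α β γ : K, x = α • o + β • Pi.single i 1 + γ • Pi.single j 1)

include hu hr hW hx

/-- `u²` is the identity on the vectors of trace zero -/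
theorem sq_on_trace [CharP K 2] {x : V K} (hxW : x ∈ W) (hxt : tr x = 0) : u (u x) = x := by
  have huo := map_o hu
  -- the quotient by `o`
  let U0 : Submodule K (V K) := Submodule.span K {o}
  have hU0 : ∀ y ∈ U0, nil u y = 0 := by
    intro y hy
    obtain ⟨t, rfl⟩ := Submodule.mem_span_singleton.1 hy
    rw [nil_apply, map_smul, huo, sub_self]
  have hle : U0 ≤ U0.comap (nil u) := by
    intro y hy
    rw [Submodule.mem_comap, hU0 y hy]
    exact U0.zero_mem
  let Nb : Module.End K (V K ⧸ U0) := U0.mapQ U0 (nil u) hle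
  have hNb : ∀ k y, (Nb ^ k) (U0.mkQ y) = U0.mkQ ((nil u ^ k) y) := by
    intro k
    induction k with
    | zero => intro y; rfl
    | succ k ih =>
      intro y
      rw [pow_succ, pow_succ, Module.End.mul_apply, Module.End.mul_apply, ← ih]
      rfl
  have hNbr : Nb ^ r = 0 := by
    apply LinearMap.ext
    intro y
    obtain ⟨y, rfl⟩ := U0.mkQ_surjective y
    rw [hNb, hr]; simp
  let T : Submodule K (V K) := W ⊓ LinearMap.ker (trL K)
  let Wb : Submodule K (V K ⧸ U0) := T.map U0.mkQ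
  have hWbst : ∀ w ∈ Wb, Nb w ∈ Wb := by
    rintro _ ⟨y, hy, rfl⟩
    refine ⟨nil u y, ⟨W.sub_mem (hW y hy.1) hy.1, ?_⟩, ?_⟩
    · show trL K (nil u y) = 0
      rw [nil_apply, map_sub, trL_apply, trL_apply, map_tr hu, sub_self]
    · exact (hNb 1 y).symm
  have hfr : finrank K Wb ≤ 2 := by
    have h1 : Wb ≤ Submodule.span K ({U0.mkQ (Pi.single i 1), U0.mkQ (Pi.single j 1)} : Set _) := by
      rintro _ ⟨y, hy, rfl⟩
      obtain ⟨α, β, γ, h⟩ := hx y hy.1 hy.2
      rw [h, map_add, map_add, map_smul, map_smul, map_smul]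
      have h0 : U0.mkQ o = 0 := by
        rw [Submodule.mkQ_apply, Submodule.Quotient.mk_eq_zero]
        exact Submodule.mem_span_singleton_self _
      rw [h0, smul_zero, zero_add]
      exact Submodule.add_mem _ (Submodule.smul_mem _ _ (Submodule.subset_span (by simp)))
        (Submodule.smul_mem _ _ (Submodule.subset_span (by simp)))
    refine (Submodule.finrank_mono h1).trans ?_
    classical
    have h2 := finrank_span_finset_le_card (R := K)
      ({U0.mkQ (Pi.single i 1), U0.mkQ (Pi.single j 1)} : Finset (V K ⧸ U0))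
    rw [Set.finrank] at h2
    have h3 : ((({U0.mkQ (Pi.single i 1), U0.mkQ (Pi.single j 1)} : Finset (V K ⧸ U0)) :
      Set (V K ⧸ U0))) = {U0.mkQ (Pi.single i 1), U0.mkQ (Pi.single j 1)} := by simp
    rw [h3] at h2
    exact h2.trans Finset.card_le_two
  have h1 := Nil.pow_zero_on hNbr Wb hWbst hfr (U0.mkQ x) ⟨x, ⟨hxW, hxt⟩, rfl⟩
  rw [hNb, Submodule.mkQ_apply, Submodule.Quotient.mk_eq_zero] at h1
  obtain ⟨t, ht⟩ := Submodule.mem_span_singleton.1 h1
  rw [nil_sq_apply] at ht
  have h2 : u (u x) = x + t • o := by rw [ht]; abel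
  have h3 : nm (u (u x)) = nm x := by rw [map_nm hu, map_nm hu]
  rw [h2, nm_add, nm_smul, nm_o, bl_smul, bl_o, hxt] at h3
  have h4 : t ^ 2 = 0 := by linear_combination h3
  have h5 : t = 0 := by simpa using h4
  rw [h2, h5, zero_smul, add_zero]

/-- `u²` is the identity on the quaternion algebra -/
theorem sq_on_quat [CharP K 2] (hi : (Pi.single i 1 : V K) ∈ W) (hj : (Pi.single j 1 : V K) ∈ W)
    (hti : tr (Pi.single i 1 : V K) = 0) (htj : tr (Pi.single j 1 : V K) = 0)
    (hij : zornMul (Pi.single i 1 : V K) (Pi.single j 1) = Pi.single 0 1) :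
    u (u (Pi.single i 1)) = Pi.single i 1 ∧ u (u (Pi.single j 1)) = Pi.single j 1 ∧
      u (u (Pi.single 0 1)) = Pi.single 0 1 ∧ u (u (Pi.single 7 1)) = Pi.single 7 1 := by
  have h1 := sq_on_trace hu hr hW hx hi hti
  have h2 := sq_on_trace hu hr hW hx hj htj
  have h3 : u (u (Pi.single 0 1)) = Pi.single 0 1 := by
    rw [← hij, mem_AutO.1 hu, mem_AutO.1 hu, h1, h2]
  refine ⟨h1, h2, h3, ?_⟩
  have h4 : (Pi.single 7 1 : V K) = o - Pi.single 0 1 := by
    apply ext8 <;> simp [o]
  rw [h4, map_sub, map_sub, h3, map_o hu, map_o hu]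

end Quat

end Cfsg.Agent.H161.Oct
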