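import Cfsg.Agent.H161.G2Emb
import Cfsg.Agent.H161.OctMixed2
import Cfsg.Agent.H375.LThree.Spec

/-!
# Elements of `AutO F` of given orders (helper161)
-/

set_option autoImplicit false
set_option linter.unusedSimpArgs false

namespace Cfsg.Agent.H161.Oct

open Cfsg.Lie Module
open scoped Matrix

variable {F : Type*} [Field F]

theorem slF_slF (P Q : Matrix (Fin 3) (Fin 3) F) (x : V F) : slF (P * Q) x = slF P (slF Q x) := by
  apply ext8 <;> simp only [slF0, slF1, slF2, slF3, slF4, slF5, slF6, slF7, Matrix.mul_apply,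
    Fin.sum_univ_three] <;> ring

theorem slF_one (x : V F) : slF (1 : Matrix (Fin 3) (Fin 3) F) x = x := by
  apply ext8 <;> simp [slF0, slF1, slF2, slF3, slF4, slF5, slF6, slF7]

/-- the homomorphism from `SL₃` -/
noncomputable def slM (F : Type*) [Field F] :
    Matrix.SpecialLinearGroup (Fin 3) F →* (V F ≃ₗ[F] V F) where
  toFun P := sl P.1 P.2
  map_one' := by
    apply LinearEquiv.ext
    intro x
    exact slF_one x
  map_mul' P Q := by
    apply LinearEquiv.ext
    intro x
    exact slF_slF P.1 Q.1 x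

theorem slM_apply (P : Matrix.SpecialLinearGroup (Fin 3) F) (x : V F) : slM F P x = slF P.1 x := rfl

theorem slM_mem (P : Matrix.SpecialLinearGroup (Fin 3) F) : slM F P ∈ AutO F := sl_mem P.1 P.2

theorem slM_inj : Function.Injective (slM F) := by
  intro P Q h
  apply Subtype.ext
  ext i j
  have h1 := congrArg (fun f : V F ≃ₗ[F] V F => f (iA (Pi.single j 1))) h
  have h2 : ∀ P : Matrix.SpecialLinearGroup (Fin 3) F, slM F P (iA (Pi.single j 1)) =
      iA (fun i => P.1 i j) := fun P => iA_single P.1 P.2 j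
  simp only [h2] at h1
  exact congrFun (iA_inj h1) i

variable [Fintype F]

/-- elements of order `q² + q + 1` -/
theorem exists_nn : ∃ f ∈ AutO F, orderOf f = Fintype.card F ^ 2 + Fintype.card F + 1 := by
  obtain ⟨A, hA⟩ := Cfsg.Agent.H375.LThree.exists_sl_three (F := F)
  exact ⟨slM F A, slM_mem A, by rw [orderOf_injective _ slM_inj, hA]⟩

/-- elements of order `q² - 1` -/
theorem exists_qq : ∃ f ∈ AutO F, orderOf f = Fintype.card F ^ 2 - 1 := by
  obtain ⟨B, hB⟩ := Cfsg.Agent.H375.LThree.exists_gl_two (F := F)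
  exact ⟨slM F (Cfsg.Agent.H375.LThree.emb B), slM_mem _, by
    rw [orderOf_injective _ slM_inj, orderOf_injective _ Cfsg.Agent.H375.LThree.emb_injective, hB]⟩

omit [Fintype F] in
theorem tau_pow (p : Fin 3 → F) (k : ℕ) (x : V F) : (tau p ^ k) x = tauF ((k : F) • p) x := by
  induction k generalizing x with
  | zero => rw [pow_zero, Nat.cast_zero, zero_smul, tau_zero]; rfl
  | succ k ih =>
    have h1 : tau p x = tauF ((1 : F) • p) x := by rw [one_smul]; rfl
    rw [pow_succ, LinearEquiv.mul_apply, ih, h1, tau_tau, Nat.cast_succ]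

omit [Fintype F] in
theorem orderOf_tau {p : ℕ} [Fact p.Prime] [CharP F p] :
    orderOf (tau (![0, 0, 1] : Fin 3 → F)) = p := by
  apply orderOf_eq_prime
  · apply LinearEquiv.ext
    intro x
    rw [tau_pow, CharP.cast_eq_zero, zero_smul, tau_zero]; rfl
  · intro h
    have h1 := congrFun (congrArg (fun f : V F ≃ₗ[F] V F => f (Pi.single 7 1)) h) 3
    simp only [tau_apply, tau3] at h1
    simp at h1

theorem tau_slM_comm {C : GL (Fin 2) F} (hC : (C : Matrix (Fin 2) (Fin 2) F).det = 1) :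
    Commute (tau (![0, 0, 1] : Fin 3 → F)) (slM F (Cfsg.Agent.H375.LThree.emb C)) := by
  apply LinearEquiv.ext
  intro x
  rw [LinearEquiv.mul_apply, LinearEquiv.mul_apply, slM_apply, slM_apply, tau_apply, tau_apply]
  have h1 : (Cfsg.Agent.H375.LThree.emb C).1 = !![(C : Matrix (Fin 2) (Fin 2) F) 0 0,
      (C : Matrix (Fin 2) (Fin 2) F) 0 1, 0; (C : Matrix (Fin 2) (Fin 2) F) 1 0,
      (C : Matrix (Fin 2) (Fin 2) F) 1 1, 0; 0, 0, 1] := by
    show Cfsg.Agent.H375.LThree.embM (C : Matrix (Fin 2) (Fin 2) F) = _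
    rw [Cfsg.Agent.H375.LThree.embM, hC, inv_one]
  rw [h1]
  have hd := hC
  rw [Matrix.det_fin_two] at hd
  set c00 := (C : Matrix (Fin 2) (Fin 2) F) 0 0
  set c01 := (C : Matrix (Fin 2) (Fin 2) F) 0 1
  set c10 := (C : Matrix (Fin 2) (Fin 2) F) 1 0
  set c11 := (C : Matrix (Fin 2) (Fin 2) F) 1 1
  apply ext8
  · simp [slF0, slF1, slF2, slF3, slF4, slF5, slF6, slF7, tau0, tau1, tau2, tau3, tau4, tau5, tau6, tau7]
    linear_combination (x 6) * hd
  · simp [slF0, slF1, slF2, slF3, slF4, slF5, slF6, slF7, tau0, tau1, tau2, tau3, tau4, tau5, tau6, tau7]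
  · simp [slF0, slF1, slF2, slF3, slF4, slF5, slF6, slF7, tau0, tau1, tau2, tau3, tau4, tau5, tau6, tau7]
  · simp [slF0, slF1, slF2, slF3, slF4, slF5, slF6, slF7, tau0, tau1, tau2, tau3, tau4, tau5, tau6, tau7]
    linear_combination (x 6) * hd
  · simp [slF0, slF1, slF2, slF3, slF4, slF5, slF6, slF7, tau0, tau1, tau2, tau3, tau4, tau5, tau6, tau7]
    ring
  · simp [slF0, slF1, slF2, slF3, slF4, slF5, slF6, slF7, tau0, tau1, tau2, tau3, tau4, tau5, tau6, tau7]
    ring
  · simp [slF0, slF1, slF2, slF3, slF4, slF5, slF6, slF7, tau0, tau1, tau2, tau3, tau4, tau5, tau6, tau7]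
  · simp [slF0, slF1, slF2, slF3, slF4, slF5, slF6, slF7, tau0, tau1, tau2, tau3, tau4, tau5, tau6, tau7]
    linear_combination (x 6) * hd

/-- `p` times the order of an element of `SL₂` -/
theorem exists_p_mul {p : ℕ} [Fact p.Prime] [CharP F p] {C : GL (Fin 2) F}
    (hC : (C : Matrix (Fin 2) (Fin 2) F).det = 1) (hcop : p.Coprime (orderOf C)) :
    ∃ f ∈ AutO F, orderOf f = p * orderOf C := by
  refine ⟨tau (![0, 0, 1] : Fin 3 → F) * slM F (Cfsg.Agent.H375.LThree.emb C),
    (AutO F).mul_mem (tau_mem _) (slM_mem _), ?_⟩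
  have h1 : orderOf (slM F (Cfsg.Agent.H375.LThree.emb C)) = orderOf C := by
    rw [orderOf_injective _ slM_inj, orderOf_injective _ Cfsg.Agent.H375.LThree.emb_injective]
  rw [(tau_slM_comm hC).orderOf_mul_eq_mul_orderOf_of_coprime (by rw [orderOf_tau (p := p), h1]; exact hcop),
    orderOf_tau (p := p), h1]

omit [Fintype F] in
/-- the split torus of `SL₂` -/
def dM (F : Type*) [Field F] : Fˣ →* GL (Fin 2) F where
  toFun x := ⟨!![(x : F), 0; 0, ((x⁻¹ : Fˣ) : F)], !![((x⁻¹ : Fˣ) : F), 0; 0, (x : F)], by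
    ext i j; fin_cases i <;> fin_cases j <;> simp [Matrix.mul_apply, Fin.sum_univ_two], by
    ext i j; fin_cases i <;> fin_cases j <;> simp [Matrix.mul_apply, Fin.sum_univ_two]⟩
  map_one' := by
    apply Units.ext
    ext i j
    fin_cases i <;> fin_cases j <;> simp
  map_mul' x y := by
    apply Units.ext
    ext i j
    fin_cases i <;> fin_cases j <;> simp [Matrix.mul_apply, Fin.sum_univ_two, mul_comm]

omit [Fintype F] in
theorem dM_inj : Function.Injective (dM F) := by
  intro x y h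
  apply Units.ext
  exact congrArg (fun z : GL (Fin 2) F => (z : Matrix (Fin 2) (Fin 2) F) 0 0) h

/-- elements of order `p (q - 1)` -/
theorem exists_pm {p : ℕ} [hp : Fact p.Prime] [CharP F p] {n : ℕ} (hn : n ≠ 0)
    (hF : Fintype.card F = p ^ n) :
    ∃ f ∈ AutO F, orderOf f = p * (Fintype.card F - 1) := by
  obtain ⟨y, hy⟩ := IsCyclic.exists_generator (α := Fˣ)
  have hy' : orderOf y = Fintype.card F - 1 := by
    rw [orderOf_eq_card_of_forall_mem_zpowers hy, Nat.card_units, Nat.card_eq_fintype_card]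
  have hpos : 1 ≤ p ^ n := Nat.one_le_pow _ _ hp.out.pos
  have h1 : orderOf (dM F y) = Fintype.card F - 1 := by rw [orderOf_injective _ dM_inj, hy']
  rw [← h1]
  apply exists_p_mul
  · show (!![(y : F), 0; 0, ((y⁻¹ : Fˣ) : F)]).det = 1
    rw [Matrix.det_fin_two]
    simp
  · rw [h1, hF]
    have h2 : p ∣ p ^ n := dvd_pow_self p hn
    rw [Nat.Prime.coprime_iff_not_dvd hp.out]
    intro h3
    have h4 : p ∣ 1 := by
      have := Nat.dvd_sub h2 h3
      rwa [Nat.sub_sub_self hpos] at this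
    exact hp.out.one_lt.ne' (Nat.dvd_one.1 h4)

/-- elements of order `p (q + 1)` -/
theorem exists_pp {p : ℕ} [hp : Fact p.Prime] [CharP F p] {n : ℕ} (hn : n ≠ 0)
    (hF : Fintype.card F = p ^ n) :
    ∃ f ∈ AutO F, orderOf f = p * (Fintype.card F + 1) := by
  obtain ⟨B, hB⟩ := Cfsg.Agent.H375.LThree.exists_gl_two (F := F)
  have hq1 : 1 < Fintype.card F := Fintype.one_lt_card
  have h1 : orderOf (B ^ (Fintype.card F - 1)) = Fintype.card F + 1 := by
    have h2 : Fintype.card F ^ 2 - 1 = (Fintype.card F - 1) * (Fintype.card F + 1) := by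
      obtain ⟨k, hk⟩ : ∃ k, Fintype.card F = k + 1 := ⟨Fintype.card F - 1, by omega⟩
      rw [hk, Nat.add_sub_cancel]
      have : (k + 1) ^ 2 = k * (k + 1 + 1) + 1 := by ring
      omega
    rw [orderOf_pow' B (by omega), hB, h2, Nat.gcd_mul_right_left,
      Nat.mul_div_cancel_left _ (by omega)]
  rw [← h1]
  apply exists_p_mul
  · rw [Units.val_pow_eq_pow_val, Matrix.det_pow]
    exact FiniteField.pow_card_sub_one_eq_one _ (Matrix.isUnits_det_units B).ne_zero
  · rw [h1, hF]
    have h2 : p ∣ p ^ n := dvd_pow_self p hn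
    rw [Nat.Prime.coprime_iff_not_dvd hp.out]
    intro h3
    exact hp.out.one_lt.ne' (Nat.dvd_one.1 ((Nat.dvd_add_right h2).1 h3))

end Cfsg.Agent.H161.Oct
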