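import Cfsg.Agent.H198.TriSpec
import Cfsg.Agent.H161.OctOrd3

/-!
# Linear octonion automorphisms of order three with a fixed vector of square zero (helper161)
-/

set_option autoImplicit false

namespace Cfsg.Agent.H161.TriLin

open Module QuadraticMap Cfsg.Agent.LieClassical.OrthCore Cfsg.Agent.LieClassical.OrthTrans
  Cfsg.Agent.LieClassical.OrthSimple Cfsg.Agent.ClassicalGeometry.OrthAut1
  Cfsg.Agent.ClassicalGeometry.OrthSemi Cfsg.Agent.H198.Classes
  Cfsg.Agent.LieClassical.QuadForms Cfsg.Agent.H198.ClassesPlus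
  Cfsg.Agent.ClassicalGeometry.TrialityOct Cfsg.Agent.ClassicalGeometry.Triality
  Cfsg.Agent.ClassicalGeometry.TrialitySpaces Cfsg.Agent.H198.TriBase Cfsg.Agent.H198.TriAut
  Cfsg.Agent.H206.Balance Cfsg.Agent.H198.BalVar Cfsg.Agent.H198.TriDia Cfsg.Agent.H198.TriSpec

universe u
variable {F : Type u} [Field F]

/-- From the octonions of `V8 F` to those of `zornMul`. -/
def phi (F : Type u) [Field F] : V8 F ≃ₗ[F] (Fin 8 → F) where
  toFun x := ![x (.inl 0), x (.inl 1), x (.inl 2), x (.inl 3), -x (.inr 1), -x (.inr 2), -x (.inr 3), x (.inr 0)]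
  invFun y := Sum.elim ![y 0, y 1, y 2, y 3] ![y 7, -y 4, -y 5, -y 6]
  left_inv x := by apply ext8 <;> simp
  right_inv y := by apply H161.Oct.ext8 <;> simp
  map_add' x y := by apply H161.Oct.ext8 <;> simp <;> ring
  map_smul' c x := by apply H161.Oct.ext8 <;> simp

theorem phi_apply (x : V8 F) : phi F x =
    ![x (.inl 0), x (.inl 1), x (.inl 2), x (.inl 3), -x (.inr 1), -x (.inr 2), -x (.inr 3), x (.inr 0)] := rfl

theorem phi_omul (x y : V8 F) : phi F (omul x y) = Cfsg.Lie.zornMul (phi F x) (phi F y) := by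
  rw [phi_apply, phi_apply, phi_apply]
  apply H161.Oct.ext8
  all_goals
    simp [H161.Oct.mul0, H161.Oct.mul1, H161.Oct.mul2, H161.Oct.mul3, H161.Oct.mul4, H161.Oct.mul5,
      H161.Oct.mul6, H161.Oct.mul7, omul_l0, omul_l1, omul_l2, omul_l3, omul_r0, omul_r1, omul_r2, omul_r3]
  all_goals try ring

theorem nm_phi (x : V8 F) : H161.Oct.nm (phi F x) = plusForm 4 F x := by
  rw [norm8, phi_apply]
  simp [H161.Oct.nm]
  ring

/-- An automorphism for `zornMul` gives an element of `G8 F`. -/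
def mkP (h : (Fin 8 → F) ≃ₗ[F] (Fin 8 → F)) : Equiv.Perm (V8 F) :=
  ((phi F).trans (h.trans (phi F).symm)).toEquiv

theorem mkP_apply (h : (Fin 8 → F) ≃ₗ[F] (Fin 8 → F)) (x : V8 F) : mkP h x = (phi F).symm (h (phi F x)) := rfl

theorem phi_mkP (h : (Fin 8 → F) ≃ₗ[F] (Fin 8 → F)) (x : V8 F) : phi F (mkP h x) = h (phi F x) := by
  rw [mkP_apply, LinearEquiv.apply_symm_apply]

theorem isSS_mkP {h : (Fin 8 → F) ≃ₗ[F] (Fin 8 → F)} (hh : h ∈ H161.Oct.AutO F) :
    IsSS (plusForm 4 F) (RingEquiv.refl F) 1 (mkP h) := by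
  refine ⟨one_ne_zero, fun u v => ?_, fun c v => ?_, fun v => ?_⟩
  · rw [mkP_apply, map_add, map_add, map_add]; rfl
  · rw [mkP_apply, map_smul, map_smul, map_smul]; rfl
  · rw [← nm_phi, phi_mkP, H161.Oct.map_nm hh, nm_phi, one_mul]; rfl

def mkG {h : (Fin 8 → F) ≃ₗ[F] (Fin 8 → F)} (hh : h ∈ H161.Oct.AutO F) : G8 F := ⟨mkP h, _, _, isSS_mkP hh⟩

theorem tri_mkG {h : (Fin 8 → F) ≃ₗ[F] (Fin 8 → F)} (hh : h ∈ H161.Oct.AutO F) :
    TriS (mkG hh) (mkG hh) (mkG hh) := by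
  intro x y
  apply (phi F).injective
  change phi F (mkP h _) = phi F (omul (mkP h x) (mkP h y))
  rw [phi_mkP, phi_omul, phi_omul, phi_mkP, phi_mkP, H161.Oct.mem_AutO.1 hh]

/-- The linear map of a linear element. -/
def linOf {τ : G8 F} (hl : IsLin τ) : V8 F ≃ₗ[F] V8 F :=
  { τ.1 with
    map_add' := by obtain ⟨c, hc⟩ := hl; exact hc.add
    map_smul' := by obtain ⟨c, hc⟩ := hl; exact hc.smul }

theorem linOf_apply {τ : G8 F} (hl : IsLin τ) (x : V8 F) : linOf hl x = τ.1 x := rfl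

def sOf {τ : G8 F} (hl : IsLin τ) : (Fin 8 → F) ≃ₗ[F] (Fin 8 → F) :=
  (phi F).symm.trans ((linOf hl).trans (phi F))

theorem sOf_phi {τ : G8 F} (hl : IsLin τ) (x : V8 F) : sOf hl (phi F x) = phi F (τ.1 x) := by
  change phi F (linOf hl ((phi F).symm (phi F x))) = _
  rw [LinearEquiv.symm_apply_apply]
  rfl

theorem sOf_mem {τ : G8 F} (hl : IsLin τ) (hτ : TriS τ τ τ) : sOf hl ∈ H161.Oct.AutO F := by
  rw [H161.Oct.mem_AutO]
  intro x y
  obtain ⟨x, rfl⟩ := (phi F).surjective x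
  obtain ⟨y, rfl⟩ := (phi F).surjective y
  rw [← phi_omul, sOf_phi, sOf_phi, sOf_phi, hτ, phi_omul]

theorem lin_normal [Finite F] (h3 : (3 : F) ≠ 0) {τ : G8 F} (hτ : TriS τ τ τ) (hl : IsLin τ) (ho : τ ^ 3 = 1)
    {v : V8 F} (hv0 : v ≠ 0) (hvv : omul v v = 0) (hv : τ.1 v = v) :
    τ = 1 ∨ ∃ N : G8 F, TriS N N N ∧ N * τ * N⁻¹ = tauB F := by
  have hs := sOf_mem hl hτ
  have hs3 : sOf hl ^ 3 = 1 := by
    apply LinearEquiv.ext
    intro x
    obtain ⟨x, rfl⟩ := (phi F).surjective x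
    change sOf hl (sOf hl (sOf hl (phi F x))) = phi F x
    rw [sOf_phi, sOf_phi, sOf_phi]
    have h1 : (τ ^ 3).1 x = x := by rw [ho]; rfl
    exact congrArg _ h1
  rcases H161.Oct.ord3_normal h3 hs hs3 (x := phi F v) ((phi F).map_ne_zero_iff.2 hv0)
    (by rw [← phi_omul, hvv, map_zero]) (by rw [sOf_phi, hv]) with h1 | ⟨h, hh, hc⟩
  · left
    apply Subtype.ext
    ext1 x
    apply (phi F).injective
    rw [← sOf_phi hl, h1]
    rfl
  · right
    refine ⟨mkG hh, tri_mkG hh, ?_⟩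
    rw [mul_inv_eq_iff_eq_mul]
    apply Subtype.ext
    ext1 x
    apply (phi F).injective
    change phi F (mkP h (τ.1 x)) = phi F (tbP F (mkP h x))
    have h1 : ∀ y, phi F (tbP F y) = H161.Oct.cyc3 F (phi F y) := by
      intro y
      rw [H161.Oct.cyc3_apply, phi_apply, phi_apply]
      rfl
    rw [h1, phi_mkP, phi_mkP, ← sOf_phi hl, ← hc]
    change _ = h (sOf hl (h.symm (h (phi F x))))
    rw [LinearEquiv.symm_apply_apply]

end Cfsg.Agent.H161.TriLin
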