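import Cfsg.Agent.H161.OctFix
import Cfsg.Agent.H161.FrobComb

/-!
# The group `Cfsg.Lie.G2 F` and the automorphisms of the octonions over an extension (helper161)
-/

set_option autoImplicit false
set_option linter.unusedSimpArgs false

namespace Cfsg.Agent.H161.Oct

open Cfsg.Lie Module
open scoped Matrix

variable {K : Type*} [Field K]

/-- invertible matrices as linear equivalences -/
noncomputable def toE (K : Type*) [Field K] : GL (Fin 8) K ≃* (V K ≃ₗ[K] V K) :=
  Matrix.GeneralLinearGroup.toLin.trans (LinearMap.GeneralLinearGroup.generalLinearEquiv K (V K))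

theorem toE_apply (g : GL (Fin 8) K) (x : V K) : toE K g x = (g : Matrix (Fin 8) (Fin 8) K) *ᵥ x := rfl

theorem toE_coe (g : GL (Fin 8) K) :
    (toE K g : V K →ₗ[K] V K) = Matrix.toLin' (g : Matrix (Fin 8) (Fin 8) K) := by
  ext1 x
  rfl

theorem toE_mem {g : GL (Fin 8) K} : toE K g ∈ AutO K ↔ g ∈ Cfsg.Lie.G2 K := Iff.rfl

/-- elements of `AutO` as elements of `G2` of the same order -/
theorem exists_orderOf {f : V K ≃ₗ[K] V K} (hf : f ∈ AutO K) :
    ∃ g : Cfsg.Lie.G2 K, orderOf g = orderOf f := by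
  refine ⟨⟨(toE K).symm f, ?_⟩, ?_⟩
  · rw [← toE_mem, MulEquiv.apply_symm_apply]; exact hf
  · rw [Subgroup.orderOf_mk, MulEquiv.orderOf_eq]

/-- the product as a bilinear map -/
def zL (K : Type*) [Field K] : V K →ₗ[K] V K →ₗ[K] V K :=
  LinearMap.mk₂ K zornMul zadd_mul zsmul_mul zmul_add zmul_smul

theorem zL_apply (x y : V K) : zL K x y = zornMul x y := rfl

variable {F : Type*} [Field F]

theorem zornMul_map (φ : F →+* K) (x y : V F) :
    (fun i => φ (zornMul x y i)) = zornMul (fun i => φ (x i)) (fun i => φ (y i)) := by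
  apply ext8 <;> simp [mul0, mul1, mul2, mul3, mul4, mul5, mul6, mul7]

theorem mulVec_map (φ : F →+* K) (M : Matrix (Fin 8) (Fin 8) F) (x : V F) :
    (M.map φ) *ᵥ (fun i => φ (x i)) = fun i => φ ((M *ᵥ x) i) := by
  funext i
  simp [Matrix.mulVec, dotProduct]

/-- Extension of scalars. -/
theorem map_mem_G2 (φ : F →+* K) {g : GL (Fin 8) F} (hg : g ∈ Cfsg.Lie.G2 F) :
    Matrix.GeneralLinearGroup.map φ g ∈ Cfsg.Lie.G2 K := by
  set M : Matrix (Fin 8) (Fin 8) F := (g : Matrix (Fin 8) (Fin 8) F) with hM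
  have hg' : ∀ x y : V F, M *ᵥ zornMul x y = zornMul (M *ᵥ x) (M *ᵥ y) := fun x y => hg x y
  have key : (zL K).compr₂ (Matrix.toLin' (M.map φ)) =
      (zL K).compl₁₂ (Matrix.toLin' (M.map φ)) (Matrix.toLin' (M.map φ)) := by
    apply (Pi.basisFun K (Fin 8)).ext
    intro i
    apply (Pi.basisFun K (Fin 8)).ext
    intro j
    have hs : ∀ i : Fin 8, (Pi.single i 1 : V K) = fun k => φ ((Pi.single i 1 : V F) k) := by
      intro i
      funext k
      rw [Pi.single_apply, Pi.single_apply]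
      split_ifs <;> simp
    rw [Pi.basisFun_apply, Pi.basisFun_apply]
    show (M.map φ) *ᵥ (zornMul (Pi.single i 1) (Pi.single j 1)) =
      zornMul ((M.map φ) *ᵥ (Pi.single i 1)) ((M.map φ) *ᵥ (Pi.single j 1))
    rw [hs i, hs j, ← zornMul_map, mulVec_map, mulVec_map, mulVec_map, ← zornMul_map, hg']
  intro x y
  exact LinearMap.congr_fun (LinearMap.congr_fun key x) y

/-- the embedding -/
noncomputable def emb (φ : F →+* K) : GL (Fin 8) F →* (V K ≃ₗ[K] V K) :=
  (toE K).toMonoidHom.comp (Matrix.GeneralLinearGroup.map φ)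

theorem emb_mem (φ : F →+* K) {g : GL (Fin 8) F} (hg : g ∈ Cfsg.Lie.G2 F) : emb φ g ∈ AutO K :=
  map_mem_G2 φ hg

theorem emb_inj (φ : F →+* K) : Function.Injective (emb φ) := by
  intro g h hgh
  have h1 := (toE K).injective hgh
  ext i j
  apply φ.injective
  have := congrArg (fun z : GL (Fin 8) K => (z : Matrix (Fin 8) (Fin 8) K) i j) h1
  simpa using this

theorem emb_coe (φ : F →+* K) (g : GL (Fin 8) F) :
    (emb φ g : V K →ₗ[K] V K) = Matrix.toLin' ((g : Matrix (Fin 8) (Fin 8) F).map φ) := by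
  ext1 x
  rfl

theorem det_emb (φ : F →+* K) (g : GL (Fin 8) F) :
    LinearMap.det (emb φ g : V K →ₗ[K] V K) = φ (g : Matrix (Fin 8) (Fin 8) F).det := by
  rw [emb_coe, LinearMap.det_toLin', RingHom.map_det]
  rfl

theorem charpoly_emb (φ : F →+* K) (g : GL (Fin 8) F) :
    LinearMap.charpoly (emb φ g : V K →ₗ[K] V K) =
      ((g : Matrix (Fin 8) (Fin 8) F).charpoly).map φ := by
  rw [emb_coe, ← Matrix.charpoly_map, Matrix.charpoly_toLin']

end Cfsg.Agent.H161.Oct
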