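import Cfsg.Agent.H161.ChooseF

/-!
# The induction
-/

set_option autoImplicit false

namespace Cfsg.Agent.H161.Peel

open Module Submodule

universe u v

variable {K : Type u} {V : Type v} [Field K] [AddCommGroup V] [Module K V]

theorem ker_ne_bot_exists [FiniteDimensional K V] (φ : V →ₗ[K] K) (E : Submodule K V)
    (h : finrank K V + 1 ≤ finrank K (LinearMap.ker φ) + finrank K E) :
    ∃ w ∈ E, φ w = 0 ∧ w ≠ 0 := by
  have hf3 := Submodule.finrank_sup_add_finrank_inf_eq (LinearMap.ker φ) E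
  have hf4 := Submodule.finrank_le (LinearMap.ker φ ⊔ E)
  have hf5 : 0 < finrank K (LinearMap.ker φ ⊓ E : Submodule K V) := by omega
  obtain ⟨w, hw, hw0⟩ := Submodule.exists_mem_ne_zero_of_ne_bot
    (p := (LinearMap.ker φ ⊓ E : Submodule K V)) (by
      rintro h
      rw [h, finrank_bot] at hf5
      omega)
  exact ⟨w, hw.2, hw.1, hw0⟩

theorem finrank_span_single_le (a : V) : finrank K (K ∙ a) ≤ 1 := by
  classical
  have := finrank_span_finset_le_card (R := K) ({a} : Finset V)
  rw [Finset.coe_singleton] at this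
  exact this.trans (by simp)

section

variable {S : V →ₗ[K] V} {v : V} {φ : V →ₗ[K] K} (h : φ v = 1) (h1 : φ (S v) = 1)

include h h1 in
/-- Case `dim E ≥ 2`, `φ a ≠ 0`. -/
theorem nice_of_two_le [FiniteDimensional K V]
    (h7 : ∀ z, ∃ w, S w - w ∉ span K {S v, z}) (hE : 2 ≤ finrank K (EE S v)) {a : V}
    (ha : a ∈ EE S v) (hφa : φ a ≠ 0) : Nice (peel S v φ h1) := by
  have hrk := rk_of_mem h1 h7 ha hφa
  refine ⟨?_, hrk⟩
  by_contra hcon
  push Not at hcon
  obtain ⟨c, hc⟩ := hcon
  obtain ⟨w, hwE, hw, hw0⟩ := ker_ne_bot_exists φ (EE S v) (by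
    have := finrank_ker_phi h
    omega)
  have e1 := peel_of_mem_EE h1 ⟨w, hw⟩ hwE
  rw [hc] at e1
  have hc1 : c = 1 := by
    have := congrArg Subtype.val e1
    simp only [coe_smul] at this
    have h2 : (c - 1) • w = 0 := by rw [sub_smul, this, one_smul, sub_self]
    rcases smul_eq_zero.1 h2 with h3 | h3
    · exact sub_eq_zero.1 h3
    · exact absurd h3 hw0
  obtain ⟨w', hw'⟩ := hrk 0
  apply hw'
  rw [hc, hc1, one_smul, sub_self]; exact zero_mem _

include h h1 in
/-- Case `dim E ≤ 1`, `dim V ≥ 4`, not bad. -/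
theorem nice_of_le_one [FiniteDimensional K V] (hm : 4 ≤ finrank K V)
    (hE : finrank K (EE S v) ≤ 1)
    (hbad : ¬ ∃ c : K, ∀ w : LinearMap.ker φ, peel S v φ h1 w = c • w) :
    Nice (peel S v φ h1) := by
  have hk := finrank_ker_phi h
  refine ⟨?_, ?_⟩
  · push Not at hbad
    exact hbad
  · intro z
    by_contra hcon
    push Not at hcon
    let T : LinearMap.ker φ →ₗ[K] LinearMap.ker φ := peel S v φ h1 - LinearMap.id
    have hr : finrank K (LinearMap.range T) ≤ 1 := by
      have : LinearMap.range T ≤ K ∙ z := by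
        rintro _ ⟨w, rfl⟩
        exact hcon w
      exact (Submodule.finrank_mono this).trans (finrank_span_single_le z)
    have h2 := LinearMap.finrank_range_add_finrank_ker T
    have h3 : 2 ≤ finrank K (LinearMap.ker T) := by omega
    have h4 : (LinearMap.ker T).map (LinearMap.ker φ).subtype ≤ EE S v := by
      rintro _ ⟨w, hw, rfl⟩
      apply mem_EE_of_peel h1
      have : T w = 0 := hw
      rwa [LinearMap.sub_apply, LinearMap.id_apply, sub_eq_zero] at this
    have h5 := Submodule.finrank_mono h4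
    rw [Submodule.finrank_map_subtype_eq] at h5
    omega

end

section

variable {S : V →ₗ[K] V} {v : V}

theorem ne_zero_of (hv : ∀ c : K, S v ≠ c • v) : v ≠ 0 := by
  rintro rfl
  exact hv 0 (by simp)

theorem not_mem_u (hv : ∀ c : K, S v ≠ c • v) : v ∉ K ∙ (S v - v) := by
  intro h
  obtain ⟨t, ht⟩ := mem_span_singleton.1 h
  have ht0 : t ≠ 0 := by
    rintro rfl
    rw [zero_smul] at ht
    exact ne_zero_of hv ht.symm
  apply hv (t⁻¹ + 1)
  have : t⁻¹ • (t • (S v - v)) = t⁻¹ • v := by rw [ht]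
  rw [smul_smul, inv_mul_cancel₀ ht0, one_smul] at this
  rw [add_smul, one_smul, ← this]; abel

theorem not_mem_u' {x : V} (hx0 : x ≠ 0) (hx : S v - v ∉ K ∙ x) : x ∉ K ∙ (S v - v) := by
  intro h
  obtain ⟨t, ht⟩ := mem_span_singleton.1 h
  have ht0 : t ≠ 0 := by
    rintro rfl
    rw [zero_smul] at ht
    exact hx0 ht.symm
  apply hx
  rw [mem_span_singleton]
  refine ⟨t⁻¹, ?_⟩
  rw [← ht, smul_smul, inv_mul_cancel₀ ht0, one_smul]

/-- choice of the functional with extra subspaces to avoid -/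
theorem exists_phi (L : List (Submodule K (V →ₗ[K] K)))
    (hL : ((3 + L.length : ℕ) : Cardinal) ≤ Cardinal.mk K)
    (hLP : ∀ A ∈ L, ¬ ev (S v - v) ≤ A) (hS : Nice S) (hv : ∀ c : K, S v ≠ c • v) {x : V}
    (hx0 : x ≠ 0) (hx : S v - v ∉ K ∙ x) :
    ∃ φ : V →ₗ[K] K, φ v = 1 ∧ φ (S v) = 1 ∧ φ x ≠ 0 ∧ (∃ w, φ (S w) ≠ φ w) ∧
      ∀ A ∈ L, φ ∉ A := by
  obtain ⟨w₀, hw₀⟩ := hS.rk (S v - v)
  obtain ⟨φ₀, hφ₀, hφ⟩ := Avoid.exists_avoid_in (K := K) (V := (V →ₗ[K] K)) (ev (S v - v))
    (ev v :: ev x :: ev (S w₀ - w₀) :: L)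
    (le_trans (le_of_eq (by simp only [List.length_cons]; congr 1; omega)) hL) (by
      intro A hA
      simp only [List.mem_cons] at hA
      rcases hA with rfl | rfl | rfl | hA
      · exact not_ev_le (not_mem_u hv)
      · exact not_ev_le (not_mem_u' hx0 hx)
      · exact not_ev_le hw₀
      · exact hLP A hA)
  have a1 := hφ (ev v) (by simp)
  have a2 := hφ (ev x) (by simp)
  have a3 := hφ (ev (S w₀ - w₀)) (by simp)
  rw [mem_ev] at a1 a2 a3 hφ₀
  have h1 : φ₀ (S v) = φ₀ v := by rwa [map_sub, sub_eq_zero] at hφ₀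
  refine ⟨(φ₀ v)⁻¹ • φ₀, ?_, ?_, ?_, ⟨w₀, ?_⟩, ?_⟩
  · simp [inv_mul_cancel₀ a1]
  · simp [h1, inv_mul_cancel₀ a1]
  · simp [a1, a2]
  · intro h2
    apply a3
    rw [map_sub, sub_eq_zero]
    simpa [a1] using h2
  · intro A hA hmem
    apply hφ A (by simp [hA])
    have := A.smul_mem (φ₀ v) hmem
    rwa [smul_smul, mul_inv_cancel₀ a1, one_smul] at this

theorem card_five (hK : (4 : Cardinal) ≤ Cardinal.mk K) (h2 : (2 : K) ≠ 0) :
    (5 : Cardinal) ≤ Cardinal.mk K := by
  classical
  -- an element different from `0, 1, -1`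
  have h3 : ∃ a : K, a ∉ ({0, 1, -1} : Finset K) := by
    by_contra hcon
    push Not at hcon
    have h4 : Cardinal.mk K ≤ 3 := by
      have := Cardinal.mk_le_of_injective (f := fun k : K => (⟨k, hcon k⟩ : ({0, 1, -1} : Finset K)))
        (fun a b hab => congrArg Subtype.val hab)
      refine this.trans ?_
      rw [Cardinal.mk_coe_finset]
      exact_mod_cast Finset.card_le_three
    have := hK.trans h4
    exact absurd this (by norm_num)
  obtain ⟨a, ha⟩ := h3
  simp only [Finset.mem_insert, Finset.mem_singleton, not_or] at ha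
  obtain ⟨ha0, ha1, ha2⟩ := ha
  have hcard : ({0, 1, -1, a, -a} : Finset K).card = 5 := by
    have e1 : (1 : K) ≠ -1 := by
      intro h
      apply h2
      have : (1 : K) + 1 = 0 := by nth_rw 1 [h]; ring
      rw [← this]; norm_num
    have e2 : a ≠ -a := by
      intro h
      have : (2 : K) * a = 0 := by linear_combination h
      rcases mul_eq_zero.1 this with h | h
      · exact h2 h
      · exact ha0 h
    rw [Finset.card_insert_of_notMem, Finset.card_insert_of_notMem, Finset.card_insert_of_notMem,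
      Finset.card_insert_of_notMem, Finset.card_singleton]
    · simpa using e2
    · simp only [Finset.mem_insert, Finset.mem_singleton, not_or]
      refine ⟨fun h => ha2 h.symm, fun h => ha1 ?_⟩
      exact (neg_injective h).symm
    · simp only [Finset.mem_insert, Finset.mem_singleton, not_or]
      refine ⟨e1, fun h => ha1 h.symm, fun h => ha2 ?_⟩
      rw [h]; ring
    · simp only [Finset.mem_insert, Finset.mem_singleton, not_or]
      refine ⟨zero_ne_one, fun h => one_ne_zero (α := K) ?_, fun h => ha0 h.symm, fun h => ha0 ?_⟩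
      · exact neg_eq_zero.1 h.symm
      · exact neg_eq_zero.1 h.symm
  have := Cardinal.mk_le_of_injective
    (f := fun k : ({0, 1, -1, a, -a} : Finset K) => (k : K)) Subtype.val_injective
  rw [Cardinal.mk_coe_finset, hcard] at this
  exact_mod_cast this

end

section

variable {S : V →ₗ[K] V} {v : V}

theorem exists_ne_phi [FiniteDimensional K V] (hm : 3 ≤ finrank K V) (φ₁ : V →ₗ[K] K)
    (h : φ₁ v = 1) : ¬ (ev (S v - v) : Submodule K (V →ₗ[K] K)) ≤ K ∙ φ₁ := by
  intro hle
  have hlt : span K {S v, v} < ⊤ := by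
    rw [lt_top_iff_ne_top]
    intro h
    have h2 := finrank_span_pair_le (K := K) (S v) v
    rw [h, finrank_top] at h2
    omega
  obtain ⟨f, hf, hf'⟩ := Submodule.exists_le_ker_of_lt_top _ hlt
  have f1 : f (S v) = 0 := hf' (subset_span (by simp))
  have f2 : f v = 0 := hf' (subset_span (by simp))
  have f3 : f ∈ (ev (S v - v) : Submodule K (V →ₗ[K] K)) := by
    rw [mem_ev, map_sub, f1, f2, sub_self]
  obtain ⟨t, rfl⟩ := mem_span_singleton.1 (hle f3)
  rw [LinearMap.smul_apply, h, smul_eq_mul, mul_one] at f2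
  rw [f2, zero_smul] at hf
  exact hf rfl

/-- the list excluding the (unique) functional with scalar Schur complement. -/
theorem exists_bad_list [FiniteDimensional K V] (hinj : Function.Injective S)
    (hm : 3 ≤ finrank K V) (hv : ∀ c : K, S v ≠ c • v) :
    ∃ A : Submodule K (V →ₗ[K] K), ¬ (ev (S v - v) : Submodule K (V →ₗ[K] K)) ≤ A ∧
      ∀ (φ : V →ₗ[K] K) (_h : φ v = 1) (h1 : φ (S v) = 1), φ ∉ A →
        ¬ ∃ c : K, ∀ w : LinearMap.ker φ, peel S v φ h1 w = c • w := by
  by_cases hex : ∃ (φ : V →ₗ[K] K) (_h : φ v = 1) (h1 : φ (S v) = 1),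
      ∃ c : K, ∀ w : LinearMap.ker φ, peel S v φ h1 w = c • w
  · obtain ⟨φ₁, g, g1, c₁, hc₁⟩ := hex
    refine ⟨K ∙ φ₁, exists_ne_phi hm φ₁ g, ?_⟩
    rintro φ h h1 hφ ⟨c, hc⟩
    apply hφ
    rw [bad_unique h h1 hinj hm hv g g1 hc hc₁]
    exact mem_span_singleton_self _
  · refine ⟨⊥, ?_, ?_⟩
    · intro hle
      obtain ⟨f, hf, hf'⟩ := Submodule.exists_le_ker_of_notMem (not_mem_u hv)
      have : f ∈ (ev (S v - v) : Submodule K (V →ₗ[K] K)) :=
        mem_ev.2 (hf' (mem_span_singleton_self _))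
      have := hle this
      rw [mem_bot] at this
      rw [this] at hf
      exact hf rfl
    · intro φ h h1 _ hc
      exact hex ⟨φ, h, h1, hc⟩

theorem choose_phi [FiniteDimensional K V] (hK : (4 : Cardinal) ≤ Cardinal.mk K)
    (hdet : LinearMap.det S = 1) (hS : Nice S) (hv : ∀ c : K, S v ≠ c • v) {x : V}
    (hx0 : x ≠ 0) (hx : S v - v ∉ K ∙ x)
    (h7 : 3 ≤ finrank K V → ∀ z, ∃ w, S w - w ∉ span K {S v, z}) :
    ∃ (φ : V →ₗ[K] K) (_h : φ v = 1) (h1 : φ (S v) = 1), φ x ≠ 0 ∧ (∃ w, φ (S w) ≠ φ w) ∧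
      (3 ≤ finrank K V → Nice (peel S v φ h1)) := by
  classical
  have hinj : Function.Injective S := by
    rw [← LinearMap.ker_eq_bot]
    by_contra hne
    have := LinearMap.det_eq_zero_iff_ker_ne_bot.2 hne
    rw [hdet] at this
    exact one_ne_zero this
  have hv0 : v ≠ 0 := ne_zero_of hv
  have hu0 : S v - v ≠ 0 := by
    intro h
    exact hv 1 (by rw [one_smul]; exact sub_eq_zero.1 h)
  by_cases hm : 3 ≤ finrank K V
  swap
  · obtain ⟨φ, h, h1, h2, h3, -⟩ := exists_phi (S := S) (v := v) []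
      (le_trans (by norm_num) hK) (by simp) hS hv hx0 hx
    exact ⟨φ, h, h1, h2, h3, fun h => absurd h hm⟩
  have h7' := h7 hm
  by_cases hE : 2 ≤ finrank K (EE S v)
  · -- choose `a ∈ E`, `a ∉ K u`
    obtain ⟨a, haE, ha⟩ : ∃ a ∈ EE S v, a ∉ K ∙ (S v - v) := by
      by_contra hcon
      push Not at hcon
      have h1 : EE S v ≤ K ∙ (S v - v) := hcon
      have := (Submodule.finrank_mono h1).trans (finrank_span_single_le _)
      omega
    obtain ⟨φ, h, h1, h2, h3, h4⟩ := exists_phi (S := S) (v := v) [ev a]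
      (le_trans (by norm_num) hK) (by
        intro A hA
        rw [List.mem_singleton] at hA
        subst hA
        exact not_ev_le ha) hS hv hx0 hx
    refine ⟨φ, h, h1, h2, h3, fun _ => nice_of_two_le h h1 h7' hE haE ?_⟩
    have := h4 (ev a) (by simp)
    rwa [mem_ev] at this
  obtain ⟨B, hB, hB'⟩ := exists_bad_list hinj hm hv
  by_cases hm4 : 4 ≤ finrank K V
  · obtain ⟨φ, h, h1, h2, h3, h4⟩ := exists_phi (S := S) (v := v) [B]
      (le_trans (by norm_num) hK) (by
        intro A hA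
        rw [List.mem_singleton] at hA
        subst hA
        exact hB) hS hv hx0 hx
    exact ⟨φ, h, h1, h2, h3, fun _ => nice_of_le_one h h1 hm4 (by omega)
      (hB' φ h h1 (h4 B (by simp)))⟩
  -- dimension three
  have hm3 : finrank K V = 3 := by omega
  obtain ⟨a, haE, ha⟩ : ∃ a ∈ EE S v, a ∉ K ∙ (S v - v) := by
    by_contra hcon
    push Not at hcon
    -- a non-zero element of `E`
    obtain ⟨a, haE, ha0⟩ : ∃ a ∈ EE S v, a ≠ 0 := by
      by_cases hk : LinearMap.ker (sub1 S) = ⊥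
      · have hsurj : Function.Surjective (sub1 S) :=
          (LinearMap.injective_iff_surjective (f := sub1 S)).1 (LinearMap.ker_eq_bot.1 hk)
        obtain ⟨a, ha⟩ := hsurj (S v)
        refine ⟨a, (mem_EE S v).2 ⟨1, by rw [one_smul, ← sub1_apply, ha]⟩, ?_⟩
        rintro rfl
        rw [map_zero] at ha
        exact hv 0 (by rw [zero_smul, ← ha])
      · obtain ⟨a, ha, ha0⟩ := Submodule.exists_mem_ne_zero_of_ne_bot hk
        refine ⟨a, (mem_EE S v).2 ⟨0, ?_⟩, ha0⟩
        rw [zero_smul, ← sub1_apply]; exact ha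
    obtain ⟨t, ht⟩ := mem_span_singleton.1 (hcon a haE)
    have ht0 : t ≠ 0 := by
      rintro rfl
      rw [zero_smul] at ht
      exact ha0 ht.symm
    have huE : S v - v ∈ EE S v := by
      rw [← ht] at haE
      have := (EE S v).smul_mem t⁻¹ haE
      rwa [smul_smul, inv_mul_cancel₀ ht0, one_smul] at this
    -- any normalized functional
    obtain ⟨φ, h, h1, -, -, -⟩ := exists_phi (S := S) (v := v) []
      (le_trans (by norm_num) hK) (by simp) hS hv hx0 hx
    have hker := finrank_ker_phi h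
    have hu' := mem_ker_sub S v φ h h1
    have e1 := peel_of_mem_EE h1 ⟨_, hu'⟩ huE
    have hdet' : LinearMap.det (peel S v φ h1) = 1 := by rw [det_peel S v φ h h1, hdet]
    have e2 := two_dim (by omega) (peel S v φ h1) hdet' ⟨_, hu'⟩
      (by intro h0; exact hu0 (congrArg Subtype.val h0)) e1
    obtain ⟨w, hw⟩ := h7' (S v - v)
    apply hw
    -- decompose `w = φ w v + w₁`
    have hw1 : w - φ w • v ∈ LinearMap.ker φ := by
      rw [LinearMap.mem_ker, map_sub, map_smul, h, smul_eq_mul, mul_one, sub_self]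
    obtain ⟨s, hs⟩ := mem_span_singleton.1 (e2 ⟨_, hw1⟩)
    have hs' := congrArg Subtype.val hs
    rw [AddSubgroupClass.coe_sub, coe_peel] at hs'
    simp only [coe_smul] at hs'
    have e3 : S w - w = φ (S (w - φ w • v)) • S v + (s + φ w) • (S v - v) := by
      rw [add_smul, hs']
      simp only [map_sub, map_smul, smul_sub]
      abel
    rw [e3]
    exact mem_span_pair.2 ⟨_, _, rfl⟩
  -- now the functional
  have key : ∀ (φ : V →ₗ[K] K) (h : φ v = 1) (h1 : φ (S v) = 1), φ a ≠ 0 →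
      (¬ ∃ c : K, c ≠ 1 ∧ ∀ w : LinearMap.ker φ, peel S v φ h1 w = c • w) →
      Nice (peel S v φ h1) := by
    intro φ h h1 hφa hns
    have hrk := rk_of_mem h1 h7' haE hφa
    refine ⟨?_, hrk⟩
    by_contra hcon
    push Not at hcon
    obtain ⟨c, hc⟩ := hcon
    apply hns
    refine ⟨c, ?_, hc⟩
    rintro rfl
    obtain ⟨w', hw'⟩ := hrk 0
    apply hw'
    rw [hc, one_smul, sub_self]; exact zero_mem _
  by_cases h2 : (2 : K) = 0
  · obtain ⟨φ, h, h1, g2, g3, g4⟩ := exists_phi (S := S) (v := v) [ev a]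
      (le_trans (by norm_num) hK) (by
        intro A hA
        rw [List.mem_singleton] at hA
        subst hA
        exact not_ev_le ha) hS hv hx0 hx
    have g5 := g4 (ev a) (by simp)
    rw [mem_ev] at g5
    refine ⟨φ, h, h1, g2, g3, fun _ => key φ h h1 g5 ?_⟩
    rintro ⟨c, hc1, hc⟩
    have hc' : peel S v φ h1 = c • LinearMap.id := by
      ext w; rw [hc]; rfl
    have hdet' : LinearMap.det (peel S v φ h1) = 1 := by rw [det_peel S v φ h h1, hdet]
    have hker := finrank_ker_phi h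
    rw [hc', LinearMap.det_smul, LinearMap.det_id, mul_one,
      show finrank K (LinearMap.ker φ) = 2 by omega] at hdet'
    apply hc1
    have : (c - 1) * (c - 1) = 0 := by linear_combination hdet' + (1 - c) * h2
    rcases mul_eq_zero.1 this with h | h <;> exact sub_eq_zero.1 h
  · have hK5 := card_five hK h2
    obtain ⟨φ, h, h1, g2, g3, g4⟩ := exists_phi (S := S) (v := v) [ev a, B]
      (le_trans (by norm_num) hK5) (by
        intro A hA
        simp only [List.mem_cons, List.not_mem_nil, or_false] at hA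
        rcases hA with rfl | rfl
        · exact not_ev_le ha
        · exact hB) hS hv hx0 hx
    have g5 := g4 (ev a) (by simp)
    rw [mem_ev] at g5
    refine ⟨φ, h, h1, g2, g3, fun _ => key φ h h1 g5 ?_⟩
    rintro ⟨c, -, hc⟩
    exact hB' φ h h1 (g4 B (by simp)) ⟨c, hc⟩

end

/-- **The induction.** -/
theorem main (hK : (4 : Cardinal) ≤ Cardinal.mk K) (k : ℕ) :
    ∀ (V : Type v) [AddCommGroup V] [Module K V] [FiniteDimensional K V],
      finrank K V = k + 1 → ∀ S : V →ₗ[K] V, LinearMap.det S = 1 → (1 ≤ k → Nice S) →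
      ∀ x : V, x ≠ 0 → ∀ y : V →ₗ[K] K, y ≠ 0 →
      ∃ N₁ N₂ : V →ₗ[K] V, N₁ ^ (k + 1) = 0 ∧ N₂ ^ (k + 1) = 0 ∧ (N₁ ^ k) x ≠ 0 ∧
        (∃ w, y ((N₂ ^ k) w) ≠ 0) ∧ S = (1 + N₁) * (1 + N₂) := by
  induction k with
  | zero =>
    intro V _ _ _ hfin S hdet _ x hx y hy
    refine ⟨0, 0, by simp, by simp, by simpa using hx, ?_, ?_⟩
    · by_contra hcon
      push Not at hcon
      apply hy
      ext w
      simpa using hcon w
    · ext w
      obtain ⟨v, hv0, hv⟩ := finrank_eq_one_iff'.1 hfin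
      obtain ⟨c, hc⟩ := hv (S v)
      have hS : S = c • LinearMap.id := by
        ext z
        obtain ⟨t, rfl⟩ := hv z
        rw [map_smul, ← hc, LinearMap.smul_apply, LinearMap.id_apply, smul_comm]
      rw [hS, LinearMap.det_smul, LinearMap.det_id, mul_one, hfin, zero_add, pow_one] at hdet
      rw [hS, hdet]; simp
  | succ k ih =>
    intro V _ _ _ hfin S hdet hnice x hx0 y hy
    have hS := hnice (by omega)
    obtain ⟨v, hyv, hxv, hv, h7⟩ := choose_v hK S hS x y hy
    obtain ⟨φ, h, h1, hφx, ⟨w₀, hw₀⟩, hn⟩ := choose_phi hK hdet hS hv hx0 hxv h7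
    have hker := finrank_ker_phi h
    obtain ⟨N₁, N₂, a1, a2, a3, a4, a5⟩ := ih (LinearMap.ker φ) (by omega) (peel S v φ h1)
      (by rw [det_peel S v φ h h1, hdet]) (fun hk => hn (by omega))
      ⟨S v - v, mem_ker_sub S v φ h h1⟩ (by
        intro h0
        apply hv 1
        rw [one_smul]
        exact sub_eq_zero.1 (congrArg Subtype.val h0))
      (φ ∘ₗ S ∘ₗ (LinearMap.ker φ).subtype) (by
        intro h0
        apply hw₀
        have hw1 : w₀ - φ w₀ • v ∈ LinearMap.ker φ := by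
          rw [LinearMap.mem_ker, map_sub, map_smul, h, smul_eq_mul, mul_one, sub_self]
        have := LinearMap.congr_fun h0 ⟨_, hw1⟩
        simp only [LinearMap.comp_apply, subtype_apply, LinearMap.zero_apply, map_sub, map_smul,
          h1, smul_eq_mul, mul_one] at this
        exact sub_eq_zero.1 this)
    exact lift S v φ h h1 k N₁ N₂ a1 a2 a3 a4 a5 x hφx y hyv

end Cfsg.Agent.H161.Peel
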