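import Cfsg.Agent.H161.Transv
import Cfsg.Agent.H161.Main

/-!
# Every non-scalar matrix of determinant one is a product of two regular unipotent matrices
-/

set_option autoImplicit false

namespace Cfsg.Agent.H161.TwoUnip

open Module Submodule Jordan Peel

variable {K : Type*} [Field K]

/-- transvections -/
theorem transvection_case (hK : (4 : Cardinal) ≤ Cardinal.mk K) (n : ℕ) (J g : GL (Fin (n + 2)) K)
    (hJ : ∀ i j : Fin (n + 2), (J : Matrix (Fin (n + 2)) (Fin (n + 2)) K) i j =
      if i = j then 1 else if j.val = i.val + 1 then 1 else 0)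
    (z : Fin (n + 2) → K) (f : (Fin (n + 2) → K) →ₗ[K] K) (hz : z ≠ 0) (hf : f ≠ 0)
    (hfz : f z = 0)
    (hg : ∀ w, (g : Matrix (Fin (n + 2)) (Fin (n + 2)) K).mulVec w = w + f w • z) :
    ∃ x y : GL (Fin (n + 2)) K, g = (x * J * x⁻¹) * (y * J * y⁻¹) := by
  classical
  -- a scalar
  obtain ⟨c, hc0, hc1⟩ : ∃ c : K, c ≠ 0 ∧ c + 1 ≠ 0 := by
    by_contra hcon
    push Not at hcon
    have h4 : Cardinal.mk K ≤ 2 := by
      have := Cardinal.mk_le_of_injective (f := fun k : K => (⟨k, by
          by_cases h : k = 0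
          · simp [h]
          · have := hcon k h
            simp [eq_neg_of_add_eq_zero_left this]⟩ : ({0, -1} : Finset K)))
        (fun a b hab => congrArg Subtype.val hab)
      refine this.trans ?_
      rw [Cardinal.mk_coe_finset]
      exact_mod_cast Finset.card_le_two
    exact absurd (hK.trans h4) (by norm_num)
  obtain ⟨ι, b, i, j, hij, hzi, hfj⟩ := exists_basis_of_pairing_eq_zero hfz hf hz
  have : Fintype ι := FiniteDimensional.fintypeBasisIndex b
  have hcard : Fintype.card ι = n + 2 := by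
    have := Module.finrank_eq_card_basis b
    rw [Module.finrank_fin_fun] at this
    exact this.symm
  obtain ⟨e, he0, he1⟩ : ∃ e : ι ≃ Fin (n + 2), e i = 0 ∧ e j = 1 := by
    let e0 : ι ≃ Fin (n + 2) := Fintype.equivFinOfCardEq hcard
    let e1 : ι ≃ Fin (n + 2) := e0.trans (Equiv.swap (e0 i) 0)
    have h1 : e1 i = 0 := by simp [e1]
    have h2 : e1 j ≠ 0 := by
      intro h
      exact hij (e1.injective (h1.trans h.symm))
    refine ⟨e1.trans (Equiv.swap (e1 j) 1), ?_, ?_⟩
    · rw [Equiv.trans_apply, h1]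
      exact Equiv.swap_apply_of_ne_of_ne h2.symm (by simp)
    · rw [Equiv.trans_apply]; exact Equiv.swap_apply_left _ _
  let b' := b.reindex e
  have hb0 : b' 0 = z := by
    rw [Basis.reindex_apply, ← he0, Equiv.symm_apply_apply, hzi]
  have hfb : ∀ k, f (b' k) = if k = 1 then 1 else 0 := by
    intro k
    rw [hfj, Basis.reindex_apply, Basis.coord_apply, Basis.repr_self, Finsupp.single_apply]
    by_cases hk : k = 1
    · subst hk; rw [if_pos rfl, if_pos]; rw [← he1, Equiv.symm_apply_apply]
    · rw [if_neg hk, if_neg]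
      intro h
      apply hk
      rw [← he1, ← h, Equiv.apply_symm_apply]
  obtain ⟨Q, hQ⟩ := exists_basis_mat b'
  obtain ⟨X, hX⟩ := inv_conj J hJ (by omega)
  let D := Dc (n + 2) c hc0
  let D' := Dc (n + 2) (c + 1) hc1
  -- `g Q = Q t`
  have key : (g : Matrix (Fin (n + 2)) (Fin (n + 2)) K) * (Q : Matrix (Fin (n + 2)) (Fin (n + 2)) K) =
      (Q : Matrix (Fin (n + 2)) (Fin (n + 2)) K) * Matrix.transvection (0 : Fin (n + 2)) 1 1 := by
    apply Matrix.toLin'.injective
    apply (Pi.basisFun K (Fin (n + 2))).ext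
    intro k
    rw [Matrix.toLin'_mul, Matrix.toLin'_mul, LinearMap.comp_apply, LinearMap.comp_apply,
      Matrix.toLin'_apply, Matrix.toLin'_apply, Matrix.toLin'_apply, Matrix.toLin'_apply,
      Pi.basisFun_apply]
    have e1 : (Q : Matrix (Fin (n + 2)) (Fin (n + 2)) K).mulVec (Pi.single k 1) = b' k := by
      rw [hQ]; simp [Pi.single_apply]
    have e2 : (Matrix.transvection (0 : Fin (n + 2)) 1 (1 : K)).mulVec (Pi.single k 1) =
        Pi.single k 1 + (if k = 1 then (1 : K) else 0) • Pi.single 0 1 := by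
      rw [Matrix.transvection, Matrix.add_mulVec, Matrix.one_mulVec]
      congr 1
      ext l
      rw [Matrix.mulVec_single_one]
      by_cases hk : k = 1
      · subst hk
        by_cases hl : l = 0
        · subst hl; simp [Matrix.single_apply]
        · simp [Matrix.single_apply, hl, Pi.single_apply, Ne.symm hl]
      · simp [Matrix.single_apply, hk, Ne.symm hk]
    rw [e1, e2, Matrix.mulVec_add, Matrix.mulVec_smul, e1, hg, hfb]
    congr 1
    rw [hQ]; simp [Pi.single_apply, hb0]
  have key2 : (D * J * D⁻¹)⁻¹ * (D' * J * D'⁻¹) = Q⁻¹ * g * Q := by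
    rw [inv_mul_eq_iff_eq_mul]
    apply Units.ext
    rw [Units.val_mul (D * J * D⁻¹) (Q⁻¹ * g * Q), Dc_conj J hJ, Dc_conj J hJ, ← Tc_mul]
    congr 1
    rw [Units.val_mul, Units.val_mul, Matrix.mul_assoc, key, ← Matrix.mul_assoc, ← Units.val_mul,
      inv_mul_cancel, Units.val_one, Matrix.one_mul]
  refine ⟨Q * D * X, Q * D', ?_⟩
  have h3 : g = Q * ((D * J * D⁻¹)⁻¹ * (D' * J * D'⁻¹)) * Q⁻¹ := by
    rw [key2]; group
  rw [h3]
  have h4 : (D * J * D⁻¹)⁻¹ = D * (X * J * X⁻¹) * D⁻¹ := by
    rw [← hX]; group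
  rw [h4]; group

theorem main (hK : (4 : Cardinal) ≤ Cardinal.mk K) (n : ℕ) (J g : GL (Fin (n + 2)) K)
    (hJ : ∀ i j : Fin (n + 2), (J : Matrix (Fin (n + 2)) (Fin (n + 2)) K) i j =
      if i = j then 1 else if j.val = i.val + 1 then 1 else 0)
    (hg : ¬ ∃ c : K, (g : Matrix (Fin (n + 2)) (Fin (n + 2)) K) =
      c • (1 : Matrix (Fin (n + 2)) (Fin (n + 2)) K))
    (hdet : (g : Matrix (Fin (n + 2)) (Fin (n + 2)) K).det = 1) :
    ∃ x y : GL (Fin (n + 2)) K, g = (x * J * x⁻¹) * (y * J * y⁻¹) := by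
  classical
  let S : (Fin (n + 2) → K) →ₗ[K] (Fin (n + 2) → K) :=
    Matrix.toLin' (g : Matrix (Fin (n + 2)) (Fin (n + 2)) K)
  have hSdet : LinearMap.det S = 1 := by
    rw [LinearMap.det_toLin', hdet]
  have hns : ∀ c : K, ∃ w, S w ≠ c • w := by
    intro c
    by_contra hcon
    push Not at hcon
    apply hg
    refine ⟨c, ?_⟩
    apply Matrix.toLin'.injective
    ext1 w
    rw [map_smul, Matrix.toLin'_one]
    ext1
    simp only [LinearMap.comp_apply]
    rw [show (Matrix.toLin' (g : Matrix (Fin (n + 2)) (Fin (n + 2)) K)) = S from rfl, hcon]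
    rfl
  by_cases hrk : ∀ z, ∃ w, S w - w ∉ K ∙ z
  · obtain ⟨N₁, N₂, a1, a2, a3, ⟨w, a4⟩, a5⟩ := Peel.main (K := K) hK (n + 1) (Fin (n + 2) → K)
      (by simp) S hSdet (fun _ => ⟨hns, hrk⟩) (Pi.single 0 1)
      (by intro h; have := congrFun h 0; simp at this) (LinearMap.proj 0)
      (by intro h; have := LinearMap.congr_fun h (Pi.single 0 1); simp at this)
    have hw : (N₂ ^ (n + 1)) w ≠ 0 := by
      intro h; rw [h] at a4; simp at a4
    have hdet1 : ∀ N : (Fin (n + 2) → K) →ₗ[K] (Fin (n + 2) → K), N ^ (n + 2) = 0 →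
        ∃ M : GL (Fin (n + 2)) K, (∀ v, (M : Matrix (Fin (n + 2)) (Fin (n + 2)) K).mulVec v = v + N v)
          ∧ (M : Matrix (Fin (n + 2)) (Fin (n + 2)) K) = LinearMap.toMatrix' (1 + N) := by
      intro N hN
      have hnil : IsNilpotent N := ⟨_, hN⟩
      obtain ⟨u, hu⟩ : IsUnit (1 + N) := hnil.isUnit_one_add
      refine ⟨⟨LinearMap.toMatrix' (1 + N), LinearMap.toMatrix' (↑(u⁻¹) : Module.End K _), ?_, ?_⟩,
        ?_, rfl⟩
      · rw [← LinearMap.toMatrix'_mul, ← hu, Units.mul_inv]; exact LinearMap.toMatrix'_one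
      · rw [← LinearMap.toMatrix'_mul, ← hu, Units.inv_mul]; exact LinearMap.toMatrix'_one
      · intro v
        show (LinearMap.toMatrix' (1 + N)).mulVec v = _
        rw [← Matrix.toLin'_apply, Matrix.toLin'_toMatrix']
        rfl
    obtain ⟨M₁, m1, m1'⟩ := hdet1 N₁ a1
    obtain ⟨M₂, m2, m2'⟩ := hdet1 N₂ a2
    obtain ⟨x, hx⟩ := exists_conj J hJ N₁ a1 _ a3 M₁ m1
    obtain ⟨y, hy⟩ := exists_conj J hJ N₂ a2 w hw M₂ m2
    refine ⟨x, y, ?_⟩
    rw [← hx, ← hy]
    apply Units.ext
    rw [Units.val_mul, m1', m2', ← LinearMap.toMatrix'_mul, ← a5]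
    simp [S]
  · push Not at hrk
    obtain ⟨z, hz⟩ := hrk
    have hz0 : z ≠ 0 := by
      rintro rfl
      obtain ⟨w, hw⟩ := hns 1
      apply hw
      have := hz w
      rw [Submodule.span_zero_singleton, mem_bot, sub_eq_zero] at this
      rw [one_smul, this]
    -- the functional
    choose t ht using fun w => mem_span_singleton.1 (hz w)
    let f : (Fin (n + 2) → K) →ₗ[K] K :=
      { toFun := t
        map_add' := by
          intro a b
          have : (t (a + b) - (t a + t b)) • z = 0 := by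
            rw [sub_smul, add_smul, ht, ht, ht, map_add]; abel
          rcases smul_eq_zero.1 this with h | h
          · exact sub_eq_zero.1 h
          · exact absurd h hz0
        map_smul' := by
          intro a b
          have : (t (a • b) - a * t b) • z = 0 := by
            rw [sub_smul, mul_smul, ht, ht, map_smul, smul_sub]; abel
          rcases smul_eq_zero.1 this with h | h
          · exact sub_eq_zero.1 h
          · exact absurd h hz0 }
    have hSf : S = LinearMap.transvection f z := by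
      ext1
      ext1
      simp only [LinearMap.comp_apply, LinearMap.transvection.apply]
      exact (eq_add_of_sub_eq' (ht _).symm)
    have hfz : f z = 0 := by
      have := LinearMap.transvection.det f z
      rw [← hSf, hSdet] at this
      simpa using this
    have hf0 : f ≠ 0 := by
      intro h
      obtain ⟨w, hw⟩ := hns 1
      apply hw
      rw [hSf, h]; simp [LinearMap.transvection.apply]
    refine transvection_case hK n J g hJ z f hz0 hf0 hfz ?_
    intro w
    rw [← Matrix.toLin'_apply]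
    show S w = _
    rw [hSf, LinearMap.transvection.apply]

end Cfsg.Agent.H161.TwoUnip
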