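import Mathlib

/-!
# Avoiding few proper subspaces

`exists_avoid`: over a field with at least `k` elements a vector space is not the union of `k`
proper subspaces (relative version `exists_avoid_in`).
-/

set_option autoImplicit false

namespace Cfsg.Agent.H161.Avoid

universe u v

variable {K : Type u} {V : Type v} [Field K] [AddCommGroup V] [Module K V]

/-- A vector space over a field with at least `k` elements is not a union of `k` proper
subspaces. -/
theorem exists_avoid (l : List (Submodule K V)) (hl : (l.length : Cardinal) ≤ Cardinal.mk K)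
    (h : ∀ A ∈ l, A ≠ ⊤) : ∃ v : V, ∀ A ∈ l, v ∉ A := by
  classical
  induction l with
  | nil => exact ⟨0, by simp⟩
  | cons A l ih =>
    have hl' : (l.length : Cardinal) ≤ Cardinal.mk K := by
      refine le_trans ?_ hl
      exact_mod_cast Nat.le_succ l.length
    obtain ⟨x, hx⟩ := ih hl' (fun B hB => h B (List.mem_cons_of_mem _ hB))
    by_cases hxA : x ∈ A
    swap
    · exact ⟨x, by
        intro B hB
        rcases List.mem_cons.1 hB with rfl | hB
        · exact hxA
        · exact hx B hB⟩
    have hA : A ≠ ⊤ := h A (by simp)
    obtain ⟨y, -, hy⟩ := SetLike.exists_of_lt (lt_top_iff_ne_top.2 hA)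
    by_contra hcon
    push Not at hcon
    -- every `y + t x` is in some member of `l`
    have hmem : ∀ t : K, ∃ i : Fin l.length, y + t • x ∈ l.get i := by
      intro t
      obtain ⟨B, hB, hB'⟩ := hcon (y + t • x)
      rcases List.mem_cons.1 hB with rfl | hB
      · exact absurd ((B.add_mem_iff_left (B.smul_mem t hxA)).1 hB') hy
      · obtain ⟨i, hi⟩ := List.get_of_mem hB
        exact ⟨i, by rw [hi]; exact hB'⟩
    choose f hf using hmem
    have hinj : Function.Injective f := by
      intro s t hst
      by_contra hne
      have h1 := hf s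
      have h2 := hf t
      rw [← hst] at h2
      have h3 : (s - t) • x ∈ l.get (f s) := by
        have := (l.get (f s)).sub_mem h1 h2
        have h4 : y + s • x - (y + t • x) = (s - t) • x := by
          rw [sub_smul]; abel
        rwa [h4] at this
      have h5 : x ∈ l.get (f s) := by
        have := (l.get (f s)).smul_mem (s - t)⁻¹ h3
        rwa [smul_smul, inv_mul_cancel₀ (sub_ne_zero.2 hne), one_smul] at this
      exact hx _ (List.get_mem l (f s)) h5
    have h6 : Cardinal.mk K ≤ (l.length : Cardinal) := by
      have := Cardinal.mk_le_of_injective (f := fun k : K => (ULift.up.{u} (f k)))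
        (fun a b hab => hinj (ULift.up_injective hab))
      simpa using this
    have h7 : ((l.length + 1 : ℕ) : Cardinal) ≤ (l.length : Cardinal) := le_trans (by simpa using hl) h6
    have h8 : l.length + 1 ≤ l.length := by exact_mod_cast h7
    omega

/-- Relative version of `exists_avoid`. -/
theorem exists_avoid_in (P : Submodule K V) (l : List (Submodule K V))
    (hl : (l.length : Cardinal) ≤ Cardinal.mk K)
    (h : ∀ A ∈ l, ¬ P ≤ A) : ∃ v ∈ P, ∀ A ∈ l, v ∉ A := by
  obtain ⟨v, hv⟩ := exists_avoid (l.map (fun A => A.comap P.subtype)) (by simpa using hl) (by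
    intro B hB
    obtain ⟨A, hA, rfl⟩ := List.mem_map.1 hB
    intro hB
    apply h A hA
    intro p hp
    have : (⟨p, hp⟩ : P) ∈ A.comap P.subtype := by rw [hB]; trivial
    exact this)
  refine ⟨v, v.2, ?_⟩
  intro A hA hvA
  exact hv (A.comap P.subtype) (List.mem_map.2 ⟨A, hA, rfl⟩) hvA

end Cfsg.Agent.H161.Avoid
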