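import Cfsg.Agent.H161.ChooseV

/-!
# Choosing the functional
-/

set_option autoImplicit false

namespace Cfsg.Agent.H161.Peel

open Module Submodule

universe u v

variable {K : Type u} {V : Type v} [Field K] [AddCommGroup V] [Module K V]

/-- functionals vanishing at `a` -/
def ev (a : V) : Submodule K (V →ₗ[K] K) := LinearMap.ker (LinearMap.applyₗ (R := K) a)

theorem mem_ev {a : V} {φ : V →ₗ[K] K} : φ ∈ (ev a : Submodule K (V →ₗ[K] K)) ↔ φ a = 0 := by
  rw [ev, LinearMap.mem_ker]; rfl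

theorem not_ev_le {u a : V} (h : a ∉ K ∙ u) : ¬ (ev u : Submodule K (V →ₗ[K] K)) ≤ ev a := by
  intro hle
  obtain ⟨f, hf, hf'⟩ := Submodule.exists_le_ker_of_notMem h
  have : f ∈ (ev u : Submodule K (V →ₗ[K] K)) := mem_ev.2 (hf' (mem_span_singleton_self u))
  exact hf (mem_ev.1 (hle this))

/-- two-dimensional lemma -/
theorem two_dim [FiniteDimensional K V] (h2 : finrank K V = 2) (T : V →ₗ[K] V)
    (hT : LinearMap.det T = 1) (u : V) (hu : u ≠ 0) (hTu : T u = u) (w : V) :
    T w - w ∈ K ∙ u := by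
  classical
  by_cases hw : w ∈ K ∙ u
  · obtain ⟨c, rfl⟩ := mem_span_singleton.1 hw
    rw [map_smul, hTu, sub_self]; exact zero_mem _
  · have hli : LinearIndependent K ![u, w] := by
      rw [LinearIndependent.pair_iff' hu]
      intro a ha
      exact hw (mem_span_singleton.2 ⟨a, ha⟩)
    let b : Basis (Fin 2) K V := basisOfLinearIndependentOfCardEqFinrank hli (by simp [h2])
    have hb0 : b 0 = u := by simp [b]
    have hb1 : b 1 = w := by simp [b]
    have hTw : T w = b.repr (T w) 0 • u + b.repr (T w) 1 • w := by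
      have := b.sum_repr (T w)
      rw [Fin.sum_univ_two, hb0, hb1] at this
      exact this.symm
    have hdet : LinearMap.det T = b.repr (T w) 1 := by
      rw [← LinearMap.det_toMatrix b, Matrix.det_fin_two, LinearMap.toMatrix_apply,
        LinearMap.toMatrix_apply, LinearMap.toMatrix_apply, LinearMap.toMatrix_apply, hb0, hb1, hTu]
      rw [← hb0, b.repr_self]
      simp
    rw [hT] at hdet
    rw [hTw, ← hdet, one_smul, add_sub_cancel_right]
    exact mem_span_singleton.2 ⟨_, rfl⟩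

section

variable (S : V →ₗ[K] V) (v : V)

/-- `{w | (S - 1) w ∈ K (S v)}` -/
def EE : Submodule K V := (K ∙ S v).comap (sub1 S)

theorem mem_EE {w : V} : w ∈ EE S v ↔ ∃ t : K, S w - w = t • S v := by
  rw [EE, mem_comap, mem_span_singleton, sub1_apply]
  exact ⟨fun ⟨t, ht⟩ => ⟨t, ht.symm⟩, fun ⟨t, ht⟩ => ⟨t, ht.symm⟩⟩

variable {S v} {φ : V →ₗ[K] K} (h : φ v = 1) (h1 : φ (S v) = 1)

include h1 in
/-- On `ker φ ∩ E` the Schur complement is the identity. -/
theorem peel_of_mem_EE (w : LinearMap.ker φ) (hw : (w : V) ∈ EE S v) : peel S v φ h1 w = w := by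
  obtain ⟨t, ht⟩ := (mem_EE S v).1 hw
  have h2 : φ (S w) = t := by
    have := congrArg φ ht
    rwa [map_sub, map_smul, h1, show φ (w : V) = 0 from w.2, sub_zero, smul_eq_mul, mul_one] at this
  ext
  rw [coe_peel, h2, ← ht]; abel

include h1 in
theorem mem_EE_of_peel (w : LinearMap.ker φ) (hw : peel S v φ h1 w = w) : (w : V) ∈ EE S v := by
  refine (mem_EE S v).2 ⟨φ (S w), ?_⟩
  have := congrArg Subtype.val hw
  rw [coe_peel] at this
  exact sub_eq_iff_eq_add'.2 (sub_eq_iff_eq_add.1 this)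

include h in
theorem finrank_ker_phi [FiniteDimensional K V] :
    finrank K (LinearMap.ker φ) + 1 = finrank K V := by
  have h2 := LinearMap.finrank_range_add_finrank_ker φ
  have h3 : LinearMap.range φ = ⊤ := by
    rw [LinearMap.range_eq_top]
    intro c
    exact ⟨c • v, by rw [map_smul, h, smul_eq_mul, mul_one]⟩
  rw [h3, finrank_top, finrank_self] at h2
  omega

include h1 in
/-- rank of `S' - 1` is at least two when `φ` does not vanish on `E`. -/
theorem rk_of_mem (h7 : ∀ z, ∃ w, S w - w ∉ span K {S v, z}) {a : V} (ha : a ∈ EE S v)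
    (hφa : φ a ≠ 0) (z : LinearMap.ker φ) : ∃ w, peel S v φ h1 w - w ∉ K ∙ z := by
  by_contra hcon
  push Not at hcon
  obtain ⟨w, hw⟩ := h7 z
  apply hw
  obtain ⟨t, ht⟩ := (mem_EE S v).1 ha
  -- decompose `w`
  have hw1 : w - (φ w / φ a) • a ∈ LinearMap.ker φ := by
    rw [LinearMap.mem_ker, map_sub, map_smul, smul_eq_mul, div_mul_cancel₀ _ hφa, sub_self]
  obtain ⟨s, hs⟩ := mem_span_singleton.1 (hcon ⟨_, hw1⟩)
  have hs' := congrArg Subtype.val hs
  rw [AddSubgroupClass.coe_sub, coe_peel] at hs'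
  simp only [coe_smul] at hs'
  have e1 : S w - w = (φ w / φ a * t + φ (S (w - (φ w / φ a) • a))) • S v + s • (z : V) := by
    rw [hs', add_smul, mul_smul, ← ht]
    simp only [map_sub, map_smul, smul_sub]
    abel
  rw [e1]
  exact mem_span_pair.2 ⟨_, _, rfl⟩

include h h1 in
/-- the functional `φ` with scalar Schur complement is unique -/
theorem bad_unique [FiniteDimensional K V] (hinj : Function.Injective S)
    (hm : 3 ≤ finrank K V) (hv : ∀ c : K, S v ≠ c • v) {φ' : V →ₗ[K] K} (h' : φ' v = 1)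
    (h1' : φ' (S v) = 1) {c c' : K} (hc : ∀ w : LinearMap.ker φ, peel S v φ h1 w = c • w)
    (hc' : ∀ w : LinearMap.ker φ', peel S v φ' h1' w = c' • w) : φ = φ' := by
  have hf1 := finrank_ker_phi h
  have hf2 := finrank_ker_phi h'
  have hf3 := Submodule.finrank_sup_add_finrank_inf_eq (LinearMap.ker φ) (LinearMap.ker φ')
  have hf4 := Submodule.finrank_le (LinearMap.ker φ ⊔ LinearMap.ker φ')
  have hf5 : 0 < finrank K (LinearMap.ker φ ⊓ LinearMap.ker φ' : Submodule K V) := by omega
  obtain ⟨w, hw, hw0⟩ := Submodule.exists_mem_ne_zero_of_ne_bot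
    (p := (LinearMap.ker φ ⊓ LinearMap.ker φ' : Submodule K V)) (by
      rintro h
      rw [h, finrank_bot] at hf5
      omega)
  have e1 := congrArg Subtype.val (hc ⟨w, hw.1⟩)
  have e2 := congrArg Subtype.val (hc' ⟨w, hw.2⟩)
  rw [coe_peel] at e1 e2
  simp only [coe_smul] at e1 e2
  have e3 : (c - c') • w = (φ' (S w) - φ (S w)) • S v := by
    rw [sub_smul, ← e1, ← e2, sub_smul]; abel
  have e4 : φ' (S w) - φ (S w) = 0 := by
    have := congrArg φ e3
    rw [map_smul, map_smul, h1, show φ w = 0 from hw.1] at this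
    simpa using this.symm
  rw [e4, zero_smul] at e3
  have hcc : c = c' := by
    rcases smul_eq_zero.1 e3 with h | h
    · exact sub_eq_zero.1 h
    · exact absurd h hw0
  have hc0 : c ≠ 0 := by
    rintro rfl
    rw [zero_smul, sub_eq_zero, ← map_smul] at e1
    have e5 := hinj e1
    have e6 : φ (S w) = 0 := by
      have := congrArg φ e5
      rw [map_smul, h, show φ w = 0 from hw.1] at this
      simpa using this.symm
    rw [e6, zero_smul] at e5
    exact hw0 e5
  subst hcc
  -- `ker φ ≤ ker φ'`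
  have hker : ∀ w, φ w = 0 → φ' w = 0 := by
    intro w₂ hw₂
    by_contra hne
    have g1 := congrArg Subtype.val (hc ⟨w₂, hw₂⟩)
    have hw₃ : v - (φ' w₂)⁻¹ • w₂ ∈ LinearMap.ker φ' := by
      rw [LinearMap.mem_ker, map_sub, map_smul, h', smul_eq_mul, inv_mul_cancel₀ hne, sub_self]
    have g2 := congrArg Subtype.val (hc' ⟨_, hw₃⟩)
    rw [coe_peel] at g1 g2
    simp only [coe_smul] at g1 g2
    have g3 : c • v = (1 - φ' (S (v - (φ' w₂)⁻¹ • w₂)) - (φ' w₂)⁻¹ * φ (S w₂)) • S v := by
      have : c • v = c • (v - (φ' w₂)⁻¹ • w₂) + (φ' w₂)⁻¹ • (c • w₂) := by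
        rw [smul_sub, smul_comm]; abel
      rw [this, ← g1, ← g2]
      simp only [map_sub, map_smul, smul_sub, sub_smul, one_smul, mul_smul]
      abel
    set t := (1 - φ' (S (v - (φ' w₂)⁻¹ • w₂)) - (φ' w₂)⁻¹ * φ (S w₂)) with ht
    have ht0 : t ≠ 0 := by
      intro h0
      rw [h0, zero_smul] at g3
      rcases smul_eq_zero.1 g3 with h3 | h3
      · exact hc0 h3
      · rw [h3, map_zero] at h; exact zero_ne_one h
    apply hv (t⁻¹ * c)
    rw [mul_smul, g3, smul_smul, inv_mul_cancel₀ ht0, one_smul]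
  ext z
  have h3 : φ (z - φ z • v) = 0 := by rw [map_sub, map_smul, h]; simp
  have h4 := hker _ h3
  rw [map_sub, map_smul, h', smul_eq_mul, mul_one, sub_eq_zero] at h4
  exact h4.symm

end

end Cfsg.Agent.H161.Peel
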