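import Cfsg.Agent.H161.Lift

/-!
# Choosing the vector
-/

set_option autoImplicit false

namespace Cfsg.Agent.H161.Peel

open Module Submodule

universe u v

variable {K : Type u} {V : Type v} [Field K] [AddCommGroup V] [Module K V]

/-- `S` is not scalar and `S - 1` has rank at least two. -/
structure Nice (S : V →ₗ[K] V) : Prop where
  ns : ∀ c : K, ∃ w, S w ≠ c • w
  rk : ∀ z : V, ∃ w, S w - w ∉ K ∙ z

/-- `S - 1` -/
def sub1 (S : V →ₗ[K] V) : V →ₗ[K] V := S - LinearMap.id

theorem sub1_apply (S : V →ₗ[K] V) (z : V) : sub1 S z = S z - z := rfl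

theorem exists_le_span_singleton [FiniteDimensional K V] (R : Submodule K V)
    (h : finrank K R ≤ 1) : ∃ z, R ≤ K ∙ z := by
  obtain ⟨v, hv⟩ := finrank_le_one_iff.1 h
  refine ⟨v, fun w hw => ?_⟩
  obtain ⟨c, hc⟩ := hv ⟨w, hw⟩
  rw [mem_span_singleton]
  exact ⟨c, congrArg Subtype.val hc⟩

theorem finrank_span_pair_le (a b : V) : finrank K (span K {a, b}) ≤ 2 := by
  classical
  have := finrank_span_finset_le_card (R := K) ({a, b} : Finset V)
  rw [Finset.coe_pair] at this
  exact this.trans Finset.card_le_two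

theorem choose_v [FiniteDimensional K V] (hK : (4 : Cardinal) ≤ Cardinal.mk K)
    (S : V →ₗ[K] V) (hS : Nice S) (x : V) (y : V →ₗ[K] K)
    (hy : y ≠ 0) :
    ∃ v, y v ≠ 0 ∧ S v - v ∉ K ∙ x ∧ (∀ c : K, S v ≠ c • v) ∧
      (3 ≤ finrank K V → ∀ z, ∃ w, S w - w ∉ span K {S v, z}) := by
  classical
  have hH1 : LinearMap.ker y ≠ ⊤ := by
    intro h; exact hy (LinearMap.ker_eq_top.1 h)
  have hH2 : (K ∙ x).comap (sub1 S) ≠ ⊤ := by
    intro h
    obtain ⟨w, hw⟩ := hS.rk x
    exact hw (by
      have : w ∈ (K ∙ x).comap (sub1 S) := by rw [h]; trivial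
      exact this)
  have hR : 2 ≤ finrank K (LinearMap.range (sub1 S)) := by
    by_contra hcon
    obtain ⟨z, hz⟩ := exists_le_span_singleton (LinearMap.range (sub1 S)) (by omega)
    obtain ⟨w, hw⟩ := hS.rk z
    exact hw (hz ⟨w, rfl⟩)
  by_cases hA : 3 ≤ finrank K V ∧ finrank K (LinearMap.range (sub1 S)) ≤ 2
  · obtain ⟨hm, hr⟩ := hA
    have hH3 : LinearMap.range (sub1 S) ≠ ⊤ := by
      intro h
      rw [h, finrank_top] at hr
      omega
    obtain ⟨v, hv⟩ := Avoid.exists_avoid (K := K) (V := V)
      [LinearMap.ker y, (K ∙ x).comap (sub1 S), LinearMap.range (sub1 S)]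
      (le_trans (by norm_num) hK) (by
        intro A hA
        simp only [List.mem_cons, List.not_mem_nil, or_false] at hA
        rcases hA with rfl | rfl | rfl
        · exact hH1
        · exact hH2
        · exact hH3)
    have hv1 := hv (LinearMap.ker y) (by simp)
    have hv2 := hv ((K ∙ x).comap (sub1 S)) (by simp)
    have hv3 := hv (LinearMap.range (sub1 S)) (by simp)
    rw [mem_comap, sub1_apply] at hv2
    refine ⟨v, hv1, hv2, ?_, ?_⟩
    · intro c hc
      by_cases h1 : c = 1
      · apply hv2
        rw [hc, h1, one_smul, sub_self]; exact zero_mem _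
      · apply hv3
        refine ⟨(c - 1)⁻¹ • v, ?_⟩
        have h2 : c • v - v = (c - 1) • v := by rw [sub_smul, one_smul]
        rw [sub1_apply, map_smul, hc, ← smul_sub, h2, smul_smul,
          inv_mul_cancel₀ (sub_ne_zero.2 h1), one_smul]
    · intro _ z
      by_contra hcon
      push Not at hcon
      have hle : LinearMap.range (sub1 S) ≤ span K {S v, z} := by
        rintro _ ⟨w, rfl⟩
        exact hcon w
      have heq : LinearMap.range (sub1 S) = span K {S v, z} :=
        Submodule.eq_of_le_of_finrank_le hle ((finrank_span_pair_le _ _).trans hR)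
      apply hv3
      have h1 : S v ∈ LinearMap.range (sub1 S) := by
        rw [heq]; exact subset_span (by simp)
      have h2 : S v - v ∈ LinearMap.range (sub1 S) := ⟨v, rfl⟩
      have := sub_mem h1 h2
      simpa using this
  · have hlast : ∀ v : V, 3 ≤ finrank K V → ∀ z, ∃ w, S w - w ∉ span K {S v, z} := by
      intro v hm z
      by_contra hcon
      push Not at hcon
      apply hA
      refine ⟨hm, ?_⟩
      have hle : LinearMap.range (sub1 S) ≤ span K {S v, z} := by
        rintro _ ⟨w, rfl⟩
        exact hcon w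
      exact (Submodule.finrank_mono hle).trans (finrank_span_pair_le _ _)
    suffices h : ∃ v, y v ≠ 0 ∧ S v - v ∉ K ∙ x ∧ (∀ c : K, S v ≠ c • v) by
      obtain ⟨v, h1, h2, h3⟩ := h
      exact ⟨v, h1, h2, h3, hlast v⟩
    by_contra hcon
    push Not at hcon
    obtain ⟨v₁, hv₁⟩ := Avoid.exists_avoid (K := K) (V := V)
      [LinearMap.ker y, (K ∙ x).comap (sub1 S)]
      (le_trans (by norm_num) hK) (by
        intro A hA
        simp only [List.mem_cons, List.not_mem_nil, or_false] at hA
        rcases hA with rfl | rfl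
        · exact hH1
        · exact hH2)
    have a1 := hv₁ (LinearMap.ker y) (by simp)
    have a2 := hv₁ ((K ∙ x).comap (sub1 S)) (by simp)
    obtain ⟨c, hc⟩ := hcon v₁ a1 a2
    have hH3 : LinearMap.ker (S - c • LinearMap.id) ≠ ⊤ := by
      intro h
      obtain ⟨w, hw⟩ := hS.ns c
      apply hw
      have : w ∈ LinearMap.ker (S - c • LinearMap.id) := by rw [h]; trivial
      rw [LinearMap.mem_ker] at this
      simpa [sub_eq_zero] using this
    obtain ⟨v₂, hv₂⟩ := Avoid.exists_avoid (K := K) (V := V)
      [LinearMap.ker y, (K ∙ x).comap (sub1 S), LinearMap.ker (S - c • LinearMap.id)]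
      (le_trans (by norm_num) hK) (by
        intro A hA
        simp only [List.mem_cons, List.not_mem_nil, or_false] at hA
        rcases hA with rfl | rfl | rfl
        · exact hH1
        · exact hH2
        · exact hH3)
    have b1 := hv₂ (LinearMap.ker y) (by simp)
    have b2 := hv₂ ((K ∙ x).comap (sub1 S)) (by simp)
    have b3 := hv₂ (LinearMap.ker (S - c • LinearMap.id)) (by simp)
    obtain ⟨d, hd⟩ := hcon v₂ b1 b2
    have b4 : v₁ ∉ LinearMap.ker (S - d • LinearMap.id) := by
      intro h
      rw [LinearMap.mem_ker] at h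
      simp only [LinearMap.sub_apply, LinearMap.smul_apply, LinearMap.id_apply, hc,
        ← sub_smul] at h
      rcases smul_eq_zero.1 h with h | h
      · apply b3
        rw [LinearMap.mem_ker]
        simp only [LinearMap.sub_apply, LinearMap.smul_apply, LinearMap.id_apply, hd,
          ← sub_smul]
        rw [show d - c = -(c - d) by ring, h]; simp
      · apply a1; rw [h]; exact zero_mem _
    obtain ⟨u, hu, hu'⟩ := Avoid.exists_avoid_in (K := K) (V := V) (span K {v₁, v₂})
      [LinearMap.ker y, (K ∙ x).comap (sub1 S), LinearMap.ker (S - c • LinearMap.id),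
        LinearMap.ker (S - d • LinearMap.id)]
      (le_trans (by norm_num) hK) (by
        intro A hA hle
        simp only [List.mem_cons, List.not_mem_nil, or_false] at hA
        have m1 : v₁ ∈ A := hle (subset_span (by simp))
        have m2 : v₂ ∈ A := hle (subset_span (by simp))
        rcases hA with rfl | rfl | rfl | rfl
        · exact a1 m1
        · exact a2 m1
        · exact b3 m2
        · exact b4 m1)
    have c1 := hu' (LinearMap.ker y) (by simp)
    have c2 := hu' ((K ∙ x).comap (sub1 S)) (by simp)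
    have c3 := hu' (LinearMap.ker (S - c • LinearMap.id)) (by simp)
    have c4 := hu' (LinearMap.ker (S - d • LinearMap.id)) (by simp)
    obtain ⟨e, he⟩ := hcon u c1 c2
    obtain ⟨a, b, rfl⟩ := mem_span_pair.1 hu
    have h1 : (e - c) • (a • v₁ + b • v₂) = (b * (d - c)) • v₂ := by
      rw [sub_smul, ← he]
      simp only [map_add, map_smul, hc, hd, smul_add, smul_smul, mul_sub, sub_smul, mul_comm c]
      abel
    have hec : e - c ≠ 0 := by
      intro h
      apply c3
      rw [LinearMap.mem_ker, LinearMap.sub_apply, he, LinearMap.smul_apply, LinearMap.id_apply,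
        ← sub_smul, h, zero_smul]
    have h2 : a • v₁ + b • v₂ = ((e - c)⁻¹ * (b * (d - c))) • v₂ := by
      rw [mul_smul, ← h1, smul_smul, inv_mul_cancel₀ hec, one_smul]
    apply c4
    rw [h2, LinearMap.mem_ker, map_smul, LinearMap.sub_apply, LinearMap.smul_apply,
      LinearMap.id_apply, hd, sub_self, smul_zero]

end Cfsg.Agent.H161.Peel
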