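import Mathlib

/-!
# The list of the maximal element orders of `G₂(q)`, `q` odd, is an antichain (helper161)
-/

set_option autoImplicit false

namespace Cfsg.Agent.H161.G2Anti

/-- the list -/
def L (p q : ℕ) : Set ℕ :=
  {p * (q + 1), p * (q - 1), q ^ 2 - 1, q ^ 2 + q + 1, q ^ 2 - q + 1} ∪
    (if p = 3 ∨ p = 5 then ({p ^ 2} : Set ℕ) else ∅)

theorem antichain {p q : ℕ} (hp : p.Prime) (hp2 : p ≠ 2) (hpq : p ∣ q) (hq : 5 ≤ q) :
    ∀ x ∈ L p q, ∀ y ∈ L p q, x ∣ y → x = y := by
  obtain ⟨k, rfl⟩ : ∃ k, q = k + 1 := ⟨q - 1, by omega⟩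
  have hk : 4 ≤ k := by omega
  have hp3 : 3 ≤ p := by have := hp.two_le; omega
  have hpk : p ≤ k + 1 := Nat.le_of_dvd (by omega) hpq
  -- normal forms
  have eC : (k + 1) ^ 2 - 1 = k * (k + 2) := by
    have : (k + 1) ^ 2 = k * (k + 2) + 1 := by ring
    omega
  have eE : (k + 1) ^ 2 - (k + 1) + 1 = k * k + k + 1 := by
    have : (k + 1) ^ 2 = k * k + k + (k + 1) := by ring
    omega
  have eD : (k + 1) ^ 2 + (k + 1) + 1 = k * k + 3 * k + 3 := by ring
  have hkk : 4 * k ≤ k * k := Nat.mul_le_mul_right k hk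
  -- coprimality
  have nA : ¬ p ∣ k + 2 := by
    intro h
    have := (Nat.dvd_add_right hpq).1 (show p ∣ k + 1 + 1 from h)
    exact hp.one_lt.ne' (Nat.dvd_one.1 this)
  have nB : ¬ p ∣ k := by
    intro h
    have := (Nat.dvd_add_right h).1 hpq
    exact hp.one_lt.ne' (Nat.dvd_one.1 this)
  have nC : ¬ p ∣ k * (k + 2) := fun h => by
    rcases (Nat.Prime.dvd_mul hp).1 h with h | h
    · exact nB h
    · exact nA h
  have nD : ¬ p ∣ k * k + 3 * k + 3 := by
    intro h
    have e : k * k + 3 * k + 3 = (k + 1) * (k + 2) + 1 := by ring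
    rw [e] at h
    exact hp.one_lt.ne' (Nat.dvd_one.1 ((Nat.dvd_add_right (hpq.mul_right _)).1 h))
  have nE : ¬ p ∣ k * k + k + 1 := by
    intro h
    have e : k * k + k + 1 = (k + 1) * k + 1 := by ring
    rw [e] at h
    exact hp.one_lt.ne' (Nat.dvd_one.1 ((Nat.dvd_add_right (hpq.mul_right _)).1 h))
  have cC : (k * (k + 2)).Coprime p := ((Nat.Prime.coprime_iff_not_dvd hp).2 nC).symm
  have cD : (k * k + 3 * k + 3).Coprime p := ((Nat.Prime.coprime_iff_not_dvd hp).2 nD).symm
  have cE : (k * k + k + 1).Coprime p := ((Nat.Prime.coprime_iff_not_dvd hp).2 nE).symm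
  have kp : ¬ k ∣ p := by
    intro h
    rcases (Nat.dvd_prime hp).1 h with h | h
    · omega
    · exact nB (by rw [h])
  have k2p : ¬ k + 2 ∣ p := by
    intro h
    have := Nat.le_of_dvd hp.pos h
    omega
  -- the list of contradictions
  have AB : ¬ p * (k + 2) ∣ p * k := fun h => by
    have h1 := Nat.dvd_of_mul_dvd_mul_left hp.pos h
    have := Nat.le_of_dvd (by omega) h1
    omega
  have BA : ¬ p * k ∣ p * (k + 2) := fun h => by
    have h1 := Nat.dvd_of_mul_dvd_mul_left hp.pos h
    have h2 := (Nat.dvd_add_right (dvd_refl k)).1 h1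
    have := Nat.le_of_dvd (by omega) h2
    omega
  have CA : ¬ k * (k + 2) ∣ p * (k + 2) := fun h => by
    exact kp (Nat.dvd_of_mul_dvd_mul_right (by omega) h)
  have CB : ¬ k * (k + 2) ∣ p * k := fun h => by
    rw [mul_comm p] at h
    exact k2p (Nat.dvd_of_mul_dvd_mul_left (by omega) h)
  have CD : ¬ k * (k + 2) ∣ k * k + 3 * k + 3 := fun h => by
    have e : k * k + 3 * k + 3 = k * (k + 2) + (k + 3) := by ring
    rw [e] at h
    have h1 := (Nat.dvd_add_right (dvd_refl _)).1 h
    have := Nat.le_of_dvd (by omega) h1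
    nlinarith
  have CE : ¬ k * (k + 2) ∣ k * k + k + 1 := fun h => by
    have := Nat.le_of_dvd (by omega) h
    nlinarith
  have DA : ¬ k * k + 3 * k + 3 ∣ p * (k + 2) := fun h => by
    have h1 := cD.dvd_of_dvd_mul_left h
    have := Nat.le_of_dvd (by omega) h1
    nlinarith
  have DB : ¬ k * k + 3 * k + 3 ∣ p * k := fun h => by
    have h1 := cD.dvd_of_dvd_mul_left h
    have := Nat.le_of_dvd (by omega) h1
    nlinarith
  have DC : ¬ k * k + 3 * k + 3 ∣ k * (k + 2) := fun h => by
    have := Nat.le_of_dvd (by positivity) h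
    nlinarith
  have DE : ¬ k * k + 3 * k + 3 ∣ k * k + k + 1 := fun h => by
    have := Nat.le_of_dvd (by omega) h
    omega
  have EA : ¬ k * k + k + 1 ∣ p * (k + 2) := fun h => by
    have h1 := cE.dvd_of_dvd_mul_left h
    have := Nat.le_of_dvd (by omega) h1
    nlinarith
  have EB : ¬ k * k + k + 1 ∣ p * k := fun h => by
    have h1 := cE.dvd_of_dvd_mul_left h
    have := Nat.le_of_dvd (by omega) h1
    nlinarith
  have EC : ¬ k * k + k + 1 ∣ k * (k + 2) := fun h => by
    have e : k * (k + 2) = (k * k + k + 1) + (k - 1) := by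
      have : k * (k + 2) = k * k + 2 * k := by ring
      omega
    rw [e] at h
    have h1 := (Nat.dvd_add_right (dvd_refl _)).1 h
    have := Nat.le_of_dvd (by omega) h1
    nlinarith
  have ED : ¬ k * k + k + 1 ∣ k * k + 3 * k + 3 := fun h => by
    have e : k * k + 3 * k + 3 = (k * k + k + 1) + (2 * k + 2) := by ring
    rw [e] at h
    have h1 := (Nat.dvd_add_right (dvd_refl _)).1 h
    have := Nat.le_of_dvd (by omega) h1
    nlinarith
  have AG : ¬ p * (k + 2) ∣ p ^ 2 := fun h => by
    rw [sq] at h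
    exact k2p (Nat.dvd_of_mul_dvd_mul_left hp.pos h)
  have BG : ¬ p * k ∣ p ^ 2 := fun h => by
    rw [sq] at h
    exact kp (Nat.dvd_of_mul_dvd_mul_left hp.pos h)
  have copG : ∀ m, m.Coprime p → 2 ≤ m → ¬ m ∣ p ^ 2 := fun m hm h2 h => by
    have h3 : m.Coprime (p ^ 2) := hm.pow_right 2
    have h4 : m ∣ 1 := by
      have := Nat.dvd_gcd (dvd_refl m) h
      rwa [h3] at this
    have := Nat.le_of_dvd one_pos h4
    omega
  have CG := copG _ cC (by nlinarith)
  have DG := copG _ cD (by nlinarith)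
  have EG := copG _ cE (by nlinarith)
  have GA : ¬ p ^ 2 ∣ p * (k + 2) := fun h => by
    rw [sq] at h
    exact nA (Nat.dvd_of_mul_dvd_mul_left hp.pos h)
  have GB : ¬ p ^ 2 ∣ p * k := fun h => by
    rw [sq] at h
    exact nB (Nat.dvd_of_mul_dvd_mul_left hp.pos h)
  have pdv : p ∣ p ^ 2 := dvd_pow_self p two_ne_zero
  have hL : ∀ x ∈ L p (k + 1), x = p * (k + 2) ∨ x = p * k ∨ x = k * (k + 2) ∨
      x = k * k + 3 * k + 3 ∨ x = k * k + k + 1 ∨ x = p ^ 2 := by
    intro x hx
    unfold L at hx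
    rw [eC, eD, eE, Nat.add_sub_cancel] at hx
    rcases hx with hx | hx
    · simp only [Set.mem_insert_iff, Set.mem_singleton_iff] at hx
      rcases hx with h | h | h | h | h
      · exact Or.inl h
      · exact Or.inr (Or.inl h)
      · exact Or.inr (Or.inr (Or.inl h))
      · exact Or.inr (Or.inr (Or.inr (Or.inl h)))
      · exact Or.inr (Or.inr (Or.inr (Or.inr (Or.inl h))))
    · split_ifs at hx
      · exact Or.inr (Or.inr (Or.inr (Or.inr (Or.inr hx))))
      · exact absurd hx (Set.notMem_empty _)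
  intro x hx y hy h
  rcases hL x hx with rfl | rfl | rfl | rfl | rfl | rfl <;>
    rcases hL y hy with rfl | rfl | rfl | rfl | rfl | rfl
  · rfl
  · exact absurd h AB
  · exact absurd ((dvd_mul_right p _).trans h) nC
  · exact absurd ((dvd_mul_right p _).trans h) nD
  · exact absurd ((dvd_mul_right p _).trans h) nE
  · exact absurd h AG
  · exact absurd h BA
  · rfl
  · exact absurd ((dvd_mul_right p _).trans h) nC
  · exact absurd ((dvd_mul_right p _).trans h) nD
  · exact absurd ((dvd_mul_right p _).trans h) nE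
  · exact absurd h BG
  · exact absurd h CA
  · exact absurd h CB
  · rfl
  · exact absurd h CD
  · exact absurd h CE
  · exact absurd h CG
  · exact absurd h DA
  · exact absurd h DB
  · exact absurd h DC
  · rfl
  · exact absurd h DE
  · exact absurd h DG
  · exact absurd h EA
  · exact absurd h EB
  · exact absurd h EC
  · exact absurd h ED
  · rfl
  · exact absurd h EG
  · exact absurd h GA
  · exact absurd h GB
  · exact absurd (pdv.trans h) nC
  · exact absurd (pdv.trans h) nD
  · exact absurd (pdv.trans h) nE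
  · rfl

end Cfsg.Agent.H161.G2Anti
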