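import Cfsg.Agent.H161.G2Unip

/-!
# An element of order 12 of the octonion automorphism group in characteristic two (helper161)
-/

set_option autoImplicit false
set_option linter.unusedSimpArgs false

namespace Cfsg.Agent.H161.Oct

open Cfsg.Lie Module
open scoped Matrix

variable {F : Type*} [Field F]

/-- the cyclic permutation -/
def cyc (F : Type*) [Field F] : Matrix (Fin 3) (Fin 3) F := !![0, 0, 1; 1, 0, 0; 0, 1, 0]

theorem cyc_det : (cyc F).det = 1 := by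
  rw [cyc, Matrix.det_fin_three]; simp

/-- the element -/
noncomputable def tw (F : Type*) [Field F] : V F ≃ₗ[F] V F :=
  tau ![1, 0, 0] * swp F * sl (cyc F) cyc_det

theorem tw_mem : tw F ∈ AutO F :=
  (AutO F).mul_mem ((AutO F).mul_mem (tau_mem _) swp_mem) (sl_mem _ _)

def Y1 : Matrix (Fin 8) (Fin 8) ℤ := !![0, 0, 0, -1, 0, 0, 0, 1;
  1, 0, 0, 1, 0, 0, -1, -1;
  0, 0, 0, 0, -1, 0, 0, 0;
  0, 0, 0, 0, 0, -1, 0, 0;
  0, 0, 0, -1, 0, 0, 0, 0;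
  0, -1, 0, 0, 0, -1, 0, 0;
  0, 0, -1, 0, 1, 0, 0, 0;
  1, 0, 0, 1, 0, 0, 0, 0]
def A1 : Matrix (Fin 8) (Fin 8) (ZMod 2) := !![0, 0, 0, 1, 0, 0, 0, 1;
  1, 0, 0, 1, 0, 0, 1, 1;
  0, 0, 0, 0, 1, 0, 0, 0;
  0, 0, 0, 0, 0, 1, 0, 0;
  0, 0, 0, 1, 0, 0, 0, 0;
  0, 1, 0, 0, 0, 1, 0, 0;
  0, 0, 1, 0, 1, 0, 0, 0;
  1, 0, 0, 1, 0, 0, 0, 0]
def A2 : Matrix (Fin 8) (Fin 8) (ZMod 2) := !![1, 0, 0, 1, 0, 1, 0, 0;
  1, 0, 1, 0, 1, 1, 0, 1;
  0, 0, 0, 1, 0, 0, 0, 0;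
  0, 1, 0, 0, 0, 1, 0, 0;
  0, 0, 0, 0, 0, 1, 0, 0;
  1, 1, 0, 1, 0, 1, 1, 1;
  0, 0, 0, 1, 1, 0, 0, 0;
  0, 0, 0, 1, 0, 1, 0, 1]
def A4 : Matrix (Fin 8) (Fin 8) (ZMod 2) := !![0, 0, 0, 0, 0, 1, 1, 1;
  0, 1, 0, 0, 0, 0, 1, 0;
  0, 1, 0, 0, 0, 1, 0, 0;
  0, 1, 1, 1, 1, 0, 1, 0;
  1, 1, 0, 1, 0, 1, 1, 1;
  1, 0, 1, 0, 0, 1, 1, 1;
  0, 1, 0, 0, 0, 0, 0, 0;
  1, 0, 0, 0, 0, 1, 1, 0]
def A6 : Matrix (Fin 8) (Fin 8) (ZMod 2) := !![1, 1, 0, 1, 1, 0, 1, 0;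
  1, 0, 1, 1, 0, 1, 0, 1;
  0, 1, 1, 1, 1, 0, 1, 0;
  1, 1, 1, 0, 0, 1, 0, 1;
  1, 0, 1, 0, 0, 1, 1, 1;
  0, 1, 0, 1, 1, 1, 1, 0;
  1, 0, 1, 0, 1, 1, 0, 1;
  0, 1, 0, 1, 1, 0, 1, 1]

theorem y1 : Y1.map (Int.castRingHom (ZMod 2)) = A1 := by decide +kernel
theorem a2 : A1 * A1 = A2 := by decide +kernel
theorem a4 : A2 * A2 = A4 := by decide +kernel
theorem a6 : A4 * A2 = A6 := by decide +kernel
theorem a12 : A6 * A6 = 1 := by decide +kernel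

theorem coe_tw : (tw F : V F →ₗ[F] V F) = Matrix.toLin' (Y1.map (Int.castRingHom F)) := by
  apply (Pi.basisFun F (Fin 8)).ext
  intro j
  rw [Pi.basisFun_apply, Matrix.toLin'_apply, Matrix.mulVec_single_one]
  show tauF ![1, 0, 0] (swpF (slF (cyc F) (Pi.single j 1))) = _
  fin_cases j <;>
  · apply ext8 <;>
    simp [Y1, slF0, slF1, slF2, slF3, slF4, slF5, slF6, slF7, tau0, tau1, tau2, tau3, tau4, tau5,
      tau6, tau7, swpF0, swpF1, swpF2, swpF3, swpF4, swpF5, swpF6, swpF7, cyc, Matrix.col]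

theorem coe_tw_pow [CharP F 2] (k : ℕ) :
    ((tw F ^ k : V F ≃ₗ[F] V F) : V F →ₗ[F] V F) =
      Matrix.toLin' ((A1 ^ k).map (ZMod.castHom (dvd_refl 2) F)) := by
  have h1 : Y1.map (Int.castRingHom F) = A1.map (ZMod.castHom (dvd_refl 2) F) := by
    rw [← y1, Matrix.map_map]
    congr 1
    funext z
    simp
  have h2 : ((tw F ^ k : V F ≃ₗ[F] V F) : V F →ₗ[F] V F) = (tw F : V F →ₗ[F] V F) ^ k :=
    coe_pow_end _ _
  rw [h2, coe_tw, h1, ← Matrix.toLin'_pow]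
  congr 1
  exact (map_pow (ZMod.castHom (dvd_refl 2) F).mapMatrix A1 k).symm

theorem orderOf_tw [CharP F 2] : orderOf (tw F) = 12 := by
  have e4 : A1 ^ 4 = A4 := by rw [show (4 : ℕ) = 2 + 2 from rfl, pow_add, pow_two, a2, a4]
  have e6 : A1 ^ 6 = A6 := by rw [show (6 : ℕ) = 4 + 2 from rfl, pow_add, e4, pow_two, a2, a6]
  have e12 : A1 ^ 12 = 1 := by rw [show (12 : ℕ) = 6 + 6 from rfl, pow_add, e6, a12]
  have hne : ∀ k : ℕ, A1 ^ k ≠ 1 → tw F ^ k ≠ 1 := by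
    intro k hk h
    apply hk
    have h1 := coe_tw_pow (F := F) k
    rw [h] at h1
    have h2 : Matrix.toLin' ((A1 ^ k).map (ZMod.castHom (dvd_refl 2) F)) =
        Matrix.toLin' (1 : Matrix (Fin 8) (Fin 8) F) := by
      rw [← h1, Matrix.toLin'_one]; rfl
    have h3 := Matrix.toLin'.injective h2
    ext i j
    apply (ZMod.castHom (dvd_refl 2) F).injective
    have h4 := congrFun (congrFun h3 i) j
    rw [Matrix.map_apply] at h4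
    rw [h4, Matrix.one_apply, Matrix.one_apply]
    split_ifs <;> simp
  have h12 : tw F ^ 12 = 1 := by
    apply LinearEquiv.toLinearMap_injective
    rw [coe_tw_pow, e12]
    have : (1 : Matrix (Fin 8) (Fin 8) (ZMod 2)).map (ZMod.castHom (dvd_refl 2) F) = 1 := by
      ext i j
      rw [Matrix.map_apply, Matrix.one_apply, Matrix.one_apply]
      split_ifs <;> simp
    rw [this, Matrix.toLin'_one]; rfl
  apply (Nat.dvd_antisymm (orderOf_dvd_of_pow_eq_one h12) _)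
  have hd := orderOf_dvd_of_pow_eq_one h12
  have n4 : ¬ orderOf (tw F) ∣ 4 := fun h => hne 4 (by rw [e4]; decide +kernel)
    (orderOf_dvd_iff_pow_eq_one.1 h)
  have n6 : ¬ orderOf (tw F) ∣ 6 := fun h => hne 6 (by rw [e6]; decide +kernel)
    (orderOf_dvd_iff_pow_eq_one.1 h)
  have hle : orderOf (tw F) ≤ 12 := Nat.le_of_dvd (by norm_num) hd
  generalize orderOf (tw F) = m at hd n4 n6 hle
  interval_cases m <;> revert hd n4 n6 <;> decide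

end Cfsg.Agent.H161.Oct
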