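import Cfsg.Agent.H161.G2Emb
import Cfsg.Agent.H161.OctMixed2

/-!
# Regular unipotent elements of the octonion automorphism group, and an element of order 12
(helper161)
-/

set_option autoImplicit false
set_option linter.unusedSimpArgs false

namespace Cfsg.Agent.H161.Oct

open Cfsg.Lie Module
open scoped Matrix

variable {F : Type*} [Field F]

/-- the transvection -/
def tr01 (F : Type*) [Field F] : Matrix (Fin 3) (Fin 3) F := !![1, 1, 0; 0, 1, 0; 0, 0, 1]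

theorem tr01_det : (tr01 F).det = 1 := by
  rw [tr01, Matrix.det_fin_three]; simp

/-- the regular unipotent element -/
noncomputable def ru (F : Type*) [Field F] : V F ≃ₗ[F] V F := tau ![0, 1, 0] * sl (tr01 F) tr01_det

theorem ru_mem : ru F ∈ AutO F := (AutO F).mul_mem (tau_mem _) (sl_mem _ _)

def Z1 : Matrix (Fin 8) (Fin 8) ℤ := !![0, 0, 0, 0, -1, 1, 0, 0;
  0, 0, 1, 0, 0, 0, 0, 0;
  -1, 0, 0, 0, 1, -1, 0, 1;
  0, 0, 0, 0, 0, 0, 0, 0;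
  0, 0, 0, -1, 0, 0, 0, 0;
  0, 0, 0, 0, -1, 0, 0, 0;
  0, 1, 1, 0, 0, 0, 0, 0;
  0, 0, 0, 0, 1, -1, 0, 0]
def Z2 : Matrix (Fin 8) (Fin 8) ℤ := !![0, 0, 0, 1, -1, 0, 0, 0;
  -1, 0, 0, 0, 1, -1, 0, 1;
  0, 0, 0, -1, 3, -2, 0, 0;
  0, 0, 0, 0, 0, 0, 0, 0;
  0, 0, 0, 0, 0, 0, 0, 0;
  0, 0, 0, 1, 0, 0, 0, 0;
  -1, 0, 1, 0, 1, -1, 0, 1;
  0, 0, 0, -1, 1, 0, 0, 0]
def Z3 : Matrix (Fin 8) (Fin 8) ℤ := !![0, 0, 0, 1, 0, 0, 0, 0;
  0, 0, 0, -1, 3, -2, 0, 0;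
  0, 0, 0, -3, 2, 0, 0, 0;
  0, 0, 0, 0, 0, 0, 0, 0;
  0, 0, 0, 0, 0, 0, 0, 0;
  0, 0, 0, 0, 0, 0, 0, 0;
  -1, 0, 0, -1, 4, -3, 0, 1;
  0, 0, 0, -1, 0, 0, 0, 0]
def Z4 : Matrix (Fin 8) (Fin 8) ℤ := !![0, 0, 0, 0, 0, 0, 0, 0;
  0, 0, 0, -3, 2, 0, 0, 0;
  0, 0, 0, -2, 0, 0, 0, 0;
  0, 0, 0, 0, 0, 0, 0, 0;
  0, 0, 0, 0, 0, 0, 0, 0;
  0, 0, 0, 0, 0, 0, 0, 0;
  0, 0, 0, -4, 5, -2, 0, 0;
  0, 0, 0, 0, 0, 0, 0, 0]
def Z5 : Matrix (Fin 8) (Fin 8) ℤ := !![0, 0, 0, 0, 0, 0, 0, 0;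
  0, 0, 0, -2, 0, 0, 0, 0;
  0, 0, 0, 0, 0, 0, 0, 0;
  0, 0, 0, 0, 0, 0, 0, 0;
  0, 0, 0, 0, 0, 0, 0, 0;
  0, 0, 0, 0, 0, 0, 0, 0;
  0, 0, 0, -5, 2, 0, 0, 0;
  0, 0, 0, 0, 0, 0, 0, 0]

theorem z2 : Z1 * Z1 = Z2 := by decide +kernel
theorem z3 : Z2 * Z1 = Z3 := by decide +kernel
theorem z4 : Z2 * Z2 = Z4 := by decide +kernel
theorem z5 : Z4 * Z1 = Z5 := by decide +kernel
theorem z7 : Z4 * Z3 = 0 := by decide +kernel

/-- the nilpotent part is given by the integral matrix -/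
theorem nil_ru : nil (ru F) = Matrix.toLin' (Z1.map (Int.castRingHom F)) := by
  apply (Pi.basisFun F (Fin 8)).ext
  intro j
  rw [Pi.basisFun_apply, nil_apply, Matrix.toLin'_apply, Matrix.mulVec_single_one]
  show tauF ![0, 1, 0] (slF (tr01 F) (Pi.single j 1)) - Pi.single j 1 = _
  fin_cases j <;>
  · apply ext8 <;>
    simp [Z1, slF0, slF1, slF2, slF3, slF4, slF5, slF6, slF7, tau0, tau1, tau2, tau3, tau4, tau5,
      tau6, tau7, tr01, Matrix.col]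

theorem nil_ru_pow (k : ℕ) :
    nil (ru F) ^ k = Matrix.toLin' ((Z1 ^ k).map (Int.castRingHom F)) := by
  rw [nil_ru, ← Matrix.toLin'_pow]
  congr 1
  exact (map_pow (Int.castRingHom F).mapMatrix Z1 k).symm

theorem Z1_3 : Z1 ^ 3 = Z3 := by rw [pow_succ, pow_two, z2, z3]
theorem Z1_4 : Z1 ^ 4 = Z4 := by rw [show (4 : ℕ) = 2 + 2 from rfl, pow_add, pow_two, z2, z4]
theorem Z1_5 : Z1 ^ 5 = Z5 := by rw [pow_succ, Z1_4, z5]
theorem Z1_7 : Z1 ^ 7 = 0 := by rw [show (7 : ℕ) = 4 + 3 from rfl, pow_add, Z1_4, Z1_3, z7]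

theorem nil_ru_seven : nil (ru F) ^ 7 = 0 := by
  rw [nil_ru_pow, Z1_7]
  apply LinearMap.ext
  intro x
  rw [Matrix.toLin'_apply]
  have : (0 : Matrix (Fin 8) (Fin 8) ℤ).map (Int.castRingHom F) = 0 := by
    ext i j; simp
  rw [this]; simp

theorem nil_ru_ne {k : ℕ} {i j : Fin 8} (h : ((Z1 ^ k) i j : F) ≠ 0) : nil (ru F) ^ k ≠ 0 := by
  intro h0
  apply h
  have h1 := congrArg (fun T : Module.End F (V F) => T (Pi.single j 1) i) h0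
  rw [nil_ru_pow] at h1
  simpa [Matrix.mulVec_single_one, Matrix.col] using h1

/-- in characteristic `p` the order is the smallest power of `p` which is at least the size of the block -/
theorem orderOf_ru {p : ℕ} [Fact p.Prime] [CharP F p] {n : ℕ} (h7 : 7 ≤ p ^ (n + 1))
    (h : nil (ru F) ^ p ^ n ≠ 0) : orderOf (ru F) = p ^ (n + 1) := by
  apply orderOf_eq_prime_pow
  · intro h1
    apply h
    exact nil_nilpotent h1
  · exact pow_eq_one h7 nil_ru_seven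

theorem orderOf_ru_two [CharP F 2] : orderOf (ru F) = 8 := by
  have : Fact (Nat.Prime 2) := ⟨Nat.prime_two⟩
  apply orderOf_ru (p := 2) (n := 2) (by norm_num)
  apply nil_ru_ne (i := 1) (j := 3)
  have h2 : (2 : F) = 0 := by exact_mod_cast CharP.cast_eq_zero F 2
  rw [show (2 : ℕ) ^ 2 = 4 from rfl, Z1_4]
  have : ((Z4 1 3 : ℤ) : F) = 1 := by
    have e : Z4 1 3 = -3 := by decide +kernel
    rw [e]; push_cast
    linear_combination (-2) * h2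
  rw [this]
  exact one_ne_zero

theorem orderOf_ru_three [CharP F 3] : orderOf (ru F) = 3 ^ 2 := by
  have : Fact (Nat.Prime 3) := ⟨Nat.prime_three⟩
  apply orderOf_ru (p := 3) (n := 1) (by norm_num)
  apply nil_ru_ne (i := 0) (j := 3)
  rw [show (3 : ℕ) ^ 1 = 3 from rfl, Z1_3]
  have : ((Z3 0 3 : ℤ) : F) = 1 := by
    have e : Z3 0 3 = 1 := by decide +kernel
    rw [e]; push_cast
    rfl
  rw [this]
  exact one_ne_zero

theorem orderOf_ru_five [CharP F 5] : orderOf (ru F) = 5 ^ 2 := by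
  have : Fact (Nat.Prime 5) := ⟨Nat.prime_five⟩
  apply orderOf_ru (p := 5) (n := 1) (by norm_num)
  apply nil_ru_ne (i := 1) (j := 3)
  rw [show (5 : ℕ) ^ 1 = 5 from rfl, Z1_5]
  have e : Z5 1 3 = -2 := by decide +kernel
  rw [e]
  intro h
  have h5 : (5 : F) = 0 := by exact_mod_cast CharP.cast_eq_zero F 5
  have h1 : (1 : F) = 0 := by
    push_cast at h
    linear_combination h5 + 2 * h
  exact one_ne_zero h1

end Cfsg.Agent.H161.Oct
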