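import Mathlib

/-!
# Regular unipotent matrices are conjugate to the Jordan block
-/

set_option autoImplicit false

namespace Cfsg.Agent.H161.Jordan

open Module

variable {K : Type*} [Field K]

theorem linInd_pow {V : Type*} [AddCommGroup V] [Module K V] (N : V →ₗ[K] V) (n : ℕ)
    (hN : N ^ n = 0) (w : V) (hw : (N ^ (n - 1)) w ≠ 0) :
    LinearIndependent K (fun i : Fin n => (N ^ (n - 1 - (i : ℕ))) w) := by
  classical
  rw [Fintype.linearIndependent_iff]
  intro g hg
  by_contra hcon
  push Not at hcon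
  -- maximal index
  obtain ⟨i₀, hi₀⟩ := hcon
  let s : Finset (Fin n) := Finset.univ.filter (fun i => g i ≠ 0)
  have hs : s.Nonempty := ⟨i₀, by simp [s, hi₀]⟩
  let j := s.max' hs
  have hj : g j ≠ 0 := by
    have := s.max'_mem hs
    simpa [s] using this
  have hmax : ∀ i, j < i → g i = 0 := by
    intro i hi
    by_contra h
    have : i ≤ j := s.le_max' i (by simp [s, h])
    exact absurd hi (not_lt.2 this)
  have h1 := congrArg (N ^ (j : ℕ)) hg
  rw [map_sum, map_zero, Finset.sum_eq_single j] at h1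
  · rw [map_smul, ← Module.End.mul_apply, ← pow_add,
      show (j : ℕ) + (n - 1 - (j : ℕ)) = n - 1 by omega] at h1
    rcases smul_eq_zero.1 h1 with h | h
    · exact hj h
    · exact hw h
  · intro i _ hij
    rcases lt_or_gt_of_ne hij with h | h
    · rw [map_smul, ← Module.End.mul_apply, ← pow_add]
      have : (j : ℕ) + (n - 1 - (i : ℕ)) = n + ((j : ℕ) - i - 1) := by
        have := j.2
        have := i.2
        have : (i : ℕ) < j := h
        omega
      rw [this, pow_add, hN, zero_mul, LinearMap.zero_apply, smul_zero]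
    · rw [hmax i h, zero_smul, map_zero]
  · intro h; exact absurd (Finset.mem_univ _) h

theorem exists_conj {n : ℕ} (J : GL (Fin n) K)
    (hJ : ∀ i j : Fin n, (J : Matrix (Fin n) (Fin n) K) i j =
      if i = j then 1 else if j.val = i.val + 1 then 1 else 0)
    (N : (Fin n → K) →ₗ[K] (Fin n → K)) (hN : N ^ n = 0) (w : Fin n → K)
    (hw : (N ^ (n - 1)) w ≠ 0) (M : GL (Fin n) K)
    (hM : ∀ v, (M : Matrix (Fin n) (Fin n) K).mulVec v = v + N v) :
    ∃ P : GL (Fin n) K, M = P * J * P⁻¹ := by
  classical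
  have hli := linInd_pow N n hN w hw
  let b : Basis (Fin n) K (Fin n → K) := basisOfLinearIndependentOfCardEqFinrank' _ hli (by simp)
  have hb : ∀ i, b i = (N ^ (n - 1 - (i : ℕ))) w := fun i => by simp [b]
  let E : (Fin n → K) ≃ₗ[K] (Fin n → K) := (Pi.basisFun K (Fin n)).equiv b (Equiv.refl _)
  have hE : ∀ v : Fin n → K, E v = ∑ i, v i • b i := by
    intro v
    conv_lhs => rw [← (Pi.basisFun K (Fin n)).sum_repr v]
    rw [map_sum]
    refine Finset.sum_congr rfl fun i _ => ?_
    have h1 : E ((Pi.basisFun K (Fin n)) i) = b i := by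
      have := (Pi.basisFun K (Fin n)).equiv_apply i b (Equiv.refl _)
      rwa [Equiv.refl_apply] at this
    rw [map_smul, h1, Pi.basisFun_repr]
  let P : GL (Fin n) K := ⟨LinearMap.toMatrix' (E : (Fin n → K) →ₗ[K] (Fin n → K)),
    LinearMap.toMatrix' (E.symm : (Fin n → K) →ₗ[K] (Fin n → K)), by
      rw [← LinearMap.toMatrix'_comp]; simp, by
      rw [← LinearMap.toMatrix'_comp]; simp⟩
  refine ⟨P, ?_⟩
  rw [eq_mul_inv_iff_mul_eq]
  apply Units.ext
  rw [Units.val_mul, Units.val_mul]
  apply Matrix.toLin'.injective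
  rw [Matrix.toLin'_mul, Matrix.toLin'_mul]
  have hP : Matrix.toLin' (P : Matrix (Fin n) (Fin n) K) = (E : (Fin n → K) →ₗ[K] (Fin n → K)) := by
    show Matrix.toLin' (LinearMap.toMatrix' _) = _
    rw [Matrix.toLin'_toMatrix']
  rw [hP]
  apply (Pi.basisFun K (Fin n)).ext
  intro j
  have e1 : Matrix.toLin' (J : Matrix (Fin n) (Fin n) K) (Pi.single j 1) = fun i =>
      (J : Matrix (Fin n) (Fin n) K) i j := by
    ext i; simp
  rw [Pi.basisFun_apply, LinearMap.comp_apply, LinearMap.comp_apply, e1]
  rw [LinearEquiv.coe_coe, hE, hE]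
  have e2 : ∑ i, (Pi.single j 1 : Fin n → K) i • b i = b j := by
    simp [Pi.single_apply]
  rw [e2, Matrix.toLin'_apply, hM]
  have e3 : ∀ i : Fin n, (J : Matrix (Fin n) (Fin n) K) i j • b i =
      (if i = j then b i else 0) + (if j.val = i.val + 1 then b i else 0) := by
    intro i
    rw [hJ]
    by_cases h1 : i = j
    · subst h1
      simp
    · by_cases h2 : j.val = i.val + 1
      · simp [h1, h2]
      · simp [h1, h2]
  simp only [e3, Finset.sum_add_distrib]
  simp only [Finset.sum_ite_eq', Finset.mem_univ, if_true]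
  congr 1
  rcases Nat.eq_zero_or_pos j.val with h0 | h0
  · rw [Finset.sum_eq_zero]
    · rw [hb, h0, ← Module.End.mul_apply, ← pow_succ']
      have := j.2
      rw [show n - 1 - 0 + 1 = n by omega, hN]; simp
    · intro i _
      rw [if_neg (by omega)]
  · rw [Finset.sum_eq_single (⟨j.val - 1, by omega⟩ : Fin n)]
    · rw [if_pos (by simp; omega), hb, hb, ← Module.End.mul_apply, ← pow_succ']
      have := j.2
      rw [show n - 1 - j.val + 1 = n - 1 - (j.val - 1) by omega]
    · intro i _ hi
      rw [if_neg]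
      intro h
      apply hi
      ext
      simp; omega
    · intro h; exact absurd (Finset.mem_univ _) h

end Cfsg.Agent.H161.Jordan
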