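import Mathlib
import Cfsg.Agent.H584.NC.Basic
import Cfsg.Agent.H688.TransAut

/-!
# A simple group `S ≅ PSL(2, q)`, `q` odd, with `Loc S` is in `IsL2` (S4386)
-/

set_option autoImplicit false
set_option linter.unusedSectionVars false

namespace Cfsg.Agent.H161.L2Sub

open Matrix Subgroup Polynomial
open Cfsg.Agent.H584.NC Cfsg.Agent.H688.TransAut
open Cfsg.Agent.ClassicalGeometry Cfsg.Agent.ClassicalGeometry.PSL2Basic
open Cfsg.Agent.ClassicalGeometry.AutPSL.Root Cfsg.Agent.ClassicalGeometry.AutPSL.Auto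
  Cfsg.Agent.ClassicalGeometry.AutPSL.Main

universe u

/-! ### Abelian Sylow 2-subgroups -/

/-- Burnside: a group with an abelian Sylow 2-subgroup whose normalizer is 2-nilpotent is 2-nilpotent. -/
theorem nc_of_abelian {G : Type u} [Group G] [Finite G] (Q : Sylow 2 G)
    (hab : ∀ x ∈ Q, ∀ y ∈ Q, x * y = y * x) (hN : NC (normalizer (Q : Set G))) : NC G := by
  have hle : normalizer ((Q : Subgroup G) : Set G) ≤ centralizer ((Q : Subgroup G) : Set G) := by
    intro g hg
    -- the 2-part and the odd part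
    obtain ⟨k, m, hm, hk⟩ := Nat.exists_eq_two_pow_mul_odd (orderOf_pos g).ne'
    have h1 : g ^ (2 ^ k) ∈ centralizer ((Q : Subgroup G) : Set G) := by
      rw [mem_centralizer_iff]
      intro y hy
      symm
      refine hN.comm' (Y := (Q : Subgroup G)) le_normalizer Q.isPGroup'
        (pow_mem hg _) ?_ ?_ hy
      · rw [orderOf_pow' g (by positivity), hk, Nat.gcd_mul_right_left,
          Nat.mul_div_cancel_left _ (by positivity)]
        exact fun h => (Nat.not_even_iff_odd.2 hm) (even_iff_two_dvd.2 h)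
      · intro y hy
        exact (mem_normalizer_iff.1 (pow_mem hg (2 ^ k)) y).1 hy
    have h2 : g ^ m ∈ (Q : Subgroup G) := by
      have h3 : IsPGroup 2 (zpowers (g ^ m)) := by
        refine IsPGroup.of_card (n := k) ?_
        rw [Nat.card_zpowers, orderOf_pow' g hm.pos.ne', hk, Nat.gcd_mul_left_left,
          Nat.mul_div_cancel _ hm.pos]
      have h4 : IsPGroup 2 ((Q : Subgroup G) ⊔ zpowers (g ^ m) : Subgroup G) := by
        refine IsPGroup.to_sup_of_normal_left' Q.isPGroup' h3 ?_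
        rw [zpowers_le]
        exact pow_mem hg m
      have h5 := Q.is_maximal' h4 le_sup_left
      have h6 : zpowers (g ^ m) ≤ (Q : Subgroup G) ⊔ zpowers (g ^ m) := le_sup_right
      rw [h5] at h6
      exact h6 (mem_zpowers _)
    have h3 : g ^ m ∈ centralizer ((Q : Subgroup G) : Set G) := by
      rw [mem_centralizer_iff]
      intro y hy
      exact hab y hy _ h2
    have hcop : Nat.Coprime (2 ^ k) m := Nat.Coprime.pow_left _ (Nat.coprime_two_left.2 hm)
    have h4 : g = (g ^ (2 ^ k)) ^ (Nat.gcdA (2 ^ k) m) * (g ^ m) ^ (Nat.gcdB (2 ^ k) m) := by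
      have h5 := Nat.gcd_eq_gcd_ab (2 ^ k) m
      rw [hcop.gcd_eq_one] at h5
      rw [← zpow_natCast g (2 ^ k), ← zpow_natCast g m, ← _root_.zpow_mul, ← _root_.zpow_mul, ← _root_.zpow_add, ← h5]
      simp
    rw [h4]
    exact mul_mem (zpow_mem h1 _) (zpow_mem h3 _)
  refine ⟨Q, (MonoidHom.transferSylow Q hle).ker, inferInstance, ?_⟩
  exact MonoidHom.ker_transferSylow_isComplement' Q hle

/-- groups of order `4 mod 8` -/
theorem nc_of_card_four {G : Type u} [Group G] [Finite G] (h4 : Nat.card G % 8 = 4)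
    (hN : ∀ Q : Sylow 2 G, NC (normalizer (Q : Set G))) : NC G := by
  obtain ⟨Q⟩ : Nonempty (Sylow 2 G) := inferInstance
  refine nc_of_abelian Q ?_ (hN Q)
  have h1 : Nat.card Q = 2 ^ (Nat.card G).factorization 2 := Q.card_eq_multiplicity
  have h2 : (Nat.card G).factorization 2 = 2 := by
    have hpos : Nat.card G ≠ 0 := Nat.card_pos.ne'
    apply le_antisymm
    · by_contra hcon
      have h3 : 2 ^ 3 ∣ Nat.card G := (Nat.prime_two.pow_dvd_iff_le_factorization hpos).2 (by omega)
      omega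
    · exact (Nat.prime_two.pow_dvd_iff_le_factorization hpos).1 (by omega)
  rw [h2] at h1
  have h3 : IsMulCommutative Q := IsPGroup.isMulCommutative_of_card_eq_prime_sq h1
  intro x hx y hy
  exact congrArg Subtype.val (h3.1.1 ⟨x, hx⟩ ⟨y, hy⟩)

/-! ### `PSL(2, K)` is not 2-nilpotent -/

theorem transvection_pow {K : Type*} [Field K] {i j : Fin 2} (hij : i ≠ j) (t : K) (n : ℕ) :
    (Matrix.SpecialLinearGroup.transvection hij t) ^ n =
      Matrix.SpecialLinearGroup.transvection hij ((n : K) * t) := by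
  induction n with
  | zero => rw [pow_zero, Nat.cast_zero, zero_mul, Matrix.SpecialLinearGroup.transvection_coeff_zero]
  | succ n ih =>
    rw [pow_succ, ih, ← Matrix.SpecialLinearGroup.transvection_add]
    congr 1
    push_cast
    ring

theorem not_nc_psl {K : Type u} [Field K] [Finite K] (h2 : (2 : K) ≠ 0) :
    ¬ NC (ProjectiveSpecialLinearGroup (Fin 2) K) := by
  intro h
  obtain ⟨p, hp⟩ := CharP.exists K
  have hpf : Fact p.Prime := ⟨CharP.char_is_prime K p⟩
  have hp2 : p ≠ 2 := by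
    rintro rfl
    exact h2 (by exact_mod_cast CharP.cast_eq_zero K 2)
  have hodd : ¬ 2 ∣ p := fun h => hp2 ((Nat.prime_dvd_prime_iff_eq Nat.prime_two hpf.out).1 h).symm
  have key : ∀ (i j : Fin 2) (hij : i ≠ j) (t : K),
      ¬ 2 ∣ orderOf (pr (Matrix.SpecialLinearGroup.transvection hij t)) := by
    intro i j hij t hd
    have h1 : (pr (Matrix.SpecialLinearGroup.transvection hij t)) ^ p = 1 := by
      rw [← map_pow, transvection_pow, CharP.cast_eq_zero, zero_mul,
        Matrix.SpecialLinearGroup.transvection_coeff_zero, map_one]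
    exact hodd (hd.trans (orderOf_dvd_of_pow_eq_one h1))
  have h01 : (0 : Fin 2) ≠ 1 := by decide
  refine h.closed (key 0 1 h01 1) (key 1 0 h01.symm (-2)) ?_
  obtain ⟨A, hA⟩ : ∃ A : Matrix.SpecialLinearGroup (Fin 2) K,
      A = Matrix.SpecialLinearGroup.transvection h01 1 *
        Matrix.SpecialLinearGroup.transvection h01.symm (-2) := ⟨_, rfl⟩
  rw [← map_mul, ← hA]
  have htr : (A : Matrix (Fin 2) (Fin 2) K).trace = 0 := by
    rw [hA, Matrix.SpecialLinearGroup.coe_mul, Matrix.SpecialLinearGroup.transvection_coe,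
      Matrix.SpecialLinearGroup.transvection_coe, trace_fin_two]
    simp [Matrix.mul_apply, Fin.sum_univ_two, Matrix.single_apply]
    norm_num
  have hA01 : (A : Matrix (Fin 2) (Fin 2) K) 0 1 = 1 := by
    rw [hA, Matrix.SpecialLinearGroup.coe_mul, Matrix.SpecialLinearGroup.transvection_coe,
      Matrix.SpecialLinearGroup.transvection_coe]
    simp [Matrix.mul_apply, Fin.sum_univ_two, Matrix.single_apply]
  have hsq : (pr A) ^ 2 = 1 := by
    rw [← map_pow, sl2_sq_of_trace_zero htr, pr_eq_one_iff, mem_center_SL2_iff]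
    exact Or.inr rfl
  have hne : pr A ≠ 1 := by
    intro h3
    rw [pr_eq_one_iff, mem_center_SL2_iff] at h3
    rcases h3 with h3 | h3 <;> rw [h3] at hA01 <;> simp at hA01
  rw [orderOf_eq_prime hsq hne]

/-! ### Subfields -/

theorem mem_range_of_pow_card {F K : Type*} [Field F] [Fintype F] [Field K] (f : F →+* K) {x : K}
    (hx : x ^ Fintype.card F = x) : ∃ t : F, f t = x := by
  classical
  set q := Fintype.card F with hq
  have hq1 : 1 < q := Fintype.one_lt_card
  have hne : (X ^ q - X : K[X]) ≠ 0 := FiniteField.X_pow_card_sub_X_ne_zero K hq1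
  have hsub : (Finset.univ.image f : Finset K) ⊆ (X ^ q - X : K[X]).roots.toFinset := by
    intro y hy
    obtain ⟨t, -, rfl⟩ := Finset.mem_image.1 hy
    rw [Multiset.mem_toFinset, mem_roots hne]
    simp [IsRoot, ← map_pow, hq, FiniteField.pow_card]
  have hcard : (X ^ q - X : K[X]).roots.toFinset.card ≤ (Finset.univ.image f : Finset K).card := by
    rw [Finset.card_image_of_injective _ f.injective, Finset.card_univ, ← hq]
    calc _ ≤ Multiset.card (X ^ q - X : K[X]).roots := Multiset.toFinset_card_le _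
      _ ≤ (X ^ q - X : K[X]).natDegree := card_roots' _
      _ = q := FiniteField.X_pow_card_sub_X_natDegree_eq K hq1
  have heq := Finset.eq_of_subset_of_card_le hsub hcard
  have hx' : x ∈ (X ^ q - X : K[X]).roots.toFinset := by
    rw [Multiset.mem_toFinset, mem_roots hne]
    simp [IsRoot, hx]
  rw [← heq] at hx'
  obtain ⟨t, -, ht⟩ := Finset.mem_image.1 hx'
  exact ⟨t, ht⟩

section sub

variable {F0 F : Type} [Field F0] [Fintype F0] [Field F] [Fintype F] (φ : F0 →+* F)

/-- Field automorphisms preserve the subfields. -/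
theorem aut_range (σ : F ≃+* F) (x : F0) : ∃ y : F0, φ y = σ (φ x) := by
  refine mem_range_of_pow_card φ ?_
  rw [← map_pow, ← map_pow, FiniteField.pow_card]

/-- A nonsquare of `F0` remains a nonsquare in an extension of odd degree. -/
theorem nonsquare_map {m : ℕ} (hm : Odd m) (hcard : Fintype.card F0 ^ m = Fintype.card F)
    (h2 : (2 : F0) ≠ 0) {d : F0} (hd : ¬ IsSquare d) : ¬ IsSquare (φ d) := by
  rintro ⟨x, hx⟩
  have hd0 : d ≠ 0 := by
    rintro rfl
    exact hd ⟨0, by simp⟩
  have hx0 : x ≠ 0 := by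
    rintro rfl
    rw [mul_zero] at hx
    exact hd0 ((map_eq_zero φ).1 hx)
  have h2F : (2 : F) ≠ 0 := by
    intro h
    apply h2
    apply φ.injective
    rw [map_zero, map_ofNat]
    exact h
  have hodd0 : Odd (Fintype.card F0) := (two_ne_zero_iff_odd F0).1 h2
  have h1 : (x ^ Fintype.card F0) * (x ^ Fintype.card F0) = x * x := by
    rw [← mul_pow, ← hx, ← map_pow, FiniteField.pow_card]
  rcases mul_self_eq_mul_self_iff.1 h1 with h3 | h3
  · obtain ⟨t, ht⟩ := mem_range_of_pow_card φ h3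
    apply hd
    refine ⟨t, φ.injective ?_⟩
    rw [map_mul, ht, hx]
  · have key : ∀ k : ℕ, x ^ (Fintype.card F0 ^ k) = (-1) ^ k * x := by
      intro k
      induction k with
      | zero => simp
      | succ k ih =>
        rw [pow_succ, pow_mul, ih, mul_pow, h3, ← pow_mul, mul_comm k, pow_mul, hodd0.neg_one_pow,
          pow_succ]
        ring
    have h4 := key m
    rw [hcard, FiniteField.pow_card, hm.neg_one_pow] at h4
    have h5 : (2 : F) * x = 0 := by linear_combination h4
    rcases mul_eq_zero.1 h5 with h6 | h6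
    · exact h2F h6
    · exact hx0 h6

/-- The subfield subgroup `PSL(2, F0)` of `PSL(2, F)`. -/
def sub : Subgroup (ProjectiveSpecialLinearGroup (Fin 2) F) := (pslMap (n := Fin 2) φ).range

variable {φ}

theorem pr_mem_sub {X : Matrix.SpecialLinearGroup (Fin 2) F} (h : ∀ i j, ∃ t : F0, φ t = X i j) : pr X ∈ sub φ := by
  choose Y hY using h
  have hX : (X : Matrix (Fin 2) (Fin 2) F) = φ.mapMatrix (Matrix.of Y) := by
    ext i j
    rw [RingHom.mapMatrix_apply, Matrix.map_apply, Matrix.of_apply]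
    exact (hY i j).symm
  have hdet : (Matrix.of Y).det = 1 := by
    apply φ.injective
    rw [RingHom.map_det, ← hX, X.2, map_one]
  obtain ⟨B, hB⟩ : ∃ B : Matrix.SpecialLinearGroup (Fin 2) F0, (B : Matrix (Fin 2) (Fin 2) F0) = Matrix.of Y :=
    ⟨⟨Matrix.of Y, hdet⟩, rfl⟩
  refine ⟨QuotientGroup.mk B, ?_⟩
  rw [pslMap_mk]
  have h1 : Matrix.SpecialLinearGroup.map φ B = X := by
    apply Subtype.ext
    rw [Matrix.SpecialLinearGroup.map_apply_coe, hB, hX]
  rw [h1]
  rfl

theorem mem_sub {x : ProjectiveSpecialLinearGroup (Fin 2) F} (h : x ∈ sub φ) :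
    ∃ X : Matrix.SpecialLinearGroup (Fin 2) F, pr X = x ∧ ∀ i j, ∃ t : F0, φ t = X i j := by
  obtain ⟨y, rfl⟩ := h
  obtain ⟨Y, rfl⟩ := QuotientGroup.mk_surjective y
  exact ⟨Matrix.SpecialLinearGroup.map φ Y, rfl, fun i j => ⟨Y i j, rfl⟩⟩

theorem map_eq_of_le {G : Type*} [Group G] [Finite G] {H : Subgroup G} {α : MulAut G}
    (h : ∀ x ∈ H, α x ∈ H) : H.map α.toMonoidHom = H := by
  have h1 : H.map α.toMonoidHom ≤ H := by
    rintro _ ⟨x, hx, rfl⟩
    exact h x hx
  apply Subgroup.eq_of_le_of_card_ge h1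
  rw [Nat.card_congr (H.equivMapOfInjective α.toMonoidHom α.injective).toEquiv]

theorem map_mul_aut {G : Type*} [Group G] (H : Subgroup G) (α β : MulAut G) :
    H.map (α * β).toMonoidHom = (H.map β.toMonoidHom).map α.toMonoidHom := by
  rw [Subgroup.map_map]
  rfl

theorem map_fld (σ : F ≃+* F) : (sub φ).map (lift (fld σ)).toMonoidHom = sub φ := by
  apply map_eq_of_le
  intro x hx
  obtain ⟨X, rfl, hX⟩ := mem_sub hx
  rw [lift_pr]
  apply pr_mem_sub
  intro i j
  obtain ⟨t, ht⟩ := hX i j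
  rw [coe_fld_apply]
  rw [← ht]
  exact aut_range φ σ t

theorem exists_diag (d : F0) (hd : d ≠ 0) : ∃ D : GL (Fin 2) F, (D : Matrix (Fin 2) (Fin 2) F).det = φ d ∧
    (sub φ).map (lift (cj D)).toMonoidHom = sub φ := by
  have hφ : φ d ≠ 0 := fun h => hd ((map_eq_zero φ).1 h)
  obtain ⟨D, hD, hDi⟩ : ∃ D : GL (Fin 2) F, (D : Matrix (Fin 2) (Fin 2) F) = !![φ d, 0; 0, 1] ∧
      ((D⁻¹ : GL (Fin 2) F) : Matrix (Fin 2) (Fin 2) F) = !![φ d⁻¹, 0; 0, 1] := by
    refine ⟨⟨!![φ d, 0; 0, 1], !![φ d⁻¹, 0; 0, 1], ?_, ?_⟩, rfl, rfl⟩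
    · ext i j
      fin_cases i <;> fin_cases j <;> simp [Matrix.mul_apply, Fin.sum_univ_two, hφ]
    · ext i j
      fin_cases i <;> fin_cases j <;> simp [Matrix.mul_apply, Fin.sum_univ_two, hφ]
  refine ⟨D, by rw [hD, det_fin_two]; simp, ?_⟩
  apply map_eq_of_le
  intro x hx
  obtain ⟨X, rfl, hX⟩ := mem_sub hx
  rw [lift_pr]
  apply pr_mem_sub
  choose Y hY using hX
  have hent : ∀ i j, (cj D X : Matrix (Fin 2) (Fin 2) F) i j =
      (D : Matrix (Fin 2) (Fin 2) F) i i * X i j * ((D⁻¹ : GL (Fin 2) F) : Matrix (Fin 2) (Fin 2) F) j j := by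
    intro i j
    rw [coe_cj, hD, hDi]
    simp only [Matrix.mul_apply, Fin.sum_univ_two]
    fin_cases i <;> fin_cases j <;> simp
  have hr : ∀ i, ∃ t : F0, φ t = (D : Matrix (Fin 2) (Fin 2) F) i i := by
    intro i
    rw [hD]
    fin_cases i
    · exact ⟨d, by simp⟩
    · exact ⟨1, by simp⟩
  have hri : ∀ i, ∃ t : F0, φ t = ((D⁻¹ : GL (Fin 2) F) : Matrix (Fin 2) (Fin 2) F) i i := by
    intro i
    rw [hDi]
    fin_cases i
    · exact ⟨d⁻¹, by simp⟩
    · exact ⟨1, by simp⟩
  intro i j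
  obtain ⟨a, ha⟩ := hr i
  obtain ⟨b, hb⟩ := hri j
  exact ⟨a * Y i j * b, by rw [map_mul, map_mul, ha, hb, hY]; exact (hent i j).symm⟩

/-- The class of the subfield subgroup is invariant under all automorphisms. -/
theorem sub_invariant {m : ℕ} (hm : Odd m) (hcard : Fintype.card F0 ^ m = Fintype.card F)
    (h2 : (2 : F0) ≠ 0) (α : MulAut (ProjectiveSpecialLinearGroup (Fin 2) F)) :
    ∃ s : ProjectiveSpecialLinearGroup (Fin 2) F,
      (sub φ).map α.toMonoidHom = (sub φ).map (MulAut.conj s).toMonoidHom := by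
  classical
  obtain ⟨p, hp⟩ := CharP.exists F
  have hpf : Fact p.Prime := ⟨CharP.char_is_prime F p⟩
  obtain ⟨A, σ, rfl⟩ := surj_two p α
  rw [map_mul, map_mul_aut, map_fld]
  have h2F : ringChar F ≠ 2 := by
    intro h
    apply h2
    apply φ.injective
    rw [map_zero, map_ofNat]
    have : CharP F 2 := by rw [← h]; exact ringChar.charP F
    exact CharTwo.two_eq_zero
  have h2F0 : ringChar F0 ≠ 2 := by
    intro h
    apply h2
    have : CharP F0 2 := by rw [← h]; exact ringChar.charP F0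
    exact CharTwo.two_eq_zero
  have hdet : (A : Matrix (Fin 2) (Fin 2) F).det ≠ 0 := by
    have h1 := (Matrix.GeneralLinearGroup.det A).ne_zero
    rwa [Matrix.GeneralLinearGroup.val_det_apply] at h1
  by_cases hsq : IsSquare (A : Matrix (Fin 2) (Fin 2) F).det
  · obtain ⟨c, hc⟩ := hsq
    obtain ⟨g, hg⟩ := lift_cj_of_det A c (by rw [hc, sq])
    exact ⟨g, by rw [hg]⟩
  · obtain ⟨d, hd⟩ := FiniteField.exists_nonsquare h2F0
    have hd0 : d ≠ 0 := by
      rintro rfl
      exact hd ⟨0, by simp⟩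
    have hdF := nonsquare_map φ hm hcard h2 hd
    obtain ⟨D, hD, hDs⟩ := exists_diag (φ := φ) d hd0
    have h1 : IsSquare ((A * D : GL (Fin 2) F) : Matrix (Fin 2) (Fin 2) F).det := by
      have h3 : (A : Matrix (Fin 2) (Fin 2) F).det * φ d ≠ 0 :=
        mul_ne_zero hdet (fun h => hd0 ((map_eq_zero φ).1 h))
      rw [Units.val_mul, det_mul, hD, ← quadraticChar_one_iff_isSquare h3, map_mul,
        (quadraticChar_neg_one_iff_not_isSquare).2 hsq, (quadraticChar_neg_one_iff_not_isSquare).2 hdF]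
      norm_num
    obtain ⟨c, hc⟩ := h1
    obtain ⟨g, hg⟩ := lift_cj_of_det (A * D) c (by rw [hc, sq])
    refine ⟨g, ?_⟩
    rw [← hg, map_mul, map_mul, map_mul_aut, hDs]

theorem sub_ne_top {m : ℕ} (hm : 1 < m) (hcard : Fintype.card F0 ^ m = Fintype.card F)
    (h2 : (2 : F0) ≠ 0) : sub φ ≠ ⊤ := by
  intro h
  have hodd0 : Odd (Fintype.card F0) := (two_ne_zero_iff_odd F0).1 h2
  have hoddF : Odd (Fintype.card F) := by rw [← hcard]; exact hodd0.pow
  have h1 := card_PSL2_odd F0 hodd0
  have h3 := card_PSL2_odd F hoddF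
  have h4 : Nat.card (ProjectiveSpecialLinearGroup (Fin 2) F0) = Nat.card (ProjectiveSpecialLinearGroup (Fin 2) F) := by
    rw [← Subgroup.card_top (G := ProjectiveSpecialLinearGroup (Fin 2) F), ← h]
    exact Nat.card_congr (MonoidHom.ofInjective (pslMap_injective φ)).toEquiv
  rw [h4, h3] at h1
  have hq0 : 1 < Fintype.card F0 := Fintype.one_lt_card
  have hlt : Fintype.card F0 < Fintype.card F := by
    rw [← hcard]
    calc Fintype.card F0 = Fintype.card F0 ^ 1 := (pow_one _).symm
      _ < _ := Nat.pow_lt_pow_right hq0 hm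
  have h5 : Fintype.card F0 ^ 2 ≤ Fintype.card F ^ 2 := Nat.pow_le_pow_left hlt.le 2
  have h6 : 1 < Fintype.card F0 ^ 2 := Nat.one_lt_pow two_ne_zero hq0
  have h7 : Fintype.card F0 * (Fintype.card F0 ^ 2 - 1) < Fintype.card F * (Fintype.card F ^ 2 - 1) := by
    apply Nat.mul_lt_mul_of_lt_of_le hlt (by omega)
    omega
  omega

end sub

/-! ### The main theorem -/

theorem card_mod {n q : ℕ} (h : n * 2 = q * (q ^ 2 - 1)) (hq : q % 8 = 3 ∨ q % 8 = 5) : n % 8 = 4 := by
  rcases hq with hq | hq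
  · obtain ⟨k, hk⟩ : ∃ k, q = 8 * k + 3 := ⟨q / 8, by omega⟩
    have h1 : q * (q ^ 2 - 1) = 512 * k ^ 3 + 576 * k ^ 2 + 208 * k + 24 := by
      have h2 : q ^ 2 - 1 = 64 * k ^ 2 + 48 * k + 8 := by
        rw [hk]
        have : (8 * k + 3) ^ 2 = 64 * k ^ 2 + 48 * k + 8 + 1 := by ring
        omega
      rw [h2, hk]
      ring
    omega
  · obtain ⟨k, hk⟩ : ∃ k, q = 8 * k + 5 := ⟨q / 8, by omega⟩
    have h1 : q * (q ^ 2 - 1) = 512 * k ^ 3 + 960 * k ^ 2 + 592 * k + 120 := by
      have h2 : q ^ 2 - 1 = 64 * k ^ 2 + 80 * k + 24 := by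
        rw [hk]
        have : (8 * k + 5) ^ 2 = 64 * k ^ 2 + 80 * k + 24 + 1 := by ring
        omega
      rw [h2, hk]
      ring
    omega

theorem psl2 {S : Type u} [Group S] [Finite S] (h : Loc S) {F : Type} [Field F] [Fintype F]
    (hF : Odd (Fintype.card F)) (e : S ≃* Matrix.ProjectiveSpecialLinearGroup (Fin 2) F) : IsL2 S := by
  obtain ⟨p, hp⟩ := CharP.exists F
  have hpf : Fact p.Prime := ⟨CharP.char_is_prime F p⟩
  obtain ⟨f, -, hf⟩ := FiniteField.card F p
  have hcS : Nat.card S * 2 = Fintype.card F * (Fintype.card F ^ 2 - 1) := by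
    rw [Nat.card_congr e.toEquiv, card_PSL2_odd F hF]
  have hp2 : p ≠ 2 := by
    rintro rfl
    rw [hf] at hF
    exact (Nat.not_even_iff_odd.2 hF) ((Nat.even_pow.2 ⟨even_two, f.pos.ne'⟩))
  have hmod : Fintype.card F % 8 = 1 ∨ Fintype.card F % 8 = 7 ∨ Fintype.card F % 8 = 3 ∨ Fintype.card F % 8 = 5 := by
    obtain ⟨k, hk⟩ := hF
    omega
  by_cases h35 : Fintype.card F % 8 = 3 ∨ Fintype.card F % 8 = 5
  · exfalso
    refine not_nc_of_nonsol h.nonsol (nc_of_card_four ?_ h.normalizer_sylow)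
    exact card_mod hcS h35
  · have h17 : Fintype.card F % 8 = 1 ∨ Fintype.card F % 8 = 7 := by
      rcases hmod with h1 | h1 | h1 | h1
      · exact Or.inl h1
      · exact Or.inr h1
      · exact absurd (Or.inl h1) h35
      · exact absurd (Or.inr h1) h35
    obtain ⟨a, m, hm, ham⟩ := Nat.exists_eq_two_pow_mul_odd f.pos.ne'
    refine ⟨F, inferInstance, inferInstance, ?_, ⟨e⟩⟩
    by_cases hm1 : m = 1
    · subst hm1
      rw [mul_one] at ham
      rw [ham] at hf
      rcases Nat.eq_zero_or_pos a with rfl | ha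
      · right
        rw [pow_zero, pow_one] at hf
        exact ⟨hf ▸ hpf.out, h17⟩
      · left
        exact ⟨p, a, hpf.out, hp2, ha, hf⟩
    · exfalso
      have hm2 : 1 < m := by
        have := hm.pos
        omega
      let _ : Fintype (GaloisField p (2 ^ a)) := Fintype.ofFinite _
      have hc0 : Fintype.card (GaloisField p (2 ^ a)) = p ^ 2 ^ a := by
        rw [← Nat.card_eq_fintype_card]
        exact GaloisField.card p (2 ^ a) (by positivity)
      have hcard : Fintype.card (GaloisField p (2 ^ a)) ^ m = Fintype.card F := by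
        rw [hc0, hf, ham, pow_mul]
      obtain ⟨φ⟩ := exists_ringHom_of_card_pow hcard
      have h2 : (2 : GaloisField p (2 ^ a)) ≠ 0 := by
        rw [two_ne_zero_iff_odd, hc0]
        exact (hpf.out.odd_of_ne_two hp2).pow
      have hne : (sub φ).map e.symm.toMonoidHom ≠ ⊤ := by
        intro hcon
        apply sub_ne_top (φ := φ) hm2 hcard h2
        rw [eq_top_iff]
        intro x _
        have h3 : e.symm x ∈ (sub φ).map e.symm.toMonoidHom := by rw [hcon]; exact mem_top _
        obtain ⟨y, hy, hyx⟩ := h3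
        have h4 : y = x := e.symm.injective hyx
        rwa [← h4]
      have hnc := h.star _ hne (fun α => by
        obtain ⟨s, hs⟩ := sub_invariant (φ := φ) hm hcard h2 (MulAut.congr e α)
        refine ⟨e.symm s, ?_⟩
        have h3 : ∀ β : MulAut S, ((sub φ).map e.symm.toMonoidHom).map β.toMonoidHom =
            ((sub φ).map (MulAut.congr e β).toMonoidHom).map e.symm.toMonoidHom := by
          intro β
          rw [Subgroup.map_map, Subgroup.map_map]
          congr 1
          ext x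
          change β (e.symm x) = e.symm (e (β (e.symm x)))
          rw [e.symm_apply_apply]
        have h4 : MulAut.congr e (MulAut.conj (e.symm s)) = MulAut.conj s := by
          apply MulEquiv.ext
          intro x
          change e (MulAut.conj (e.symm s) (e.symm x)) = _
          simp [MulAut.conj_apply]
        rw [h3, h3, h4, hs])
      refine not_nc_psl (K := GaloisField p (2 ^ a)) h2 ?_
      have e1 : ProjectiveSpecialLinearGroup (Fin 2) (GaloisField p (2 ^ a)) ≃* sub φ :=
        MonoidHom.ofInjective (pslMap_injective φ)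
      have e2 : sub φ ≃* (sub φ).map e.symm.toMonoidHom :=
        (sub φ).equivMapOfInjective e.symm.toMonoidHom e.symm.injective
      exact (NC.congr (e1.trans e2)).2 hnc

end Cfsg.Agent.H161.L2Sub
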