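import Cfsg.Agent.H161.Peel

/-!
# Lifting a unipotent factorization through the Schur complement
-/

set_option autoImplicit false

namespace Cfsg.Agent.H161.Peel

open Module

variable {K : Type*} {V : Type*} [Field K] [AddCommGroup V] [Module K V]

/-- the lift of `N₁'` -/
def liftL (S : V →ₗ[K] V) (v : V) (φ : V →ₗ[K] K) (h : φ v = 1)
    (N : LinearMap.ker φ →ₗ[K] LinearMap.ker φ) : V →ₗ[K] V :=
  φ.smulRight (S v - v) + (LinearMap.ker φ).subtype ∘ₗ N ∘ₗ proj v φ h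

/-- the lift of `N₂'` -/
def liftR (S : V →ₗ[K] V) (v : V) (φ : V →ₗ[K] K) (h : φ v = 1)
    (N : LinearMap.ker φ →ₗ[K] LinearMap.ker φ) : V →ₗ[K] V :=
  (φ ∘ₗ S ∘ₗ (LinearMap.ker φ).subtype ∘ₗ proj v φ h).smulRight v +
    (LinearMap.ker φ).subtype ∘ₗ N ∘ₗ proj v φ h

variable (S : V →ₗ[K] V) (v : V) (φ : V →ₗ[K] K) (h : φ v = 1) (h1 : φ (S v) = 1)
  (N : LinearMap.ker φ →ₗ[K] LinearMap.ker φ)

theorem liftL_apply (z : V) : liftL S v φ h N z = φ z • (S v - v) + (N (proj v φ h z) : V) := rfl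

theorem liftR_apply (z : V) : liftR S v φ h N z =
    φ (S (proj v φ h z : LinearMap.ker φ)) • v + (N (proj v φ h z) : V) := rfl

include h h1 in
theorem mem_ker_sub : S v - v ∈ LinearMap.ker φ := by
  rw [LinearMap.mem_ker, map_sub, h1, h, sub_self]

theorem liftL_coe (w : LinearMap.ker φ) : liftL S v φ h N w = (N w : V) := by
  rw [liftL_apply, proj_coe, show φ (w : V) = 0 from w.2, zero_smul, zero_add]

theorem liftL_pow_coe (k : ℕ) (w : LinearMap.ker φ) :
    (liftL S v φ h N ^ k) (w : V) = ((N ^ k) w : LinearMap.ker φ) := by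
  induction k generalizing w with
  | zero => simp
  | succ k ih =>
    rw [pow_succ, pow_succ, Module.End.mul_apply, Module.End.mul_apply, liftL_coe, ih]

theorem liftL_pow_succ (k : ℕ) (z : V) :
    (liftL S v φ h N ^ (k + 1)) z =
      ((N ^ k) (φ z • ⟨S v - v, mem_ker_sub S v φ h h1⟩ + N (proj v φ h z)) : LinearMap.ker φ) := by
  rw [pow_succ, Module.End.mul_apply, ← liftL_pow_coe S v φ h]
  rfl

theorem proj_liftR (z : V) : proj v φ h (liftR S v φ h N z) = N (proj v φ h z) := by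
  rw [liftR_apply, map_add, map_smul, proj_self, smul_zero, zero_add, proj_coe]

theorem proj_liftR_pow (k : ℕ) (z : V) :
    proj v φ h ((liftR S v φ h N ^ k) z) = (N ^ k) (proj v φ h z) := by
  induction k generalizing z with
  | zero => simp
  | succ k ih =>
    rw [pow_succ, pow_succ, Module.End.mul_apply, Module.End.mul_apply, ih, proj_liftR]

theorem liftR_pow_succ (k : ℕ) (z : V) :
    (liftR S v φ h N ^ (k + 1)) z =
      φ (S ((N ^ k) (proj v φ h z) : LinearMap.ker φ)) • v +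
        ((N ^ (k + 1)) (proj v φ h z) : LinearMap.ker φ) := by
  rw [pow_succ', Module.End.mul_apply, liftR_apply, proj_liftR_pow, pow_succ',
    Module.End.mul_apply]

theorem lift_mul (N₁ N₂ : LinearMap.ker φ →ₗ[K] LinearMap.ker φ)
    (hS : peel S v φ h1 = (1 + N₁) * (1 + N₂)) :
    S = (1 + liftL S v φ h N₁) * (1 + liftR S v φ h N₂) := by
  ext z
  obtain ⟨w, a, rfl⟩ : ∃ (w : LinearMap.ker φ) (a : K), z = a • v + w :=
    ⟨proj v φ h z, φ z, by rw [coe_proj]; abel⟩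
  have hw : φ (w : V) = 0 := w.2
  have e1 : (1 + liftR S v φ h N₂) (a • v + w) = (a + φ (S w)) • v + ((1 + N₂) w : LinearMap.ker φ) := by
    rw [LinearMap.add_apply, liftR_apply]
    simp only [map_add, map_smul, proj_self, proj_coe, smul_zero, zero_add, Module.End.one_apply,
      LinearMap.add_apply, Submodule.coe_add, add_smul]
    abel
  have e2 : (1 + liftL S v φ h N₁) ((a + φ (S w)) • v + ((1 + N₂) w : LinearMap.ker φ)) =
      (a + φ (S w)) • S v + (((1 + N₁) ((1 + N₂) w) : LinearMap.ker φ) : V) := by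
    rw [LinearMap.add_apply, liftL_apply]
    have : φ (((1 + N₂) w : LinearMap.ker φ) : V) = 0 := ((1 + N₂) w : LinearMap.ker φ).2
    rw [map_add (proj v φ h), map_smul (proj v φ h), proj_self, smul_zero, zero_add, proj_coe,
      map_add φ, map_smul φ, h, this]
    simp only [Module.End.one_apply, LinearMap.add_apply, Submodule.coe_add, smul_eq_mul, mul_one,
      add_zero, smul_sub, map_add]
    abel
  rw [Module.End.mul_apply, e1, e2, ← Module.End.mul_apply, ← hS, coe_peel]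
  simp only [map_add, map_smul, add_smul]
  abel

include h h1 in
/-- **Lifting a unipotent factorization.** -/
theorem lift (k : ℕ) (N₁ N₂ : LinearMap.ker φ →ₗ[K] LinearMap.ker φ)
    (hN₁ : N₁ ^ (k + 1) = 0) (hN₂ : N₂ ^ (k + 1) = 0)
    (hx' : (N₁ ^ k) ⟨S v - v, mem_ker_sub S v φ h h1⟩ ≠ 0)
    (hy' : ∃ w, φ (S ((N₂ ^ k) w : LinearMap.ker φ)) ≠ 0)
    (hS : peel S v φ h1 = (1 + N₁) * (1 + N₂))
    (x : V) (hx : φ x ≠ 0) (y : V →ₗ[K] K) (hy : y v ≠ 0) :
    ∃ M₁ M₂ : V →ₗ[K] V, M₁ ^ (k + 2) = 0 ∧ M₂ ^ (k + 2) = 0 ∧ (M₁ ^ (k + 1)) x ≠ 0 ∧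
      (∃ z, y ((M₂ ^ (k + 1)) z) ≠ 0) ∧ S = (1 + M₁) * (1 + M₂) := by
  refine ⟨liftL S v φ h N₁, liftR S v φ h N₂, ?_, ?_, ?_, ?_, lift_mul S v φ h h1 N₁ N₂ hS⟩
  · ext z
    rw [liftL_pow_succ S v φ h h1, hN₁]; simp
  · ext z
    rw [liftR_pow_succ S v φ h, hN₂, pow_succ, hN₂]; simp
  · rw [liftL_pow_succ S v φ h h1, map_add, ← Module.End.mul_apply, ← pow_succ, hN₁]
    rw [map_smul]
    intro h0
    simp only [LinearMap.zero_apply, add_zero, Submodule.coe_smul, smul_eq_zero] at h0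
    rcases h0 with h0 | h0
    · exact hx h0
    · exact hx' (Subtype.ext h0)
  · obtain ⟨w, hw⟩ := hy'
    refine ⟨w, ?_⟩
    rw [liftR_pow_succ S v φ h, proj_coe, hN₂]
    simp only [LinearMap.zero_apply, Submodule.coe_zero, add_zero, map_smul, smul_eq_mul]
    exact mul_ne_zero hw hy

end Cfsg.Agent.H161.Peel
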