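import Cfsg.Prelude.Def_G2

/-!
# The split octonions (Zorn vector matrices): basic facts (helper161)

* `AutO K` : the group of linear automorphisms of the algebra;
* `tau p`, `sg p` (short root type), `swp`, and transitivity on the idempotents of trace one.
-/

set_option autoImplicit false
set_option linter.unusedSimpArgs false

namespace Cfsg.Agent.H161.Oct

open Cfsg.Lie

variable {K : Type*} [Field K]

/-- the space -/
abbrev V (K : Type*) : Type _ := Fin 8 → K

theorem mul0 (x y : V K) : zornMul x y 0 = x 0 * y 0 + (x 1 * y 4 + x 2 * y 5 + x 3 * y 6) := by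
  simp [zornMul, dot3, zA, zB]
theorem mul1 (x y : V K) : zornMul x y 1 = x 0 * y 1 + y 7 * x 1 - (x 5 * y 6 - x 6 * y 5) := by
  simp [zornMul, cross3, zA, zB]
theorem mul2 (x y : V K) : zornMul x y 2 = x 0 * y 2 + y 7 * x 2 - (x 6 * y 4 - x 4 * y 6) := by
  simp [zornMul, cross3, zA, zB]
theorem mul3 (x y : V K) : zornMul x y 3 = x 0 * y 3 + y 7 * x 3 - (x 4 * y 5 - x 5 * y 4) := by
  simp [zornMul, cross3, zA, zB]
theorem mul4 (x y : V K) : zornMul x y 4 = y 0 * x 4 + x 7 * y 4 + (x 2 * y 3 - x 3 * y 2) := by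
  simp [zornMul, cross3, zA, zB]
theorem mul5 (x y : V K) : zornMul x y 5 = y 0 * x 5 + x 7 * y 5 + (x 3 * y 1 - x 1 * y 3) := by
  simp [zornMul, cross3, zA, zB]
theorem mul6 (x y : V K) : zornMul x y 6 = y 0 * x 6 + x 7 * y 6 + (x 1 * y 2 - x 2 * y 1) := by
  simp [zornMul, cross3, zA, zB]
theorem mul7 (x y : V K) : zornMul x y 7 = (x 4 * y 1 + x 5 * y 2 + x 6 * y 3) + x 7 * y 7 := by
  simp [zornMul, dot3, zA, zB]

omit [Field K] in
/-- extensionality by coordinates -/
theorem ext8 {x y : V K} (h0 : x 0 = y 0) (h1 : x 1 = y 1) (h2 : x 2 = y 2) (h3 : x 3 = y 3)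
    (h4 : x 4 = y 4) (h5 : x 5 = y 5) (h6 : x 6 = y 6) (h7 : x 7 = y 7) : x = y := by
  funext i
  fin_cases i <;> assumption

/-- the identity -/
def o : V K := ![1, 0, 0, 0, 0, 0, 0, 1]

theorem o0 : (o : V K) 0 = 1 := rfl
theorem o1 : (o : V K) 1 = 0 := rfl
theorem o2 : (o : V K) 2 = 0 := rfl
theorem o3 : (o : V K) 3 = 0 := rfl
theorem o4 : (o : V K) 4 = 0 := rfl
theorem o5 : (o : V K) 5 = 0 := rfl
theorem o6 : (o : V K) 6 = 0 := rfl
theorem o7 : (o : V K) 7 = 1 := rfl

theorem o_mul (x : V K) : zornMul o x = x := by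
  apply ext8 <;> simp only [mul0, mul1, mul2, mul3, mul4, mul5, mul6, mul7, o0, o1, o2, o3, o4, o5,
    o6, o7] <;> ring

theorem mul_o (x : V K) : zornMul x o = x := by
  apply ext8 <;> simp only [mul0, mul1, mul2, mul3, mul4, mul5, mul6, mul7, o0, o1, o2, o3, o4, o5,
    o6, o7] <;> ring

/-- trace -/
def tr (x : V K) : K := x 0 + x 7

/-- norm -/
def nm (x : V K) : K := x 0 * x 7 - (x 1 * x 4 + x 2 * x 5 + x 3 * x 6)

/-- polar form -/
def bl (x y : V K) : K := x 0 * y 7 + x 7 * y 0 - (x 1 * y 4 + x 2 * y 5 + x 3 * y 6) -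
  (y 1 * x 4 + y 2 * x 5 + y 3 * x 6)

theorem nm_add (x y : V K) : nm (x + y) = nm x + nm y + bl x y := by
  simp only [nm, bl, Pi.add_apply]; ring

theorem sq_eq (x : V K) : zornMul x x = tr x • x - nm x • o := by
  apply ext8 <;> simp only [mul0, mul1, mul2, mul3, mul4, mul5, mul6, mul7, Pi.sub_apply,
    Pi.smul_apply, smul_eq_mul, o0, o1, o2, o3, o4, o5, o6, o7, tr, nm] <;> ring

theorem zmul_add (x y z : V K) : zornMul x (y + z) = zornMul x y + zornMul x z := by
  apply ext8 <;> simp only [mul0, mul1, mul2, mul3, mul4, mul5, mul6, mul7, Pi.add_apply] <;> ring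

theorem zadd_mul (x y z : V K) : zornMul (x + y) z = zornMul x z + zornMul y z := by
  apply ext8 <;> simp only [mul0, mul1, mul2, mul3, mul4, mul5, mul6, mul7, Pi.add_apply] <;> ring

theorem zmul_smul (c : K) (x y : V K) : zornMul x (c • y) = c • zornMul x y := by
  apply ext8 <;> simp only [mul0, mul1, mul2, mul3, mul4, mul5, mul6, mul7, Pi.smul_apply,
    smul_eq_mul] <;> ring

theorem zsmul_mul (c : K) (x y : V K) : zornMul (c • x) y = c • zornMul x y := by
  apply ext8 <;> simp only [mul0, mul1, mul2, mul3, mul4, mul5, mul6, mul7, Pi.smul_apply,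
    smul_eq_mul] <;> ring

theorem tr_o : tr (o : V K) = 2 := by simp only [tr, o0, o7]; norm_num

theorem nm_o : nm (o : V K) = 1 := by simp only [nm, o0, o1, o2, o3, o4, o5, o6, o7]; ring

theorem o_ne : (o : V K) ≠ 0 := fun h => one_ne_zero (α := K) (congrFun h 0)

theorem bl_o (x : V K) : bl x o = tr x := by
  simp only [bl, o0, o1, o2, o3, o4, o5, o6, o7, tr]; ring

theorem bl_comm (x y : V K) : bl x y = bl y x := by simp only [bl]; ring

theorem bl_add (x y z : V K) : bl x (y + z) = bl x y + bl x z := by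
  simp only [bl, Pi.add_apply]; ring

theorem bl_smul (c : K) (x y : V K) : bl x (c • y) = c * bl x y := by
  simp only [bl, Pi.smul_apply, smul_eq_mul]; ring

theorem bl_add' (x y z : V K) : bl (x + y) z = bl x z + bl y z := by
  simp only [bl, Pi.add_apply]; ring

theorem bl_smul' (c : K) (x y : V K) : bl (c • x) y = c * bl x y := by
  simp only [bl, Pi.smul_apply, smul_eq_mul]; ring

theorem tr_add (x y : V K) : tr (x + y) = tr x + tr y := by simp only [tr, Pi.add_apply]; ring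
theorem tr_smul (c : K) (x : V K) : tr (c • x) = c * tr x := by
  simp only [tr, Pi.smul_apply, smul_eq_mul]; ring
theorem nm_smul (c : K) (x : V K) : nm (c • x) = c ^ 2 * nm x := by
  simp only [nm, Pi.smul_apply, smul_eq_mul]; ring

/-- **Automorphisms** of the octonions, as linear equivalences. -/
def AutO (K : Type*) [Field K] : Subgroup (V K ≃ₗ[K] V K) where
  carrier := {f | ∀ x y, f (zornMul x y) = zornMul (f x) (f y)}
  mul_mem' {f g} hf hg := by
    intro x y
    rw [LinearEquiv.mul_apply, LinearEquiv.mul_apply, LinearEquiv.mul_apply, hg, hf]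
  one_mem' := fun x y => rfl
  inv_mem' {f} hf := by
    intro x y
    apply f.injective
    have h1 : ∀ z, f (f⁻¹ z) = z := fun z => f.apply_symm_apply z
    rw [hf, h1, h1, h1]

theorem mem_AutO {f : V K ≃ₗ[K] V K} :
    f ∈ AutO K ↔ ∀ x y, f (zornMul x y) = zornMul (f x) (f y) := Iff.rfl

section Inv

variable {f : V K ≃ₗ[K] V K} (hf : f ∈ AutO K)

include hf

theorem map_o : f o = o := by
  obtain ⟨x, hx⟩ := f.surjective o
  have h1 : zornMul (f o) (f x) = f x := by rw [← mem_AutO.1 hf, o_mul]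
  rw [hx, mul_o] at h1
  exact h1

theorem tr_nm (x : V K) : tr (f x) = tr x ∧ nm (f x) = nm x := by
  have h1 : zornMul (f x) (f x) = tr x • f x - nm x • o := by
    rw [← mem_AutO.1 hf, sq_eq, map_sub, map_smul, map_smul, map_o hf]
  rw [sq_eq] at h1
  by_cases hx : ∃ c : K, f x = c • o
  · obtain ⟨c, hc⟩ := hx
    have hx' : x = c • o := by
      apply f.injective
      rw [hc, map_smul, map_o hf]
    rw [hc, hx', tr_smul, nm_smul]
    exact ⟨rfl, rfl⟩
  · have h2 : (tr (f x) - tr x) • f x = (nm (f x) - nm x) • o := by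
      rw [sub_smul, sub_smul]
      have := h1
      rw [sub_eq_sub_iff_add_eq_add] at this ⊢
      rw [this, add_comm]
    by_cases h3 : tr (f x) - tr x = 0
    · rw [h3, zero_smul] at h2
      refine ⟨sub_eq_zero.1 h3, ?_⟩
      rcases smul_eq_zero.1 h2.symm with h | h
      · exact sub_eq_zero.1 h
      · exact absurd h o_ne
    · exfalso
      apply hx
      refine ⟨(tr (f x) - tr x)⁻¹ * (nm (f x) - nm x), ?_⟩
      rw [mul_smul, ← h2, smul_smul, inv_mul_cancel₀ h3, one_smul]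

theorem map_tr (x : V K) : tr (f x) = tr x := (tr_nm hf x).1

theorem map_nm (x : V K) : nm (f x) = nm x := (tr_nm hf x).2

theorem map_bl (x y : V K) : bl (f x) (f y) = bl x y := by
  have h1 := map_nm hf (x + y)
  rw [map_add, nm_add, nm_add, map_nm hf, map_nm hf] at h1
  exact add_left_cancel h1

end Inv

/-! ### Explicit automorphisms -/

/-- `τ_p` as a function -/
def tauF (p : Fin 3 → K) (x : V K) : V K :=
  ![x 0 + (p 0 * x 4 + p 1 * x 5 + p 2 * x 6),
    x 1 + (x 7 - x 0) * p 0 - (p 0 * x 4 + p 1 * x 5 + p 2 * x 6) * p 0,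
    x 2 + (x 7 - x 0) * p 1 - (p 0 * x 4 + p 1 * x 5 + p 2 * x 6) * p 1,
    x 3 + (x 7 - x 0) * p 2 - (p 0 * x 4 + p 1 * x 5 + p 2 * x 6) * p 2,
    x 4 - (p 1 * x 3 - p 2 * x 2),
    x 5 - (p 2 * x 1 - p 0 * x 3),
    x 6 - (p 0 * x 2 - p 1 * x 1),
    x 7 - (p 0 * x 4 + p 1 * x 5 + p 2 * x 6)]

theorem tau0 (p : Fin 3 → K) (x : V K) : tauF p x 0 = x 0 + (p 0 * x 4 + p 1 * x 5 + p 2 * x 6) := rfl
theorem tau1 (p : Fin 3 → K) (x : V K) : tauF p x 1 =
  x 1 + (x 7 - x 0) * p 0 - (p 0 * x 4 + p 1 * x 5 + p 2 * x 6) * p 0 := rfl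
theorem tau2 (p : Fin 3 → K) (x : V K) : tauF p x 2 =
  x 2 + (x 7 - x 0) * p 1 - (p 0 * x 4 + p 1 * x 5 + p 2 * x 6) * p 1 := rfl
theorem tau3 (p : Fin 3 → K) (x : V K) : tauF p x 3 =
  x 3 + (x 7 - x 0) * p 2 - (p 0 * x 4 + p 1 * x 5 + p 2 * x 6) * p 2 := rfl
theorem tau4 (p : Fin 3 → K) (x : V K) : tauF p x 4 = x 4 - (p 1 * x 3 - p 2 * x 2) := rfl
theorem tau5 (p : Fin 3 → K) (x : V K) : tauF p x 5 = x 5 - (p 2 * x 1 - p 0 * x 3) := rfl
theorem tau6 (p : Fin 3 → K) (x : V K) : tauF p x 6 = x 6 - (p 0 * x 2 - p 1 * x 1) := rfl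
theorem tau7 (p : Fin 3 → K) (x : V K) : tauF p x 7 = x 7 - (p 0 * x 4 + p 1 * x 5 + p 2 * x 6) := rfl

theorem tau_add (p : Fin 3 → K) (x y : V K) : tauF p (x + y) = tauF p x + tauF p y := by
  apply ext8 <;> simp only [tau0, tau1, tau2, tau3, tau4, tau5, tau6, tau7, Pi.add_apply] <;> ring

theorem tau_smul (p : Fin 3 → K) (c : K) (x : V K) : tauF p (c • x) = c • tauF p x := by
  apply ext8 <;> simp only [tau0, tau1, tau2, tau3, tau4, tau5, tau6, tau7, Pi.smul_apply,
    smul_eq_mul] <;> ring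

theorem tau_mul (p : Fin 3 → K) (x y : V K) :
    tauF p (zornMul x y) = zornMul (tauF p x) (tauF p y) := by
  apply ext8 <;> simp only [tau0, tau1, tau2, tau3, tau4, tau5, tau6, tau7, mul0, mul1, mul2, mul3,
    mul4, mul5, mul6, mul7] <;> ring

/-- parallel parameters add -/
theorem tau_tau (p : Fin 3 → K) (a b : K) (x : V K) :
    tauF (a • p) (tauF (b • p) x) = tauF ((a + b) • p) x := by
  apply ext8 <;> simp only [tau0, tau1, tau2, tau3, tau4, tau5, tau6, tau7, Pi.smul_apply,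
    smul_eq_mul] <;> ring

theorem tau_zero (x : V K) : tauF 0 x = x := by
  apply ext8 <;> simp only [tau0, tau1, tau2, tau3, tau4, tau5, tau6, tau7, Pi.zero_apply] <;> ring

/-- `τ_p` -/
def tau (p : Fin 3 → K) : V K ≃ₗ[K] V K where
  toFun := tauF p
  map_add' := tau_add p
  map_smul' := tau_smul p
  invFun := tauF (-p)
  left_inv x := by
    have := tau_tau p (-1) 1 x
    simpa [tau_zero] using this
  right_inv x := by
    have := tau_tau p 1 (-1) x
    simpa [tau_zero] using this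

theorem tau_apply (p : Fin 3 → K) (x : V K) : tau p x = tauF p x := rfl

theorem tau_mem (p : Fin 3 → K) : tau p ∈ AutO K := fun x y => tau_mul p x y

/-- the exchange automorphism as a function -/
def swpF (x : V K) : V K := ![x 7, -x 4, -x 5, -x 6, -x 1, -x 2, -x 3, x 0]

theorem swpF0 (x : V K) : swpF x 0 = x 7 := rfl
theorem swpF1 (x : V K) : swpF x 1 = -x 4 := rfl
theorem swpF2 (x : V K) : swpF x 2 = -x 5 := rfl
theorem swpF3 (x : V K) : swpF x 3 = -x 6 := rfl
theorem swpF4 (x : V K) : swpF x 4 = -x 1 := rfl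
theorem swpF5 (x : V K) : swpF x 5 = -x 2 := rfl
theorem swpF6 (x : V K) : swpF x 6 = -x 3 := rfl
theorem swpF7 (x : V K) : swpF x 7 = x 0 := rfl

/-- the exchange automorphism -/
def swp (K : Type*) [Field K] : V K ≃ₗ[K] V K where
  toFun := swpF
  map_add' x y := by
    apply ext8 <;> simp only [swpF0, swpF1, swpF2, swpF3, swpF4, swpF5, swpF6, swpF7,
      Pi.add_apply] <;> ring
  map_smul' c x := by
    apply ext8 <;> simp only [swpF0, swpF1, swpF2, swpF3, swpF4, swpF5, swpF6, swpF7,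
      Pi.smul_apply, smul_eq_mul, RingHom.id_apply] <;> ring
  invFun := swpF
  left_inv x := by
    apply ext8 <;> simp only [swpF0, swpF1, swpF2, swpF3, swpF4, swpF5, swpF6, swpF7] <;> ring
  right_inv x := by
    apply ext8 <;> simp only [swpF0, swpF1, swpF2, swpF3, swpF4, swpF5, swpF6, swpF7] <;> ring

theorem swp_apply (x : V K) : swp K x = swpF x := rfl

theorem swp_mem : swp K ∈ AutO K := by
  intro x y
  simp only [swp_apply]
  apply ext8 <;> simp only [swpF0, swpF1, swpF2, swpF3, swpF4, swpF5, swpF6, swpF7, mul0, mul1,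
    mul2, mul3, mul4, mul5, mul6, mul7] <;> ring

/-- the standard idempotent -/
def e1 : V K := ![1, 0, 0, 0, 0, 0, 0, 0]

theorem e1_0 : (e1 : V K) 0 = 1 := rfl
theorem e1_1 : (e1 : V K) 1 = 0 := rfl
theorem e1_2 : (e1 : V K) 2 = 0 := rfl
theorem e1_3 : (e1 : V K) 3 = 0 := rfl
theorem e1_4 : (e1 : V K) 4 = 0 := rfl
theorem e1_5 : (e1 : V K) 5 = 0 := rfl
theorem e1_6 : (e1 : V K) 6 = 0 := rfl
theorem e1_7 : (e1 : V K) 7 = 0 := rfl

/-- An element of trace one and norm zero with vanishing upper vector is conjugate to `e1`. -/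
theorem exists_of_upper {e : V K} (h1 : tr e = 1) (h0 : nm e = 0) (ha : e 1 = 0) (hb : e 2 = 0)
    (hc : e 3 = 0) : ∃ h ∈ AutO K, h e = e1 := by
  rw [nm, ha, hb, hc] at h0
  have h0' : e 0 * e 7 = 0 := by linear_combination h0
  rw [tr] at h1
  -- apply the exchange
  rcases mul_eq_zero.1 h0' with h | h
  · -- `e 0 = 0`, `e 7 = 1`
    have h7 : e 7 = 1 := by rw [h] at h1; simpa using h1
    refine ⟨tau ![-(e 4), -(e 5), -(e 6)] * swp K, (AutO K).mul_mem (tau_mem _) swp_mem, ?_⟩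
    rw [LinearEquiv.mul_apply, swp_apply, tau_apply]
    apply ext8 <;> simp only [tau0, tau1, tau2, tau3, tau4, tau5, tau6, tau7, swpF0, swpF1, swpF2,
      swpF3, swpF4, swpF5, swpF6, swpF7, e1_0, e1_1, e1_2, e1_3, e1_4, e1_5, e1_6, e1_7, ha, hb, hc,
      h, h7, Matrix.cons_val_zero, Matrix.cons_val_one, Matrix.cons_val] <;> ring
  · have h7 : e 0 = 1 := by rw [h] at h1; simpa using h1
    refine ⟨(swp K)⁻¹ * tau ![(e 4), (e 5), (e 6)] * swp K,
      (AutO K).mul_mem ((AutO K).mul_mem ((AutO K).inv_mem swp_mem) (tau_mem _)) swp_mem, ?_⟩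
    rw [LinearEquiv.mul_apply, LinearEquiv.mul_apply]
    have hs : ∀ x : V K, (swp K)⁻¹ x = swpF x := fun x => rfl
    rw [hs, swp_apply, tau_apply]
    apply ext8 <;> simp only [tau0, tau1, tau2, tau3, tau4, tau5, tau6, tau7, swpF0, swpF1, swpF2,
      swpF3, swpF4, swpF5, swpF6, swpF7, e1_0, e1_1, e1_2, e1_3, e1_4, e1_5, e1_6, e1_7, ha, hb, hc,
      h, h7, Matrix.cons_val_zero, Matrix.cons_val_one, Matrix.cons_val] <;> ring

/-- **Transitivity on the idempotents of trace one.** -/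
theorem exists_idem {e : V K} (h1 : tr e = 1) (h0 : nm e = 0) : ∃ h ∈ AutO K, h e = e1 := by
  -- kill the upper vector
  obtain ⟨g, hg, h4, h5, h6⟩ : ∃ g ∈ AutO K, (g e) 1 = 0 ∧ (g e) 2 = 0 ∧ (g e) 3 = 0 := by
    by_cases hz : e 0 = 0
    · have h7 : e 7 = 1 := by rw [tr, hz] at h1; simpa using h1
      have h0' : e 1 * e 4 + e 2 * e 5 + e 3 * e 6 = 0 := by
        rw [nm, hz] at h0; linear_combination -h0
      refine ⟨tau ![-(e 1), -(e 2), -(e 3)], tau_mem _, ?_, ?_, ?_⟩ <;>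
      · rw [tau_apply]
        simp only [tau0, tau1, tau2, tau3, tau4, tau5, tau6, tau7, Matrix.cons_val_zero,
          Matrix.cons_val_one, Matrix.cons_val, hz, h7]
        first
          | linear_combination (-(e 1)) * h0'
          | linear_combination (-(e 2)) * h0'
          | linear_combination (-(e 3)) * h0'
    · have h0' : e 1 * e 4 + e 2 * e 5 + e 3 * e 6 = e 0 * e 7 := by
        rw [nm] at h0; linear_combination -h0
      have h1' : e 7 = 1 - e 0 := by rw [tr] at h1; linear_combination h1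
      refine ⟨tau ![(e 0)⁻¹ * (e 1), (e 0)⁻¹ * (e 2), (e 0)⁻¹ * (e 3)], tau_mem _, ?_, ?_, ?_⟩ <;>
      · rw [tau_apply]
        simp only [tau0, tau1, tau2, tau3, tau4, tau5, tau6, tau7, Matrix.cons_val_zero,
          Matrix.cons_val_one, Matrix.cons_val]
        have h2 : (e 0)⁻¹ * e 1 * e 4 + (e 0)⁻¹ * e 2 * e 5 + (e 0)⁻¹ * e 3 * e 6 = e 7 := by
          rw [show (e 0)⁻¹ * e 1 * e 4 + (e 0)⁻¹ * e 2 * e 5 + (e 0)⁻¹ * e 3 * e 6 =
            (e 0)⁻¹ * (e 1 * e 4 + e 2 * e 5 + e 3 * e 6) by ring, h0', ← mul_assoc,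
            inv_mul_cancel₀ hz, one_mul]
        rw [h2]
        field_simp
        ring
  obtain ⟨h, hh, hh'⟩ := exists_of_upper (e := g e) (by rw [map_tr hg, h1]) (by rw [map_nm hg, h0])
    h4 h5 h6
  exact ⟨h * g, (AutO K).mul_mem hh hg, hh'⟩

end Cfsg.Agent.H161.Oct
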