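import Cfsg.Agent.H161.OctSL

/-!
# Semisimple automorphisms of the octonions are diagonalizable by automorphisms (helper161)
-/

set_option autoImplicit false
set_option linter.unusedSimpArgs false

namespace Cfsg.Agent.H161.Oct

open Cfsg.Lie Module

section Eig

universe u v

variable {K : Type u} [Field K] [IsAlgClosed K] {W : Type v} [AddCommGroup W] [Module K W]
  [FiniteDimensional K W]

/-- An endomorphism of finite order prime to the characteristic has an eigenbasis. -/
theorem exists_eigbasis (T : Module.End K W) {m : ℕ} (hm : (m : K) ≠ 0) (hT : T ^ m = 1)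
    {n : ℕ} (hn : finrank K W = n) :
    ∃ (b : Basis (Fin n) K W) (μ : Fin n → K), ∀ i, T (b i) = μ i • b i := by
  classical
  have hss : T.IsSemisimple := by
    apply Module.End.isSemisimple_of_squarefree_aeval_eq_zero (p := Polynomial.X ^ m - 1)
    · have := Polynomial.separable_X_pow_sub_C (F := K) (1 : K) hm one_ne_zero
      rw [Polynomial.C_1] at this
      exact this.squarefree
    · simp [hT]
  have htop := hss.iSup_eigenspace_eq_top
  let S : Set W := {w | ∃ μ : K, T w = μ • w}
  have hS : Submodule.span K S = ⊤ := by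
    rw [eq_top_iff, ← htop]
    refine iSup_le fun μ => ?_
    intro w hw
    exact Submodule.subset_span ⟨μ, Module.End.mem_eigenspace_iff.1 hw⟩
  obtain ⟨b, hbS, hspan, hli⟩ := exists_linearIndependent K S
  let B : Basis b K W := Basis.mk hli (by rw [Subtype.range_coe, hspan, hS])
  have : Fintype b := FiniteDimensional.fintypeBasisIndex B
  have hcard : Fintype.card b = n := by rw [← hn, Module.finrank_eq_card_basis B]
  let e : b ≃ Fin n := Fintype.equivFinOfCardEq hcard
  choose μ hμ using fun w : b => hbS w.2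
  refine ⟨B.reindex e, fun i => μ (e.symm i), fun i => ?_⟩
  rw [Basis.reindex_apply]
  have : B (e.symm i) = (e.symm i : W) := by simp [B]
  rw [this]
  exact hμ _

end Eig

variable {K : Type*} [Field K]

/-- the vectors given as columns have determinant non-zero -/
theorem det_basis_ne (b : Basis (Fin 3) K (Fin 3 → K)) :
    (Matrix.of fun i j => b j i).det ≠ 0 := by
  have h := (Pi.basisFun K (Fin 3)).isUnit_det b
  rw [Basis.det_apply] at h
  have h2 : (Pi.basisFun K (Fin 3)).toMatrix b = Matrix.of fun i j => b j i := by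
    ext i j
    simp [Basis.toMatrix_apply]
  rw [h2] at h
  exact h.ne_zero

theorem iA_single (P : Matrix (Fin 3) (Fin 3) K) (hP : P.det = 1) (j : Fin 3) :
    sl P hP (iA (Pi.single j 1)) = iA (fun i => P i j) := by
  rw [sl_apply, iA_apply, iA_apply]
  fin_cases j <;> apply ext8 <;>
    simp [slF0, slF1, slF2, slF3, slF4, slF5, slF6, slF7]

/-- **Diagonalization** of an automorphism of order prime to the characteristic which fixes `e1`. -/
theorem exists_diag_of_fix [IsAlgClosed K] {s : V K ≃ₗ[K] V K} (hs : s ∈ AutO K) {m : ℕ}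
    (hm : (m : K) ≠ 0) (hsm : s ^ m = 1) (he : s e1 = e1) :
    ∃ h ∈ AutO K, ∃ a b c : K, a * b * c = 1 ∧
      ∀ x, (h * s * h⁻¹) x = ![x 0, a * x 1, b * x 2, c * x 3, a⁻¹ * x 4, b⁻¹ * x 5, c⁻¹ * x 6,
        x 7] := by
  classical
  -- the map on the upper vectors
  let ρ : Module.End K (Fin 3 → K) :=
    { toFun := fun v => ![s (iA v) 1, s (iA v) 2, s (iA v) 3]
      map_add' := by
        intro v w
        funext i
        fin_cases i <;> simp
      map_smul' := by
        intro c w
        funext i
        fin_cases i <;> simp }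
  have hρ : ∀ v, s (iA v) = iA (ρ v) := fun v => map_iA hs he v
  have hρk : ∀ (k : ℕ) v, (s ^ k) (iA v) = iA ((ρ ^ k) v) := by
    intro k
    induction k with
    | zero => intro v; simp
    | succ k ih =>
      intro v
      rw [pow_succ, pow_succ, LinearEquiv.mul_apply, hρ, ih, Module.End.mul_apply]
  have hρm : ρ ^ m = 1 := by
    apply LinearMap.ext
    intro v
    apply iA_inj
    rw [← hρk, hsm]; rfl
  obtain ⟨b, μ, hb⟩ := exists_eigbasis ρ hm hρm (n := 3) (by simp)
  -- normalize the determinant
  set d := (Matrix.of fun i j => b j i).det with hd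
  have hd0 : d ≠ 0 := det_basis_ne b
  let v : Fin 3 → Fin 3 → K := fun j => (if j = 0 then d⁻¹ else 1) • b j
  let P : Matrix (Fin 3) (Fin 3) K := Matrix.of fun i j => v j i
  have hP : P.det = 1 := by
    have h1 : P = (Matrix.of fun i j => b j i) * Matrix.diagonal (fun j => if j = 0 then d⁻¹ else 1) := by
      ext i j
      rw [Matrix.mul_diagonal]
      simp only [P, v, Matrix.of_apply, Pi.smul_apply, smul_eq_mul]
      rw [mul_comm]
    rw [h1, Matrix.det_mul, Matrix.det_diagonal, ← hd, Fin.prod_univ_three]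
    simp [hd0]
  have hv : ∀ j, ρ (v j) = μ j • v j := by
    intro j
    simp only [v]
    rw [map_smul, hb, smul_comm]
  let h := (sl P hP)⁻¹
  have hh : h ∈ AutO K := (AutO K).inv_mem (sl_mem P hP)
  have hinv : h⁻¹ = sl P hP := inv_inv _
  let t := h * s * h⁻¹
  have ht : t ∈ AutO K := (AutO K).mul_mem ((AutO K).mul_mem hh hs) ((AutO K).inv_mem hh)
  have hsle : sl P hP e1 = e1 := by
    rw [sl_apply]
    apply ext8 <;> simp [slF0, slF1, slF2, slF3, slF4, slF5, slF6, slF7, e1]
  have hhe : h e1 = e1 := by
    apply (sl P hP).injective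
    rw [hsle]
    exact (sl P hP).apply_symm_apply e1
  have hte : t e1 = e1 := by
    show h (s (h⁻¹ e1)) = e1
    rw [hinv, hsle, he, hhe]
  have htA : ∀ j, t (iA (Pi.single j 1)) = μ j • iA (Pi.single j 1) := by
    intro j
    show h (s (h⁻¹ (iA (Pi.single j 1)))) = _
    rw [hinv, iA_single]
    have h1 : (fun i => P i j) = v j := rfl
    rw [h1, hρ, hv, map_smul, map_smul, ← h1, ← iA_single P hP]
    congr 1
    exact (sl P hP).symm_apply_apply _
  have hμ0 : ∀ j, μ j ≠ 0 := by
    intro j hj
    have h1 := htA j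
    rw [hj, zero_smul] at h1
    have h2 := t.injective (h1.trans (map_zero t).symm)
    have h3 := iA_inj (h2.trans (map_zero iA).symm)
    have := congrFun h3 j
    simp at this
  -- values on the lower vectors
  have htB : ∀ j, t (iB (Pi.single j 1)) = (μ j)⁻¹ • iB (Pi.single j 1) := by
    intro j
    have h1 := map_iB ht hte (Pi.single j 1)
    set w := t (iB (Pi.single j 1)) with hw
    have h2 : ∀ i, bl (t (iA (Pi.single i 1))) w = bl (iA (Pi.single i 1)) (iB (Pi.single j 1)) :=
      fun i => map_bl ht _ _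
    have h3 : ∀ i, μ i * bl (iA (Pi.single i 1)) w =
        bl (iA (Pi.single i 1)) (iB (Pi.single j 1)) := by
      intro i
      rw [← h2, htA, bl_smul']
    have k0 := h3 0
    have k1 := h3 1
    have k2 := h3 2
    rw [h1]
    simp only [iA_apply, iB_apply, bl] at k0 k1 k2 ⊢
    simp at k0 k1 k2
    fin_cases j
    · simp at k0 k1 k2 ⊢
      have m1 := (k1.resolve_left (hμ0 1))
      have m2 := (k2.resolve_left (hμ0 2))
      have m0 : w 4 = (μ 0)⁻¹ := by
        apply eq_inv_of_mul_eq_one_right; linear_combination k0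
      rw [m0, m1, m2]
      simp
    · simp at k0 k1 k2 ⊢
      have m1 := (k0.resolve_left (hμ0 0))
      have m2 := (k2.resolve_left (hμ0 2))
      have m0 : w 5 = (μ 1)⁻¹ := by
        apply eq_inv_of_mul_eq_one_right; linear_combination k1
      rw [m0, m1, m2]
      simp
    · simp at k0 k1 k2 ⊢
      have m1 := (k0.resolve_left (hμ0 0))
      have m2 := (k1.resolve_left (hμ0 1))
      have m0 : w 6 = (μ 2)⁻¹ := by
        apply eq_inv_of_mul_eq_one_right; linear_combination k2
      rw [m0, m1, m2]
      simp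
  have hprod : μ 0 * μ 1 * μ 2 = 1 := by
    have h1 : zornMul (iA (Pi.single 0 1)) (iA (Pi.single 1 1)) = (iB (Pi.single 2 1) : V K) := by
      apply ext8 <;> simp [mul0, mul1, mul2, mul3, mul4, mul5, mul6, mul7, iA_apply, iB_apply]
    have h2 := congrArg t h1
    rw [mem_AutO.1 ht, htA, htA, zsmul_mul, zmul_smul, h1, smul_smul, htB] at h2
    have h3 := congrFun h2 6
    simp [iB_apply] at h3
    rw [h3, inv_mul_cancel₀ (hμ0 2)]
  refine ⟨h, hh, μ 0, μ 1, μ 2, hprod, ?_⟩
  intro x
  have hto : t o = o := map_o ht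
  have hx : x = x 7 • o + (x 0 - x 7) • e1 + x 1 • iA (Pi.single 0 1) + x 2 • iA (Pi.single 1 1) +
      x 3 • iA (Pi.single 2 1) + x 4 • iB (Pi.single 0 1) + x 5 • iB (Pi.single 1 1) +
      x 6 • iB (Pi.single 2 1) := by
    apply ext8 <;> simp [o, e1, iA_apply, iB_apply]
  show t x = _
  conv_lhs => rw [hx]
  simp only [map_add, map_smul, hto, hte, htA, htB]
  apply ext8 <;> simp [o, e1, iA_apply, iB_apply, mul_comm]

end Cfsg.Agent.H161.Oct
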