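import Cfsg.Agent.H161.OctDiag

/-!
# A semisimple automorphism of determinant one fixes an idempotent (helper161)
-/

set_option autoImplicit false
set_option linter.unusedSimpArgs false

namespace Cfsg.Agent.H161.Oct

open Cfsg.Lie Module

variable {K : Type*} [Field K]

/-- the trace as a linear map -/
def trL (K : Type*) [Field K] : V K →ₗ[K] K where
  toFun := tr
  map_add' := tr_add
  map_smul' := tr_smul

theorem trL_apply (x : V K) : trL K x = tr x := rfl

/-- the polar form as a bilinear map -/
def blL (K : Type*) [Field K] : V K →ₗ[K] V K →ₗ[K] K :=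
  LinearMap.mk₂ K bl bl_add' bl_smul' bl_add bl_smul

theorem blL_apply (x y : V K) : blL K x y = bl x y := rfl

/-- An isometry of determinant different from one has a nonzero fixed vector. -/
theorem exists_fixed_of_det {T : V K →ₗ[K] V K} (hT : ∀ x y, bl (T x) (T y) = bl x y)
    (hdet : LinearMap.det T ≠ 1) : ∃ v, v ≠ 0 ∧ T v = v := by
  classical
  let S := LinearMap.toMatrix' T
  let G := LinearMap.toMatrix₂' K (blL K)
  have hbl : ∀ x y : V K, bl x y = x ⬝ᵥ (G.mulVec y) := by
    intro x y
    have h1 : Matrix.toLinearMap₂' K G = blL K := Matrix.toLinearMap₂'_toMatrix' (blL K)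
    rw [← blL_apply, ← h1, Matrix.toLinearMap₂'_apply']
  have hS : ∀ x, S.mulVec x = T x := by
    intro x
    rw [← Matrix.toLin'_apply, Matrix.toLin'_toMatrix']
  have hG0 : G.det ≠ 0 := by
    intro h0
    obtain ⟨v, hv, hv0⟩ := Matrix.exists_mulVec_eq_zero_iff.2 h0
    apply hv
    apply eq_zero_of_bl
    intro y
    rw [bl_comm, hbl, hv0, dotProduct_zero]
  have hSG : S.transpose * G * S = G := by
    have h1 : (blL K).compl₁₂ T T = blL K := by
      ext i j
      simp only [LinearMap.comp_apply, LinearMap.compl₁₂_apply, blL_apply, hT]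
    rw [← LinearMap.toMatrix₂'_compl₁₂, h1]
  have hdetS : S.det ≠ 1 := by
    rwa [LinearMap.det_toMatrix'] 
  have h1 : (S - 1).transpose * G * S = -(G * (S - 1)) := by
    rw [Matrix.transpose_sub, Matrix.sub_mul, Matrix.sub_mul, hSG, Matrix.transpose_one,
      Matrix.one_mul, Matrix.mul_sub, Matrix.mul_one]
    abel
  have h2 := congrArg Matrix.det h1
  rw [Matrix.det_mul, Matrix.det_mul, Matrix.det_transpose, Matrix.det_neg, Matrix.det_mul,
    Fintype.card_fin] at h2
  have h3 : (S - 1).det = 0 := by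
    have h4 : (S - 1).det * (G.det * (S.det - 1)) = 0 := by
      linear_combination h2
    rcases mul_eq_zero.1 h4 with h | h
    · exact h
    · rcases mul_eq_zero.1 h with h | h
      · exact absurd h hG0
      · exact absurd (sub_eq_zero.1 h) hdetS
  obtain ⟨v, hv, hv0⟩ := Matrix.exists_mulVec_eq_zero_iff.2 h3
  refine ⟨v, hv, ?_⟩
  rw [Matrix.sub_mulVec, Matrix.one_mulVec, sub_eq_zero, hS] at hv0
  exact hv0

/-! ### Averaging -/

section Avg

variable {s : V K ≃ₗ[K] V K} (hs : s ∈ AutO K) {m : ℕ} (hsm : s ^ m = 1)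

/-- the average (without the factor) -/
def avg (s : V K ≃ₗ[K] V K) (m : ℕ) (y : V K) : V K := ∑ i ∈ Finset.range m, (s ^ i) y

include hsm in
theorem avg_fixed (y : V K) : s (avg s m y) = avg s m y := by
  rw [avg, map_sum]
  have h1 : ∀ i, s ((s ^ i) y) = (s ^ (i + 1)) y := fun i => by
    rw [pow_succ', LinearEquiv.mul_apply]
  simp only [h1]
  have h2 := Finset.sum_range_succ' (fun i => (s ^ i) y) m
  rw [Finset.sum_range_succ, hsm, pow_zero] at h2
  exact (add_right_cancel h2).symm

include hs in
theorem pow_mem_AutO (i : ℕ) : s ^ i ∈ AutO K := (AutO K).pow_mem hs i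

include hs in
theorem tr_avg (y : V K) : tr (avg s m y) = m * tr y := by
  rw [avg, ← trL_apply, map_sum]
  simp only [trL_apply, map_tr (pow_mem_AutO hs _), Finset.sum_const, Finset.card_range,
    nsmul_eq_mul]

theorem pow_fixed {x : V K} (hx : s x = x) (i : ℕ) : (s ^ i) x = x := by
  induction i with
  | zero => simp
  | succ i ih => rw [pow_succ, LinearEquiv.mul_apply, hx, ih]

include hs in
theorem bl_avg {x : V K} (hx : s x = x) (y : V K) : bl x (avg s m y) = m * bl x y := by
  rw [avg, ← blL_apply, map_sum]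
  have h1 : ∀ i, bl x ((s ^ i) y) = bl x y := by
    intro i
    have := map_bl (pow_mem_AutO hs i) x y
    rwa [pow_fixed hx] at this
  simp only [blL_apply, h1, Finset.sum_const, Finset.card_range, nsmul_eq_mul]

end Avg

/-- **A fixed idempotent.** -/
theorem exists_fix_idem [IsAlgClosed K] {s : V K ≃ₗ[K] V K} (hs : s ∈ AutO K) {m : ℕ}
    (hm : (m : K) ≠ 0) (hsm : s ^ m = 1) (hdet : LinearMap.det (s : V K →ₗ[K] V K) = 1) :
    ∃ e : V K, s e = e ∧ tr e = 1 ∧ nm e = 0 := by
  have hso := map_o hs
  by_cases h2 : (2 : K) = 0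
  · -- characteristic two
    have h1 : tr (avg s m e1) = m := by rw [tr_avg hs]; simp [tr, e1]
    set x := (m : K)⁻¹ • avg s m e1 with hx
    have hxt : tr x = 1 := by rw [hx, tr_smul, h1, inv_mul_cancel₀ hm]
    have hxs : s x = x := by rw [hx, map_smul, avg_fixed hsm]
    clear_value x
    obtain ⟨l, hl⟩ : ∃ l : K, l ^ 2 - l + nm x = 0 := by
      obtain ⟨l, hl⟩ := IsAlgClosed.exists_root (Polynomial.X ^ 2 - Polynomial.X + Polynomial.C (nm x))
        (by
          have : (Polynomial.X ^ 2 - Polynomial.X + Polynomial.C (nm x)).degree = 2 := by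
            compute_degree!
          rw [this]; norm_num)
      refine ⟨l, ?_⟩
      simpa [Polynomial.IsRoot] using hl
    refine ⟨x - l • o, ?_, ?_, ?_⟩
    · rw [map_sub, map_smul, hso, hxs]
    · have : x - l • o = x + (-l) • o := by rw [neg_smul]; abel
      rw [this, tr_add, tr_smul, tr_o, hxt, h2]; ring
    · have : x - l • o = x + (-l) • o := by rw [neg_smul]; abel
      rw [this, nm_add, nm_smul, nm_o, bl_smul, bl_o, hxt]
      linear_combination hl
  · -- odd characteristic
    obtain ⟨v, hv0, hv⟩ := exists_fixed_of_det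
      (T := (s : V K →ₗ[K] V K) ∘ₗ LinearMap.transvection (-trL K) o) (by
        intro x y
        simp only [LinearMap.comp_apply, LinearEquiv.coe_coe, LinearMap.transvection.apply,
          LinearMap.neg_apply, trL_apply]
        rw [map_bl hs]
        simp only [bl, tr, Pi.add_apply, Pi.smul_apply, smul_eq_mul, o0, o1, o2, o3, o4, o5, o6, o7]
        ring) (by
        rw [LinearMap.det_comp, hdet, LinearMap.transvection.det, LinearMap.neg_apply, trL_apply,
          tr_o]
        intro h
        apply h2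
        linear_combination -h)
    have hv' : s v - tr v • o = v := by
      have := hv
      simp only [LinearMap.comp_apply, LinearEquiv.coe_coe, LinearMap.transvection.apply,
        LinearMap.neg_apply, trL_apply, map_add, map_smul, hso] at this
      rw [neg_smul, ← sub_eq_add_neg] at this
      exact this
    have htv : tr v = 0 := by
      have := congrArg tr hv'
      have e1 : s v - tr v • o = s v + (-tr v) • o := by rw [neg_smul]; abel
      rw [e1, tr_add, tr_smul, tr_o, map_tr hs] at this
      have h3 : (2 : K) * tr v = 0 := by linear_combination -this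
      rcases mul_eq_zero.1 h3 with h | h
      · exact absurd h h2
      · exact h
    have hsv : s v = v := by
      rw [htv, zero_smul, sub_zero] at hv'
      exact hv'
    -- a vector `u` fixed, of trace 0, with nonzero norm
    obtain ⟨u, hu, hut, hun⟩ : ∃ u : V K, s u = u ∧ tr u = 0 ∧ nm u ≠ 0 := by
      by_cases hnv : nm v = 0
      swap
      · exact ⟨v, hsv, htv, hnv⟩
      obtain ⟨w, hw⟩ : ∃ w, bl v w ≠ 0 := by
        by_contra hcon
        push Not at hcon
        exact hv0 (eq_zero_of_bl hcon)
      set w₇ := w + (-(tr w / 2)) • o with hw₇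
      have e1 : tr w₇ = 0 := by
        rw [hw₇, tr_add, tr_smul, tr_o]; field_simp; ring
      have e2 : bl v w₇ = bl v w := by
        rw [hw₇, bl_add, bl_smul, bl_o, htv]; ring
      set w' := avg s m w₇ with hw'
      have f1 : s w' = w' := avg_fixed hsm _
      have f2 : tr w' = 0 := by rw [hw', tr_avg hs, e1, mul_zero]
      have f3 : bl v w' ≠ 0 := by
        rw [hw', bl_avg hs hsv, e2]
        exact mul_ne_zero hm hw
      by_cases hnw : nm w' = 0
      · refine ⟨v + w', by rw [map_add, hsv, f1], by rw [tr_add, htv, f2, add_zero], ?_⟩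
        rw [nm_add, hnv, hnw, zero_add, zero_add]; exact f3
      · exact ⟨w', f1, f2, hnw⟩
    obtain ⟨d, hd⟩ := IsAlgClosed.exists_pow_nat_eq (-nm u) (n := 2) (by norm_num)
    have hd0 : d ≠ 0 := by
      rintro rfl
      apply hun
      have : -nm u = 0 := by rw [← hd]; ring
      exact neg_eq_zero.1 this
    refine ⟨(2 : K)⁻¹ • o + (2 * d)⁻¹ • u, ?_, ?_, ?_⟩
    · rw [map_add, map_smul, map_smul, hso, hu]
    · rw [tr_add, tr_smul, tr_smul, tr_o, hut, mul_zero, add_zero, inv_mul_cancel₀ h2]
    · rw [nm_add, nm_smul, nm_smul, nm_o, bl_smul, bl_smul', bl_comm o u, bl_o, hut]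
      have : nm u = -d ^ 2 := by rw [hd]; ring
      rw [this]
      field_simp
      ring

/-- **Diagonalization**: an automorphism of determinant one and of order prime to the
characteristic is conjugate by an automorphism to a diagonal matrix. -/
theorem exists_diag [IsAlgClosed K] {s : V K ≃ₗ[K] V K} (hs : s ∈ AutO K) {m : ℕ}
    (hm : (m : K) ≠ 0) (hsm : s ^ m = 1) (hdet : LinearMap.det (s : V K →ₗ[K] V K) = 1) :
    ∃ h ∈ AutO K, ∃ a b c : K, a * b * c = 1 ∧
      ∀ x, (h * s * h⁻¹) x = ![x 0, a * x 1, b * x 2, c * x 3, a⁻¹ * x 4, b⁻¹ * x 5, c⁻¹ * x 6,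
        x 7] := by
  obtain ⟨e, he, ht, hn⟩ := exists_fix_idem hs hm hsm hdet
  obtain ⟨g, hg, hge⟩ := exists_idem ht hn
  have hgi : g⁻¹ e1 = e := by
    rw [← hge]; exact g.symm_apply_apply e
  obtain ⟨h, hh, a, b, c, habc, hx⟩ := exists_diag_of_fix
    (s := g * s * g⁻¹) ((AutO K).mul_mem ((AutO K).mul_mem hg hs) ((AutO K).inv_mem hg)) hm
    (by rw [conj_pow, hsm]; simp) (by
      rw [LinearEquiv.mul_apply, LinearEquiv.mul_apply, hgi, he, hge])
  refine ⟨h * g, (AutO K).mul_mem hh hg, a, b, c, habc, ?_⟩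
  intro x
  rw [← hx, show h * g * s * (h * g)⁻¹ = h * (g * s * g⁻¹) * h⁻¹ by group]

end Cfsg.Agent.H161.Oct
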