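import Mathlib

/-!
# An irreducible cyclic group preserving a nondegenerate pairing (helper161)

`pow_of_form` : `V` finite of order `p ^ n`, `f` an endomorphism without proper invariant subgroups, preserving a
biadditive nondegenerate pairing: then `f ^ (p ^ i + 1) = 1` for some `i < n`.
-/

set_option autoImplicit false
set_option linter.style.haveILetI false

namespace Cfsg.Agent.H161.PalForm

open Polynomial

/-- endomorphisms of a finite field of order `p ^ n` are powers of the Frobenius map -/
theorem frob {K : Type*} [Field K] [Finite K] {p n : ℕ} (hp : p.Prime) (hK : Nat.card K = p ^ n)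
    (σ : K →+* K) : ∃ i < n, ∀ x, σ x = x ^ p ^ i := by
  haveI : Fact p.Prime := ⟨hp⟩
  letI := Fintype.ofFinite K
  obtain ⟨q, hq⟩ := CharP.exists K
  have hqp : q = p := by
    obtain ⟨m, hqprime, hm⟩ := FiniteField.card K q
    rw [← Nat.card_eq_fintype_card, hK] at hm
    have h1 : q ∣ p ^ n := hm ▸ dvd_pow_self q m.ne_zero
    exact (Nat.prime_dvd_prime_iff_eq hqprime hp).1 (hqprime.dvd_of_dvd_pow h1)
  subst hqp
  letI := ZMod.algebra K q
  have hn : Module.finrank (ZMod q) K = n := by
    have h1 := Module.natCard_eq_pow_finrank (K := ZMod q) (V := K)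
    rw [hK, Nat.card_zmod] at h1
    exact (Nat.pow_right_injective hp.two_le h1).symm
  have hcomm : ∀ r : ZMod q, σ (algebraMap (ZMod q) K r) = algebraMap (ZMod q) K r := fun r =>
    RingHom.congr_fun (Subsingleton.elim (σ.comp (algebraMap (ZMod q) K)) (algebraMap (ZMod q) K)) r
  let τ : K →ₐ[ZMod q] K := { σ with commutes' := hcomm }
  have hbij : Function.Bijective τ := Finite.injective_iff_bijective.1 τ.toRingHom.injective
  obtain ⟨i, hi⟩ := (FiniteField.bijective_frobeniusAlgEquivOfAlgebraic_pow (ZMod q) K).2 (AlgEquiv.ofBijective τ hbij)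
  refine ⟨i.1, hn ▸ i.2, fun x => ?_⟩
  have h1 := congrArg (fun e : K ≃ₐ[ZMod q] K => e x) hi
  have h2 : (AlgEquiv.ofBijective τ hbij) x = σ x := rfl
  simp only [h2] at h1
  rw [← h1]
  have h3 : ∀ k : ℕ, ((FiniteField.frobeniusAlgEquivOfAlgebraic (ZMod q) K) ^ k) x = x ^ q ^ k := by
    intro k
    induction k with
    | zero => simp
    | succ k ih =>
      rw [pow_succ', AlgEquiv.mul_apply, ih]
      simp [FiniteField.frobeniusAlgEquivOfAlgebraic, ← pow_mul, pow_succ]
  exact h3 _

theorem pow_of_form {V : Type*} [AddCommGroup V] [Finite V] {p n : ℕ} (hp : p.Prime) (hn : 0 < n)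
    (hV : Nat.card V = p ^ n) (f : AddMonoid.End V)
    (hirr : ∀ Y : AddSubgroup V, (∀ y ∈ Y, f y ∈ Y) → Y = ⊥ ∨ Y = ⊤)
    {A : Type*} [AddCommGroup A] (B : V →+ V →+ A) (hB : ∀ v w, B (f v) (f w) = B v w)
    (hl : ∀ v, (∀ w, B v w = 0) → v = 0) (hr : ∀ w, (∀ v, B v w = 0) → w = 0) :
    ∃ i < n, ∀ v, (f ^ (p ^ i + 1)) v = v := by
  classical
  have : Nontrivial V := by
    rw [← Finite.one_lt_card_iff_nontrivial, hV]
    exact Nat.one_lt_pow hn.ne' hp.one_lt
  -- `f` is bijective
  have hinj : Function.Injective f := by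
    rw [injective_iff_map_eq_zero]
    intro v hv
    apply hl
    intro w
    rw [← hB, hv, map_zero]
    rfl
  -- finite order
  have hfin : Finite (AddMonoid.End V) := Finite.of_injective (fun e => (e : V → V)) DFunLike.coe_injective
  obtain ⟨m, hm⟩ : ∃ m : ℕ, f ^ (m + 1) = 1 := by
    obtain ⟨a, b, hab, h⟩ := Finite.exists_ne_map_eq_of_infinite (fun k : ℕ => f ^ k)
    wlog hlt : a < b generalizing a b
    · exact this b a hab.symm h.symm (lt_of_le_of_ne (not_lt.1 hlt) hab.symm)
    refine ⟨b - a - 1, ?_⟩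
    have e : b - a - 1 + 1 = b - a := by omega
    rw [e]
    have hk : ∀ k : ℕ, Function.Injective (f ^ k) := by
      intro k
      induction k with
      | zero => intro x y h; exact h
      | succ k ih =>
        rw [pow_succ]
        exact ih.comp hinj
    ext v
    apply hk a
    have h1 : (f ^ a) ((f ^ (b - a)) v) = (f ^ b) v := by
      change (f ^ a * f ^ (b - a)) v = (f ^ b) v
      rw [← pow_add]
      congr 2
      omega
    have h3 : (fun k : ℕ => f ^ k) a = f ^ a := rfl
    rw [h1]
    change (f ^ b) v = (f ^ a) v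
    exact congrArg (fun e : AddMonoid.End V => e v) h.symm
  let φ : ℤ[X] →+* AddMonoid.End V := (Polynomial.aeval f : ℤ[X] →ₐ[ℤ] AddMonoid.End V).toRingHom
  have hφX : φ X = f := Polynomial.aeval_X f
  have hφC : ∀ a b : ℤ[X], φ a * φ b = φ b * φ a := fun a b => by rw [← map_mul, mul_comm, map_mul]
  let I : Ideal ℤ[X] := RingHom.ker φ
  have hI : ∀ a, a ∈ I ↔ φ a = 0 := fun a => RingHom.mem_ker
  have hker : ∀ a, a ∉ I → Function.Injective (φ a) := by
    intro a ha
    rw [injective_iff_map_eq_zero]
    let Y : AddSubgroup V :=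
      { carrier := {y | (φ a) y = 0}
        zero_mem' := map_zero (φ a)
        add_mem' := by
          intro x y hx hy
          change (φ a) (x + y) = 0
          have hx' : (φ a) x = 0 := hx
          have hy' : (φ a) y = 0 := hy
          rw [map_add, hx', hy', add_zero]
        neg_mem' := by
          intro x hx
          change (φ a) (-x) = 0
          have hx' : (φ a) x = 0 := hx
          rw [map_neg, hx', neg_zero] }
    have hY : ∀ y, y ∈ Y ↔ (φ a) y = 0 := fun y => Iff.rfl
    have h1 := hirr Y (fun y hy => by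
      rw [hY] at hy ⊢
      have h2 : (φ a * φ X) y = (φ X * φ a) y := by rw [hφC]
      rw [hφX] at h2
      have h3 : (φ a) (f y) = f ((φ a) y) := h2
      rw [h3, hy, map_zero])
    rcases h1 with h1 | h1
    · intro v hv
      have : v ∈ Y := hv
      rwa [h1, AddSubgroup.mem_bot] at this
    · exfalso
      apply ha
      rw [hI]
      ext v
      have : v ∈ Y := by rw [h1]; trivial
      exact this
  have hne : I ≠ ⊤ := by
    intro h
    have h1 : (1 : ℤ[X]) ∈ I := by rw [h]; trivial
    rw [hI, map_one] at h1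
    obtain ⟨v, hv⟩ := exists_ne (0 : V)
    exact hv (congrArg (fun e : AddMonoid.End V => e v) h1)
  have hprime : I.IsPrime := by
    refine ⟨hne, fun {a b} hab => ?_⟩
    by_cases ha : a ∈ I
    · exact Or.inl ha
    · right
      rw [hI] at hab ⊢
      rw [map_mul] at hab
      ext v
      apply hker a ha
      change (φ a) ((φ b) v) = (φ a) 0
      rw [map_zero]
      exact congrArg (fun e : AddMonoid.End V => e v) hab
  -- the field
  have hKfin : Finite (ℤ[X] ⧸ I) := Finite.of_injective (RingHom.kerLift φ) (RingHom.kerLift_injective φ)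
  letI : Field (ℤ[X] ⧸ I) := (Finite.isField_of_domain (ℤ[X] ⧸ I)).toField
  have hcard : Nat.card (ℤ[X] ⧸ I) = p ^ n := by
    rw [← hV]
    obtain ⟨v, hv⟩ := exists_ne (0 : V)
    let e : (ℤ[X] ⧸ I) → V := fun a => (RingHom.kerLift φ a) v
    have he : ∀ a : ℤ[X], e (Ideal.Quotient.mk I a) = (φ a) v := fun a => rfl
    refine Nat.card_congr (Equiv.ofBijective e ⟨?_, ?_⟩)
    · intro a b hab
      obtain ⟨a, rfl⟩ := Ideal.Quotient.mk_surjective a
      obtain ⟨b, rfl⟩ := Ideal.Quotient.mk_surjective b
      rw [he, he] at hab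
      rw [Ideal.Quotient.eq]
      by_contra hcon
      have h1 := hker _ hcon
      apply hv
      apply h1
      rw [map_zero, map_sub]
      change (φ a) v - (φ b) v = 0
      rw [hab, sub_self]
    · intro w
      let Y : AddSubgroup V :=
        { carrier := {w | ∃ a : ℤ[X], (φ a) v = w}
          zero_mem' := ⟨0, by rw [map_zero]; rfl⟩
          add_mem' := by
            rintro _ _ ⟨a, rfl⟩ ⟨b, rfl⟩
            exact ⟨a + b, by rw [map_add]; rfl⟩
          neg_mem' := by
            rintro _ ⟨a, rfl⟩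
            exact ⟨-a, by rw [map_neg]; rfl⟩ }
      have h1 := hirr Y (by
        rintro _ ⟨a, rfl⟩
        refine ⟨X * a, ?_⟩
        rw [map_mul, hφX]
        rfl)
      rcases h1 with h1 | h1
      · exfalso
        have h2 : v ∈ Y := ⟨1, by rw [map_one]; rfl⟩
        rw [h1, AddSubgroup.mem_bot] at h2
        exact hv h2
      · have h2 : w ∈ Y := by rw [h1]; trivial
        obtain ⟨a, ha⟩ := h2
        exact ⟨Ideal.Quotient.mk I a, (he a).trans ha⟩
  -- the adjoint
  have hBm : ∀ v w, B (f v) w = B v ((f ^ m) w) := by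
    intro v w
    rw [← hB v]
    congr 1
    have h1 : (f * f ^ m) w = w := by
      rw [← pow_succ', hm]
      rfl
    exact h1.symm
  have hadj : ∀ a : ℤ[X], ∀ v w, B ((φ a) v) w = B v ((Polynomial.aeval (f ^ m) a : AddMonoid.End V) w) := by
    intro a
    induction a using Polynomial.induction_on' with
    | add a b ha hb =>
      intro v w
      rw [map_add, map_add]
      change B ((φ a) v + (φ b) v) w = B v ((Polynomial.aeval (f ^ m) a : AddMonoid.End V) w +
        (Polynomial.aeval (f ^ m) b : AddMonoid.End V) w)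
      rw [map_add, map_add, AddMonoidHom.add_apply, ha, hb]
    | monomial k c =>
      have hk : ∀ (k : ℕ) (v w : V), B ((f ^ k) v) w = B v (((f ^ m) ^ k) w) := by
        intro k
        induction k with
        | zero => intro v w; rfl
        | succ k ih =>
          intro v w
          have h1 : (f ^ (k + 1)) v = (f ^ k) (f v) := by rw [pow_succ]; rfl
          have h2 : ((f ^ m) ^ (k + 1)) w = (f ^ m) (((f ^ m) ^ k) w) := by rw [pow_succ']; rfl
          rw [h1, ih, hBm, h2]
      intro v w
      have h1 : φ (Polynomial.monomial k c) = c • f ^ k := by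
        change (Polynomial.aeval f) (Polynomial.monomial k c) = _
        rw [Polynomial.aeval_monomial, Algebra.smul_def]
      have h2 : (Polynomial.aeval (f ^ m) (Polynomial.monomial k c) : AddMonoid.End V) = c • (f ^ m) ^ k := by
        rw [Polynomial.aeval_monomial, Algebra.smul_def]
      rw [h1, h2]
      change B (c • ((f ^ k) v)) w = B v (c • (((f ^ m) ^ k) w))
      rw [map_zsmul, map_zsmul, AddMonoidHom.zsmul_apply, hk]
  let θ : ℤ[X] →+* (ℤ[X] ⧸ I) := (Ideal.Quotient.mk I).comp (Polynomial.compRingHom (X ^ m : ℤ[X]))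
  have hθ : ∀ a, a ∈ I → θ a = 0 := by
    intro a ha
    change Ideal.Quotient.mk I (a.comp (X ^ m)) = 0
    rw [Ideal.Quotient.eq_zero_iff_mem, hI]
    rw [hI] at ha
    have h1 : φ (a.comp (X ^ m)) = (Polynomial.aeval (f ^ m) a : AddMonoid.End V) := by
      change Polynomial.aeval f (a.comp (X ^ m)) = _
      rw [Polynomial.aeval_comp, map_pow, Polynomial.aeval_X]
    rw [h1]
    ext w
    apply hr
    intro v
    rw [← hadj, ha]
    change B 0 w = 0
    rw [map_zero]
    rfl
  let σ : (ℤ[X] ⧸ I) →+* (ℤ[X] ⧸ I) := Ideal.Quotient.lift I θ hθ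
  obtain ⟨i, hi, hσ⟩ := frob hp hcard σ
  refine ⟨i, hi, ?_⟩
  have h1 := hσ (Ideal.Quotient.mk I X)
  have h2 : σ (Ideal.Quotient.mk I X) = (Ideal.Quotient.mk I X) ^ m := by
    change θ X = _
    change Ideal.Quotient.mk I (X.comp (X ^ m)) = _
    rw [Polynomial.X_comp, map_pow]
  rw [h2, ← map_pow, ← map_pow, Ideal.Quotient.eq, hI, map_sub, map_pow, map_pow, hφX, sub_eq_zero] at h1
  intro v
  have h3 : f ^ (p ^ i + 1) = 1 := by
    rw [pow_succ, ← h1, ← pow_succ, hm]
  rw [h3]
  rfl

end Cfsg.Agent.H161.PalForm
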