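import Cfsg.Agent.H161.Avoid

/-!
# Peeling off a vector and a functional (Schur complement)

For `S : V → V`, `φ v = 1 = φ (S v)` the map `w ↦ S w - φ (S w) S v` on `ker φ` is the Schur
complement; it has the same determinant as `S`, and a factorization of it into two unipotent
factors gives one of `S`.
-/

set_option autoImplicit false

namespace Cfsg.Agent.H161.Peel

open Module

variable {K : Type*} {V : Type*} [Field K] [AddCommGroup V] [Module K V]

/-- The Schur complement of `S` at `(v, φ)`. -/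
def peel (S : V →ₗ[K] V) (v : V) (φ : V →ₗ[K] K) (h1 : φ (S v) = 1) :
    LinearMap.ker φ →ₗ[K] LinearMap.ker φ where
  toFun w := ⟨S w - φ (S w) • S v, by
    rw [LinearMap.mem_ker, map_sub, map_smul, h1]; simp⟩
  map_add' a b := by
    ext; simp only [Submodule.coe_add, map_add, add_smul]; abel
  map_smul' c a := by
    ext; simp only [Submodule.coe_smul, map_smul, smul_eq_mul, RingHom.id_apply, mul_smul,
      smul_sub]

theorem coe_peel (S : V →ₗ[K] V) (v : V) (φ : V →ₗ[K] K) (h1 : φ (S v) = 1)
    (w : LinearMap.ker φ) : (peel S v φ h1 w : V) = S w - φ (S w) • S v := rfl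

/-- projection to the kernel along `v` -/
def proj (v : V) (φ : V →ₗ[K] K) (h : φ v = 1) : V →ₗ[K] LinearMap.ker φ where
  toFun z := ⟨z - φ z • v, by rw [LinearMap.mem_ker, map_sub, map_smul, h]; simp⟩
  map_add' a b := by
    ext; simp only [Submodule.coe_add, map_add, add_smul]; abel
  map_smul' c a := by
    ext; simp only [Submodule.coe_smul, map_smul, smul_eq_mul, RingHom.id_apply, mul_smul,
      smul_sub]

theorem coe_proj (v : V) (φ : V →ₗ[K] K) (h : φ v = 1) (z : V) :
    (proj v φ h z : V) = z - φ z • v := rfl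

theorem proj_coe (v : V) (φ : V →ₗ[K] K) (h : φ v = 1) (w : LinearMap.ker φ) :
    proj v φ h w = w := by
  ext
  rw [coe_proj, show φ (w : V) = 0 from w.2]; simp

theorem proj_self (v : V) (φ : V →ₗ[K] K) (h : φ v = 1) : proj v φ h v = 0 := by
  ext
  rw [coe_proj, h]; simp

/-- The decomposition `V = K v ⊕ ker φ`. -/
def split (v : V) (φ : V →ₗ[K] K) (h : φ v = 1) : (K × LinearMap.ker φ) ≃ₗ[K] V where
  toFun p := p.1 • v + (p.2 : V)
  map_add' a b := by simp only [Prod.fst_add, Prod.snd_add, Submodule.coe_add, add_smul]; abel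
  map_smul' c a := by simp only [Prod.smul_fst, Prod.smul_snd, Submodule.coe_smul, smul_add,
    smul_eq_mul, mul_smul, RingHom.id_apply]
  invFun z := (φ z, proj v φ h z)
  left_inv p := by
    ext
    · simp [h, show φ (p.2 : V) = 0 from p.2.2]
    · simp only [map_add, map_smul, proj_self, proj_coe]
      simp
  right_inv z := by simp [coe_proj]

/-- the map `1 ⊕ S'` on `V`. -/
def ext (v : V) (φ : V →ₗ[K] K) (h : φ v = 1) (T : LinearMap.ker φ →ₗ[K] LinearMap.ker φ) :
    V →ₗ[K] V :=
  φ.smulRight v + (LinearMap.ker φ).subtype ∘ₗ T ∘ₗ proj v φ h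

theorem ext_apply (v : V) (φ : V →ₗ[K] K) (h : φ v = 1)
    (T : LinearMap.ker φ →ₗ[K] LinearMap.ker φ) (z : V) :
    ext v φ h T z = φ z • v + (T (proj v φ h z) : V) := rfl

theorem det_ext [FiniteDimensional K V] (v : V) (φ : V →ₗ[K] K) (h : φ v = 1)
    (T : LinearMap.ker φ →ₗ[K] LinearMap.ker φ) :
    LinearMap.det (ext v φ h T) = LinearMap.det T := by
  have h1 : ext v φ h T = (split v φ h : (K × LinearMap.ker φ) →ₗ[K] V) ∘ₗ
      (LinearMap.prodMap (LinearMap.id) T) ∘ₗ ((split v φ h).symm : V →ₗ[K] (K × LinearMap.ker φ)) := by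
    ext z
    rfl
  rw [h1, LinearMap.det_conj, LinearMap.det_prodMap, LinearMap.det_id, one_mul]

theorem factor (S : V →ₗ[K] V) (v : V) (φ : V →ₗ[K] K) (h : φ v = 1) (h1 : φ (S v) = 1) :
    S = LinearMap.transvection φ (S v - v) ∘ₗ ext v φ h (peel S v φ h1) ∘ₗ
      LinearMap.transvection (φ ∘ₗ S - φ) v := by
  ext z
  simp only [LinearMap.comp_apply, LinearMap.transvection.apply, ext_apply]
  have hz : proj v φ h (z + (φ ∘ₗ S - φ) z • v) = proj v φ h z := by
    rw [map_add, map_smul, proj_self, smul_zero, add_zero]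
  have hp : φ ((peel S v φ h1 (proj v φ h z) : LinearMap.ker φ) : V) = 0 :=
      (peel S v φ h1 (proj v φ h z)).2
  rw [hz, map_add φ (_ • v), hp]
  simp only [map_add, map_smul, h, LinearMap.sub_apply, LinearMap.comp_apply,
    coe_peel, coe_proj, map_sub, h1, smul_eq_mul, mul_one]
  simp only [add_zero, add_sub_cancel, smul_sub, sub_smul]
  abel

theorem det_peel [FiniteDimensional K V] (S : V →ₗ[K] V) (v : V) (φ : V →ₗ[K] K) (h : φ v = 1)
    (h1 : φ (S v) = 1) : LinearMap.det (peel S v φ h1) = LinearMap.det S := by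
  have h2 := congrArg LinearMap.det (factor S v φ h h1)
  rw [LinearMap.det_comp, LinearMap.det_comp, LinearMap.transvection.det,
    LinearMap.transvection.det, det_ext] at h2
  rw [h2]
  simp [h, h1]

end Cfsg.Agent.H161.Peel
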