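import Cfsg.Agent.H609.TH.Expl
import Cfsg.Agent.H609.TH.Frat
import Cfsg.Agent.OrdDiv.Table
import Cfsg.Agent.H123.SporSimple
import Cfsg.Agent.NotCT.Orders
import Cfsg.Agent.H537.CopSC

/-!
# S3938: the row of `M₂₄` (helper161)

`r = 23`, `s` of order `23`. At the top of the proper overgroups of `s` there are only `L₂(23)` (at most one over `s`,
`|C(11)| = 11`) and `M₂₃` (at most one over `s`: two of them meet in a subgroup of index `≤ 24` of `M₂₃` which contains `s`).
-/

set_option autoImplicit false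

namespace Cfsg.Agent.H161.SprM24

open Subgroup Cfsg Cfsg.Agent.OrdDiv Cfsg.Agent.H257.El Cfsg.Agent.H424.Spr Cfsg.Agent.H609.TH

/-- the factorisation of `|M₂₄|` -/
def l24 : List (ℕ × ℕ) := [(2,10),(3,3),(5,1),(7,1),(11,1),(23,1)]

/-- the factorisation of `|M₂₃|` -/
def l23 : List (ℕ × ℕ) := [(2,7),(3,2),(5,1),(7,1),(11,1),(23,1)]

theorem surv24 : surv 244823040 l24 23 [] = [Grp.psl 2 23, Grp.m23] := by decide +kernel

theorem surv23 : surv 10200960 l23 23 [] = [Grp.psl 2 23] := by decide +kernel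

/-- the subgroups of `M₂₃` containing an element of order `23` -/
theorem le_of_m23 (known : Known.{0}) {N : Type} [Group N] [Finite N] (hN : Nat.card N = 10200960)
    (hsc : Cfsg.Agent.H537.Cop.SC 23 N) {s : N} (hs : orderOf s = 23) {D : Subgroup N} (hsD : s ∈ D) (hD : D ≠ ⊤) :
    Nat.card D < 425040 := by
  have hv : valid l23 10200960 = true := by decide +kernel
  have hr : Nat.Prime 23 := by norm_num
  have hfree : Free 23 N := free_of_sc hN hv hr hsc (by decide +kernel)
  have h2 : ¬ 23 ^ 2 ∣ (10200960 : ℕ) := by norm_num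
  have h2' : ¬ 23 ^ 2 ∣ Nat.card N := by rw [hN]; exact h2
  rcases cases table known hN hv hr h2 hfree hs hD hsD with h | ⟨M, hM⟩
  · have h3 := (card_norm_mod hr h2' (by rw [hN]; norm_num) (hsc s hs)).1
    rw [hN] at h3
    have h4 := Nat.le_of_dvd (by rw [h3]; norm_num) (card_dvd_of_le h)
    rw [h3] at h4
    norm_num at h4
    omega
  · have h3 := (hM.index_mul_dvd hr h2' (by rw [hN]; norm_num) hsc hs).1
    obtain ⟨g, hg, -, hc⟩ := hM.real
    rw [surv23, List.mem_singleton] at hg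
    subst hg
    have h5 : ordN (Grp.psl 2 23) = 6072 := by decide +kernel
    rw [hc, h5, hN] at h3
    have h4 := Nat.le_of_dvd (by norm_num) h3
    norm_num at h4
    omega

theorem spr_m24 (known : Known.{0}) {T : Type} [Group T] [Finite T] (h : Spor.IsoM24 T) : Spr T := by
  have hn : Nat.card T = 244823040 := Cfsg.Agent.NotCT.Orders.m24 h
  have hsim : IsSimpleGroup T := Cfsg.Agent.H123.SporSimple.spor_simple (by
    unfold IsSporadicGroup
    tauto)
  have hsc : Cfsg.Agent.H537.Cop.SC 23 T := Cfsg.Agent.H537.Cop.m24_23 h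
  have hsc11 : Cfsg.Agent.H537.Cop.SC 11 T := Cfsg.Agent.H537.Cop.m24_11 h
  have hna := exists_not_comm hn (by norm_num)
  have hv : valid l24 244823040 = true := by decide +kernel
  have hr : Nat.Prime 23 := by norm_num
  have hfree : Free 23 T := free_of_sc hn hv hr hsc (by decide +kernel)
  have h2 : ¬ 23 ^ 2 ∣ (244823040 : ℕ) := by norm_num
  have h2' : ¬ 23 ^ 2 ∣ Nat.card T := by rw [hn]; exact h2
  obtain ⟨s, hs⟩ := exists_of_order (T := T) hr (by rw [hn]; norm_num)
  -- the two types of tops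
  have hreal : ∀ K N : Subgroup T, IsTop T 244823040 l24 23 s K N → IsLTwo 23 s N ∨ Nat.card N = 10200960 := by
    intro K N hN
    obtain ⟨g, hg, hgr, hc⟩ := hN.real
    rw [surv24, List.mem_cons, List.mem_singleton] at hg
    rcases hg with rfl | rfl
    · exact Or.inl ⟨hN.mem, hgr⟩
    · right
      rw [hc]
      decide +kernel
  -- uniqueness of `L₂(23)`
  have hu1 : ∀ N N' : Subgroup T, IsLTwo 23 s N → IsLTwo 23 s N' → N = N' := by
    classical
    intro N N' hN hN'
    by_contra hne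
    rcases ltwo_count hr (by norm_num) h2' hsc hs (NN := {N, N'}) (fun X hX => by
      rcases Finset.mem_insert.1 hX with rfl | hX
      · exact hN
      · rw [Finset.mem_singleton.1 hX]
        exact hN') with h3 | ⟨a, t, ha, -, ht, h3⟩
    · exact absurd h3 (Finset.insert_ne_empty _ _)
    · rw [Finset.card_pair hne, hsc11 a (by rw [ha])] at h3
      norm_num at h3
  -- uniqueness of `M₂₃`
  have hu2 : ∀ N N' : Subgroup T, s ∈ N → s ∈ N' → Nat.card N = 10200960 → Nat.card N' = 10200960 → N = N' := by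
    intro N N' hsN hsN' hN hN'
    by_contra hne
    have hD : N'.subgroupOf N ≠ ⊤ := by
      intro h3
      have h4 : N ≤ N' := subgroupOf_eq_top.1 h3
      exact hne (eq_of_le_of_card_ge h4 (by rw [hN, hN']))
    have h3 := le_of_m23 known (N := N) hN (sc_sub hr hsc N) (s := ⟨s, hsN⟩)
      (by rw [Subgroup.orderOf_mk, hs]) (D := N'.subgroupOf N) (mem_subgroupOf.2 hsN') hD
    have h4 : Nat.card (N'.subgroupOf N) * (N'.subgroupOf N).index = 10200960 := by
      rw [Subgroup.card_mul_index, hN]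
    have h5 : N'.index = 24 := by
      have h6 := N'.card_mul_index
      rw [hN', hn] at h6
      omega
    have h6 : (N'.subgroupOf N).index ≤ 24 := by
      rw [← h5]
      have h7 := Subgroup.relIndex_le_of_le_right (H := N') (K := N) (L := ⊤) le_top
        (by rw [Subgroup.relIndex_top_right, h5]; norm_num)
      rwa [Subgroup.relIndex_top_right] at h7
    have h7 : Nat.card (N'.subgroupOf N) * (N'.subgroupOf N).index ≤ 425039 * 24 :=
      Nat.mul_le_mul (by omega) h6
    omega
  by_cases hex : (∃ K N : Subgroup T, K ≠ ⊤ ∧ IsTop T 244823040 l24 23 s K N ∧ IsLTwo 23 s N) ∧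
      (∃ K N : Subgroup T, K ≠ ⊤ ∧ IsTop T 244823040 l24 23 s K N ∧ Nat.card N = 10200960)
  · obtain ⟨⟨K₂, N₂, hK₂, hN₂, hc₂⟩, ⟨K₁, N₁, hK₁, hN₁, hc₁⟩⟩ := hex
    refine spr_of_two_tops table known hna hn hv hr h2 hfree hs (N₁ := N₁) (N₂ := N₂) ⟨K₁, hK₁, hN₁⟩ ⟨K₂, hK₂, hN₂⟩
      (fun K N hK hN => ?_) ?_
    · rcases hreal K N hN with h3 | h3
      · exact Or.inr (hu1 _ _ h3 hc₂)
      · exact Or.inl (hu2 _ _ hN.mem hN₁.mem h3 hc₁)
    · refine (hN₁.norm_le hr h2' (by rw [hn]; norm_num) hsc hs ?_).trans le_normalizer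
      rw [hc₁, hn]
  · refine spr_of_uniq hna (uniq_of_unique table known hn hv hr h2 (by norm_num) hfree hs
      fun K N K' N' hK hK' hN hN' => ?_)
    rcases hreal K N hN with h3 | h3 <;> rcases hreal K' N' hN' with h4 | h4
    · exact hu1 _ _ h3 h4
    · exact absurd ⟨⟨K, N, hK, hN, h3⟩, ⟨K', N', hK', hN', h4⟩⟩ hex
    · exact absurd ⟨⟨K', N', hK', hN', h4⟩, ⟨K, N, hK, hN, h3⟩⟩ hex
    · exact hu2 _ _ hN.mem hN'.mem h3 h4

end Cfsg.Agent.H161.SprM24
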