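import Cfsg.Agent.H445.Rows
import Cfsg.Agent.H445.Comp
import Cfsg.Agent.GH.L2AutF
import Cfsg.Agent.WeakTI.Four6
import Cfsg.Agent.Lib.PSL2Circle

/-!
# S3223: the row `PSL(2, q)`, `q` odd
-/

set_option autoImplicit false
set_option linter.unusedSectionVars false

namespace Cfsg.Agent.H161.TCPsl2

open Subgroup Cfsg.Agent.H445 Cfsg.Agent.GH.L2Aut Cfsg.Agent.Lib.SL2Mat Cfsg.Agent.Lib.AutSL2

section rep

variable {F : Type*} [Field F] [Finite F] {L : Type*} [Group L] (R : GH.L2Aut.Rep F L)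

theorem up_pow (b : F) (n : ℕ) : up b ^ n = up ((n : F) * b) := by
  induction n with
  | zero => rw [pow_zero, Nat.cast_zero, zero_mul, up_zero]
  | succ n ih =>
    rw [pow_succ, ih, up_mul]
    congr 1
    push_cast
    ring

include R in
/-- a pair `TC P α` in `PSL(2, q)`, `q` odd -/
theorem tc_inner (hL : ¬ TwoClosed L) {P : Subgroup L} {α : MulAut L} (h : TC P α) :
    ∃ z w : L, z ∈ P ∧ w ∈ P ∧ Four z w ∧ α = MulAut.conj z := by
  have := R.finite
  obtain ⟨S, rfl⟩ := h.sylow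
  have hα2 : α * α = 1 := MulEquiv.ext h.sq
  obtain ⟨a, b, ha, hb, hab⟩ := R.exists_four_mem S
  by_cases hα : α ∈ R.PGL
  · rcases R.fix_four hab hα (h.fix a ha) (h.fix b hb) with h1 | h1 | h1 | h1
    · exfalso
      obtain ⟨x, hx⟩ := h.ne_one hL
      exact hx (by rw [h1]; rfl)
    · exact ⟨a, b, ha, hb, hab, h1⟩
    · exact ⟨b, a, hb, ha, hab.symm, h1⟩
    · exact ⟨a * b, a, mul_mem ha hb, ha, hab.right.symm, h1⟩
  · exfalso
    obtain ⟨R', -, -, hfa, -⟩ := R.ftype_rep hα hα2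
    obtain ⟨d, r, hd⟩ := R.exists_dih S
    have hdd := R.ftype_dd hα hα2 S hd
    obtain ⟨p, hp⟩ := CharP.exists F
    have hpf : p.Prime := CharP.char_is_prime F p
    have hpo : Odd p := by
      refine hpf.odd_of_ne_two ?_
      rintro rfl
      exact R.two (by exact_mod_cast CharP.cast_eq_zero F 2)
    have hu : α (R'.π (up 1)) = R'.π (up 1) := by
      rw [hfa, R'.fa_apply, fieldAut_up, map_one]
    have huS : R'.π (up 1) ∈ (S : Subgroup L) :=
      R.norm_syl S hd hdd (fun s hs => (mem_normalizer_iff.1 (h.nor _ hu) s).1 hs)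
    have hu1 : R'.π (up 1) = 1 := by
      refine (two_of_mem S.isPGroup' huS).eq_one hpo ?_
      rw [← map_pow, up_pow, CharP.cast_eq_zero, zero_mul, up_zero, map_one]
    rcases (R'.ker _).1 hu1 with h1 | h1
    · have h2 := congrArg (fun x => ent x 0 1) h1
      simp only [up_01, ent_one_01] at h2
      exact one_ne_zero h2
    · have h2 := congrArg (fun x => ent x 0 1) h1
      have hn : ent (-1 : Matrix.SpecialLinearGroup (Fin 2) F) 0 1 = 0 := by
        show ((-1 : Matrix.SpecialLinearGroup (Fin 2) F) : Matrix (Fin 2) (Fin 2) F) 0 1 = 0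
        simp
      simp only [up_01, hn] at h2
      exact one_ne_zero h2

include R in
/-- the centralizer of `z` is a 2-group -/
theorem cent_two {P : Subgroup L} {z w : L} (hzw : Four z w)
    (h : TC P (MulAut.conj z)) : IsPGroup 2 (centralizer ({z} : Set L)) := by
  have := R.finite
  have hfix : ∀ x, x * z = z * x → MulAut.conj z x = x := by
    intro x hx
    rw [MulAut.conj_apply, ← hx, mul_inv_cancel_right]
  obtain ⟨B, hzB, hBc, hBi, hcov⟩ := R.inner_cent hzw.aa hzw.a1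
  -- `w` inverts `B`
  have hwB : w ∉ B := by
    intro hwB
    rcases hBi w hwB hzw.bb with h1 | h1
    · exact hzw.b1 h1
    · exact hzw.ne h1.symm
  have hwinv : ∀ y ∈ B, w * y * w⁻¹ = y⁻¹ := by
    rcases hcov w hzw.comm.symm with h1 | h1
    · exact absurd h1 hwB
    · exact h1.2
  have hB : ∀ y ∈ B, Two y := by
    intro y hy
    obtain ⟨k, m, hm, hk⟩ := Nat.exists_eq_two_pow_mul_odd (orderOf_pos y).ne'
    refine ⟨k, ?_⟩
    have hyk : y ^ 2 ^ k ∈ B := pow_mem hy _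
    refine h.eq_one_of_inv (hfix w hzw.comm.symm) ⟨1, by rw [pow_one, pow_two, hzw.bb]⟩
      (hfix _ (hBc _ hyk _ hzB)) (hwinv _ hyk) hm ?_
    rw [← pow_mul, ← hk, pow_orderOf_eq_one]
  rintro ⟨x, hx⟩
  rw [mem_centralizer_singleton_iff] at hx
  rcases hcov x hx with h1 | h1
  · obtain ⟨k, hk⟩ := hB x h1
    exact ⟨k, Subtype.ext hk⟩
  · exact ⟨1, Subtype.ext (by
      show x ^ 2 ^ 1 = 1
      rw [pow_one, pow_two, h1.1])⟩

end rep

theorem row_l2odd {F : Type} [Field F] [Fintype F] (ho : Odd (Fintype.card F)) (h3 : 3 < Fintype.card F) :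
    NoTC (Matrix.ProjectiveSpecialLinearGroup (Fin 2) F) ∨
      (LRow (Matrix.ProjectiveSpecialLinearGroup (Fin 2) F) ∧
        ∃ n : ℕ, Fintype.card F = 2 ^ n + 1 ∨ Fintype.card F + 1 = 2 ^ n) := by
  have h2 := Cfsg.Agent.ClassicalGeometry.SLTwoFour.two_ne_zero_of_odd ho
  obtain ⟨R⟩ : Nonempty (GH.L2Aut.Rep F (Matrix.ProjectiveSpecialLinearGroup (Fin 2) F)) := ⟨GH.L2Aut.Rep.ofEquiv h2 (MulEquiv.refl _)⟩
  have hfin := R.finite
  have hs : IsSimpleGroup (Matrix.ProjectiveSpecialLinearGroup (Fin 2) F) :=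
    Matrix.ProjectiveSpecialLinearGroup.rank_two_simple (by rw [Nat.card_eq_fintype_card]; omega)
  obtain ⟨S⟩ : Nonempty (Sylow 2 (Matrix.ProjectiveSpecialLinearGroup (Fin 2) F)) := inferInstance
  obtain ⟨a, b, -, -, hab⟩ := R.exists_four_mem S
  have hna : ¬ IsMulCommutative (Matrix.ProjectiveSpecialLinearGroup (Fin 2) F) := by
    intro h
    have h1 : a ∈ center (Matrix.ProjectiveSpecialLinearGroup (Fin 2) F) := mem_center_iff.2 fun g => h.1.1 g a
    rw [R.center_eq_bot, mem_bot] at h1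
    exact hab.a1 h1
  have hL := not_twoClosed_of_simple hna
  by_cases hno : NoTC (Matrix.ProjectiveSpecialLinearGroup (Fin 2) F)
  · exact Or.inl hno
  right
  have hfour : ∀ z w : Matrix.ProjectiveSpecialLinearGroup (Fin 2) F, Four z w → orderOf z = 2 := fun z w h =>
    orderOf_eq_prime (by rw [pow_two, h.aa]) h.a1
  refine ⟨⟨?_, ?_⟩, ?_⟩
  · intro P α h
    obtain ⟨z, w, hz, hw, hzw, hα⟩ := tc_inner R hL h
    exact ⟨z, hzw.aa, hα⟩
  · intro P P' z z' h h'
    obtain ⟨z₁, w, -, -, hzw, hα⟩ := tc_inner R hL h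
    obtain ⟨z₂, w', -, -, hzw', hα'⟩ := tc_inner R hL h'
    have e1 : z = z₁ := R.conj_injective hα
    have e2 : z' = z₂ := R.conj_injective hα'
    subst e1 e2
    exact Cfsg.Agent.ClassicalGeometry.SLTwoFour.psl_isConj ho _ _ (hfour _ _ hzw) (hfour _ _ hzw')
  · unfold NoTC at hno
    push Not at hno
    obtain ⟨P, α, h⟩ := hno
    obtain ⟨z, w, hz, hw, hzw, hα⟩ := tc_inner R hL h
    rw [hα] at h
    have hp := cent_two R hzw h
    have : Fact (Nat.Prime 2) := ⟨Nat.prime_two⟩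
    obtain ⟨n, hn⟩ := hp.exists_card_eq
    refine ⟨n, ?_⟩
    have h4 := (Cfsg.Agent.WeakTI.Four6.psl_count ho (MulEquiv.refl _) hzw.a1 hzw.aa).2
    have h5 : Nat.card {p : F × F // p.1 ^ 2 + p.2 ^ 2 = 1} =
        Nat.card (Cfsg.Agent.Lib.PSL2Circle.Circ F) := by
      refine Nat.card_congr ⟨fun p => ⟨p.1.1, p.1.2, by have := p.2; linear_combination this⟩,
        fun c => ⟨(c.re, c.im), by have := c.eqn; linear_combination this⟩, ?_, ?_⟩
      · rintro ⟨⟨a, b⟩, h⟩; rfl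
      · rintro ⟨a, b, h⟩; rfl
    have h6 := Cfsg.Agent.Lib.PSL2Circle.card_circ (F := F) h2
    rw [← h5, ← h4, hn, Nat.card_eq_fintype_card (α := F)] at h6
    rcases h6 with ⟨-, h6⟩ | ⟨-, h6⟩
    · left; omega
    · right; omega

end Cfsg.Agent.H161.TCPsl2
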