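import Cfsg.Agent.H161.Jordan

/-!
# The inverse of the Jordan block, and transvections
-/

set_option autoImplicit false

namespace Cfsg.Agent.H161.Jordan

open Module

variable {K : Type*} [Field K]

/-- the invertible matrix with columns a basis -/
theorem exists_basis_mat {n : ℕ} (b : Basis (Fin n) K (Fin n → K)) :
    ∃ P : GL (Fin n) K, ∀ v : Fin n → K,
      (P : Matrix (Fin n) (Fin n) K).mulVec v = ∑ i, v i • b i := by
  classical
  let E : (Fin n → K) ≃ₗ[K] (Fin n → K) := (Pi.basisFun K (Fin n)).equiv b (Equiv.refl _)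
  have hE : ∀ v : Fin n → K, E v = ∑ i, v i • b i := by
    intro v
    conv_lhs => rw [← (Pi.basisFun K (Fin n)).sum_repr v]
    rw [map_sum]
    refine Finset.sum_congr rfl fun i _ => ?_
    have h1 : E ((Pi.basisFun K (Fin n)) i) = b i := by
      have := (Pi.basisFun K (Fin n)).equiv_apply i b (Equiv.refl _)
      rwa [Equiv.refl_apply] at this
    rw [map_smul, h1, Pi.basisFun_repr]
  let P : GL (Fin n) K := ⟨LinearMap.toMatrix' (E : (Fin n → K) →ₗ[K] (Fin n → K)),
    LinearMap.toMatrix' (E.symm : (Fin n → K) →ₗ[K] (Fin n → K)), by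
      rw [← LinearMap.toMatrix'_comp]; simp, by
      rw [← LinearMap.toMatrix'_comp]; simp⟩
  refine ⟨P, fun v => ?_⟩
  rw [← hE, ← Matrix.toLin'_apply]
  show Matrix.toLin' (LinearMap.toMatrix' _) v = _
  rw [Matrix.toLin'_toMatrix']
  rfl

theorem ring_pow {R : Type*} [Ring R] (A B : R) (hAB : A * B = 1) (hBA : B * A = 1) (k : ℕ) :
    (A - 1) ^ k = (-A) ^ k * (B - 1) ^ k := by
  have h1 : A - 1 = (-A) * (B - 1) := by rw [mul_sub, neg_mul, hAB]; noncomm_ring
  have hcomm : Commute (-A) (B - 1) := by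
    show (-A) * (B - 1) = (B - 1) * (-A)
    rw [mul_sub, sub_mul, neg_mul, mul_neg, hAB, hBA]; simp
  rw [h1, hcomm.mul_pow]

section

variable {n : ℕ} (J : GL (Fin n) K)
    (hJ : ∀ i j : Fin n, (J : Matrix (Fin n) (Fin n) K) i j =
      if i = j then 1 else if j.val = i.val + 1 then 1 else 0)

/-- `J - 1` -/
def NJ (J : GL (Fin n) K) : (Fin n → K) →ₗ[K] (Fin n → K) :=
  Matrix.toLin' (J : Matrix (Fin n) (Fin n) K) - 1

include hJ in
theorem NJ_apply (v : Fin n → K) (i : Fin n) :
    NJ J v i = if h : i.val + 1 < n then v ⟨i.val + 1, h⟩ else 0 := by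
  classical
  rw [NJ, LinearMap.sub_apply, Pi.sub_apply, Matrix.toLin'_apply, Matrix.mulVec, dotProduct,
    Module.End.one_apply]
  have e3 : ∀ j : Fin n, (J : Matrix (Fin n) (Fin n) K) i j * v j =
      (if i = j then v j else 0) + (if j.val = i.val + 1 then v j else 0) := by
    intro j
    rw [hJ]
    by_cases h1 : i = j
    · subst h1
      simp
    · by_cases h2 : j.val = i.val + 1
      · simp [h1, h2]
      · simp [h1, h2]
  simp only [e3, Finset.sum_add_distrib, Finset.sum_ite_eq, Finset.mem_univ, if_true,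
    add_sub_cancel_left]
  split_ifs with h
  · rw [Finset.sum_eq_single (⟨i.val + 1, h⟩ : Fin n)]
    · simp
    · intro j _ hj
      rw [if_neg]
      intro h'
      exact hj (Fin.ext h')
    · intro h; exact absurd (Finset.mem_univ _) h
  · refine Finset.sum_eq_zero fun j _ => ?_
    rw [if_neg (by have := j.2; omega)]

include hJ in
theorem NJ_pow_apply (k : ℕ) (v : Fin n → K) (i : Fin n) :
    (NJ J ^ k) v i = if h : i.val + k < n then v ⟨i.val + k, h⟩ else 0 := by
  induction k generalizing v with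
  | zero => simp
  | succ k ih =>
    rw [pow_succ, Module.End.mul_apply, ih]
    by_cases h : i.val + k < n
    · rw [dif_pos h, NJ_apply J hJ]
      by_cases h' : i.val + (k + 1) < n
      · rw [dif_pos (by simpa [add_assoc] using h'), dif_pos h']
        congr 1
      · rw [dif_neg (by simpa [add_assoc] using h'), dif_neg h']
    · rw [dif_neg h, dif_neg (by omega)]

include hJ in
/-- The inverse of the Jordan block is conjugate to the Jordan block. -/
theorem inv_conj (hn : 0 < n) : ∃ X : GL (Fin n) K, J⁻¹ = X * J * X⁻¹ := by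
  classical
  let A : Module.End K (Fin n → K) := Matrix.toLin' (J : Matrix (Fin n) (Fin n) K)
  let B : Module.End K (Fin n → K) := Matrix.toLin' ((J⁻¹ : GL (Fin n) K) : Matrix (Fin n) (Fin n) K)
  have hAB : A * B = 1 := by
    show Matrix.toLin' _ ∘ₗ Matrix.toLin' _ = _
    rw [← Matrix.toLin'_mul, ← Units.val_mul, mul_inv_cancel]; simp
    rfl
  have hBA : B * A = 1 := by
    show Matrix.toLin' _ ∘ₗ Matrix.toLin' _ = _
    rw [← Matrix.toLin'_mul, ← Units.val_mul, inv_mul_cancel]; simp
    rfl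
  have hNA : NJ J = A - 1 := rfl
  have hN0 : NJ J ^ n = 0 := by
    ext v i
    simp only [LinearMap.coe_comp, Function.comp_apply]
    rw [NJ_pow_apply J hJ, dif_neg (by omega)]
    simp
  refine exists_conj J hJ (B - 1) ?_ (Pi.single ⟨n - 1, by omega⟩ 1) ?_ J⁻¹ ?_
  · have h1 := ring_pow B A hBA hAB n
    have h2 : (A - 1) ^ n = 0 := hN0
    rw [h2, mul_zero] at h1
    exact h1
  · intro h0
    have h1 := ring_pow A B hAB hBA (n - 1)
    have h3 := LinearMap.congr_fun h1 (Pi.single ⟨n - 1, by omega⟩ 1)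
    rw [Module.End.mul_apply, show ((B - 1) ^ (n - 1)) (Pi.single ⟨n - 1, by omega⟩ 1) = 0 from h0,
      map_zero] at h3
    have h2 := congrFun (show (NJ J ^ (n - 1)) (Pi.single ⟨n - 1, by omega⟩ 1) = 0 from h3) ⟨0, hn⟩
    rw [NJ_pow_apply J hJ, dif_pos (by simp; omega)] at h2
    simp at h2
  · intro v
    rw [LinearMap.sub_apply, Module.End.one_apply]
    show _ = v + (Matrix.toLin' _ v - v)
    rw [Matrix.toLin'_apply]; abel

end

/-- The matrix `T c` -/
def Tc (n : ℕ) (c : K) : Matrix (Fin n) (Fin n) K := fun i j =>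
  if i = j then 1 else if j.val = i.val + 1 then (if i.val = 0 then c else 1) else 0

/-- the diagonal matrix `diag(c, 1, ..., 1)` -/
def Dc (n : ℕ) (c : K) (hc : c ≠ 0) : GL (Fin n) K :=
  ⟨Matrix.diagonal (fun i => if i.val = 0 then c else 1),
    Matrix.diagonal (fun i => if i.val = 0 then c⁻¹ else 1), by
      rw [Matrix.diagonal_mul_diagonal, ← Matrix.diagonal_one]
      congr 1; ext i; split_ifs <;> simp [hc], by
      rw [Matrix.diagonal_mul_diagonal, ← Matrix.diagonal_one]
      congr 1; ext i; split_ifs <;> simp [hc]⟩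

theorem Dc_conj {n : ℕ} (J : GL (Fin n) K)
    (hJ : ∀ i j : Fin n, (J : Matrix (Fin n) (Fin n) K) i j =
      if i = j then 1 else if j.val = i.val + 1 then 1 else 0) (c : K) (hc : c ≠ 0) :
    ((Dc n c hc * J * (Dc n c hc)⁻¹ : GL (Fin n) K) : Matrix (Fin n) (Fin n) K) = Tc n c := by
  show Matrix.diagonal _ * (J : Matrix (Fin n) (Fin n) K) * Matrix.diagonal _ = _
  ext i j
  rw [Matrix.mul_diagonal, Matrix.diagonal_mul, hJ, Tc]
  by_cases h1 : i = j
  · subst h1
    simp only [if_true, mul_one]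
    split_ifs <;> simp [hc]
  · by_cases h2 : j.val = i.val + 1
    · have h3 : ¬ j.val = 0 := by omega
      simp [h1, h2]
    · simp [h1, h2]

/-- `T c * (1 + E₀₁) = T (c + 1)` -/
theorem Tc_mul (n : ℕ) (c : K) : Tc (n + 2) c * Matrix.transvection (0 : Fin (n + 2)) 1 1 =
    Tc (n + 2) (c + 1) := by
  ext i j
  rw [Matrix.transvection, mul_add, Matrix.mul_one, Matrix.add_apply]
  by_cases hj : j = 1
  · subst hj
    rw [Matrix.mul_single_apply_same, mul_one]
    simp only [Tc]
    by_cases hi : i = 0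
    · subst hi
      simp
    · have : i.val ≠ 0 := fun h => hi (Fin.ext h)
      simp [hi, this]
  · rw [Matrix.mul_single_apply_of_ne _ _ _ _ _ hj]
    simp only [Tc, add_zero]
    by_cases h1 : i = j
    · simp [h1]
    · by_cases h2 : j.val = i.val + 1
      · have : i.val ≠ 0 := by
          intro h
          apply hj
          apply Fin.ext
          rw [h2, h]; simp
        simp [h1, h2, this]
      · simp [h1, h2]

end Cfsg.Agent.H161.Jordan
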